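import Cfsg.Agent.S0058
import Cfsg.Agent.S0016
import Cfsg.Agent.SignalizersComponents.CoprimeBasic
import Cfsg.Agent.Lib.Cores
import Cfsg.Agent.Lib.Dihedral
import Cfsg.Agent.H363.Frat

/-!
# General lemmas for the recognition of `PSL(6, 3)` by its element orders (helper407)

* `exists_radical`: the solvable radical;
* `fpf_pgroup`: an `r`-group acting fixed point freely is cyclic or generalized quaternion;
* `exists_lift`: a `p`-subgroup of a quotient lifts to a `p`-subgroup;
* `dihedral_of_quotient`: the proper quotients of generalized quaternion 2-groups are cyclic or dihedral.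
-/

set_option autoImplicit false

namespace Cfsg.Agent.H407.Basic

open Subgroup

variable {G : Type*} [Group G]

/-- the solvable radical -/
theorem exists_radical [Finite G] : ∃ R : Subgroup G, R.Normal ∧ Group.IsSolvable ↥R ∧
    ∀ N : Subgroup G, N.Normal → Group.IsSolvable ↥N → N ≤ R := by
  obtain ⟨R, ⟨hR1, hR2⟩, hR3⟩ := (Set.toFinite {N : Subgroup G | N.Normal ∧ Group.IsSolvable ↥N}).exists_maximal
    ⟨⊥, inferInstance, inferInstance⟩
  refine ⟨R, hR1, hR2, fun N hN hN2 => ?_⟩
  have h1 : Group.IsSolvable ↥(R ⊔ N) := Cfsg.Agent.SignalizersComponents.CoprimeBasic.isSolvable_sup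
    (by rw [Subgroup.normalizer_eq_top]; exact le_top) hR2 hN2
  have h2 : (R ⊔ N : Subgroup G).Normal := Subgroup.sup_normal R N
  exact le_sup_right.trans (hR3 (y := R ⊔ N) ⟨h2, h1⟩ le_sup_left)

/-- in a cyclic group there is at most one subgroup of a given order -/
theorem eq_of_cyclic {A : Subgroup G} [Finite A] [IsCyclic A] {H K : Subgroup G} (hH : H ≤ A) (hK : K ≤ A)
    (h : Nat.card H = Nat.card K) : H = K := by
  classical
  have := Fintype.ofFinite A
  have hfH : Finite H := Finite.of_injective _ (Subgroup.inclusion_injective hH)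
  have hfK : Finite K := Finite.of_injective _ (Subgroup.inclusion_injective hK)
  have h0 : 0 < Nat.card H := Nat.card_pos
  have key : ∀ L : Subgroup G, (hL : L ≤ A) → Nat.card L = Nat.card H →
      (Finset.univ.filter fun a : A => (a : G) ∈ L) = Finset.univ.filter fun a : A => a ^ Nat.card H = 1 := by
    intro L hL hc
    have hfL : Finite L := Finite.of_injective _ (Subgroup.inclusion_injective hL)
    refine Finset.eq_of_subset_of_card_le ?_ ?_
    · intro a ha
      rw [Finset.mem_filter] at ha ⊢
      refine ⟨Finset.mem_univ _, ?_⟩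
      have h1 : (⟨a, ha.2⟩ : L) ^ Nat.card L = 1 := pow_card_eq_one'
      apply Subtype.ext
      have h2 := congrArg Subtype.val h1
      rw [hc] at h2
      simpa using h2
    · refine (IsCyclic.card_pow_eq_one_le h0).trans ?_
      rw [← hc]
      refine le_of_eq ?_
      rw [← Fintype.card_subtype, ← Nat.card_eq_fintype_card]
      refine Nat.card_congr ⟨fun x => ⟨⟨x, hL x.2⟩, x.2⟩, fun x => ⟨x.1, x.2⟩, fun _ => rfl, fun _ => rfl⟩
  have h1 := (key H hH rfl).trans (key K hK h.symm).symm
  ext x
  constructor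
  · intro hx
    have h2 : (⟨x, hH hx⟩ : A) ∈ Finset.univ.filter fun a : A => (a : G) ∈ H :=
      Finset.mem_filter.2 ⟨Finset.mem_univ _, hx⟩
    rw [h1, Finset.mem_filter] at h2
    exact h2.2
  · intro hx
    have h2 : (⟨x, hK hx⟩ : A) ∈ Finset.univ.filter fun a : A => (a : G) ∈ K :=
      Finset.mem_filter.2 ⟨Finset.mem_univ _, hx⟩
    rw [← h1, Finset.mem_filter] at h2
    exact h2.2

/-- abelian groups acting fixed point freely are cyclic -/
theorem fpf_abelian [Finite G] {A V : Subgroup G} (hA : IsMulCommutative A) (hAV : A ≤ normalizer (V : Set G))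
    (hV : V ≠ ⊥) (hcop : (Nat.card A).Coprime (Nat.card V))
    (hf : ∀ a ∈ A, a ≠ 1 → ∀ v ∈ V, a * v = v * a → v = 1) : IsCyclic A := by
  by_contra hc
  apply hV
  rw [← Cfsg.Agent.S0058.result A V hc hAV hcop, eq_bot_iff]
  refine iSup_le fun a => iSup_le fun ha => ?_
  intro v hv
  rw [Subgroup.mem_bot]
  exact hf a ha.1 ha.2 v hv.1 (Subgroup.mem_centralizer_singleton_iff.1 hv.2).symm

/-- an `r`-group acting fixed point freely is cyclic or generalized quaternion -/
theorem fpf_pgroup [Finite G] {r : ℕ} (hr : r.Prime) {P V : Subgroup G} (hP : IsPGroup r P)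
    (hPV : P ≤ normalizer (V : Set G)) (hV : V ≠ ⊥) (hcop : (Nat.card P).Coprime (Nat.card V))
    (hf : ∀ a ∈ P, a ≠ 1 → ∀ v ∈ V, a * v = v * a → v = 1) :
    IsCyclic P ∨ (r = 2 ∧ ∃ n : ℕ, Nonempty (P ≃* QuaternionGroup (2 ^ n))) := by
  have : Fact r.Prime := ⟨hr⟩
  refine Cfsg.Agent.S0016.result r hP fun H K hH hK => ?_
  by_contra hne
  -- a central element of order `r`
  have hnt : Nontrivial P := by
    by_contra h
    rw [not_nontrivial_iff_subsingleton] at h
    have : Nat.card H ≤ 1 := by
      have := Finite.card_le_one_iff_subsingleton (α := H)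
      rw [this]; infer_instance
    have := hr.two_le
    omega
  have hZ : Nontrivial (center P) := hP.center_nontrivial
  have hZd : r ∣ Nat.card (center P) := by
    obtain ⟨n, hn⟩ := (IsPGroup.iff_card).1 (hP.to_subgroup (center P))
    have h1 : 1 < Nat.card (center P) := Finite.one_lt_card
    rw [hn] at h1 ⊢
    exact dvd_pow_self r (by rintro rfl; simp at h1)
  obtain ⟨z, hz⟩ := exists_prime_orderOf_dvd_card' r hZd
  have hz' : orderOf (z : P) = r := by rw [Subgroup.orderOf_coe, hz]
  have hZc : Nat.card (zpowers (z : P)) = r := by rw [Nat.card_zpowers, hz']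
  -- `key`: a subgroup of order `r` is `⟨z⟩`
  have key : ∀ L : Subgroup P, Nat.card L = r → L = zpowers (z : P) := by
    intro L hL
    obtain ⟨a, ha⟩ := exists_prime_orderOf_dvd_card' (G := L) r (by rw [hL])
    have ha' : orderOf (a : P) = r := by rw [Subgroup.orderOf_coe, ha]
    have hLa : L = zpowers (a : P) := by
      symm
      refine Subgroup.eq_of_le_of_card_ge ?_ ?_
      · rw [zpowers_le]; exact a.2
      · rw [hL, Nat.card_zpowers, ha']
    set A : Subgroup P := closure {(z : P), (a : P)} with hA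
    have hAc : IsMulCommutative A := by
      refine Subgroup.isMulCommutative_closure ?_
      intro x hx y hy
      have hzc : ∀ g : P, g * (z : P) = z * g := fun g => (mem_center_iff.1 z.2 g)
      rcases hx with rfl | rfl <;> rcases hy with rfl | rfl
      · rfl
      · exact (hzc _).symm
      · exact hzc _
      · rfl
    set B : Subgroup G := A.map P.subtype with hB
    have hBc : IsMulCommutative B := by
      refine ⟨⟨?_⟩⟩
      rintro ⟨_, x, hx, rfl⟩ ⟨_, y, hy, rfl⟩
      have := hAc.is_comm.comm ⟨x, hx⟩ ⟨y, hy⟩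
      apply Subtype.ext
      exact congrArg (fun t : A => ((t : P) : G)) this
    have hBP : B ≤ P := map_subtype_le A
    have hBcyc : IsCyclic B := fpf_abelian hBc (hBP.trans hPV) hV
      (Nat.Coprime.coprime_dvd_left (card_dvd_of_le hBP) hcop) (fun b hb => hf b (hBP hb))
    have hAcyc : IsCyclic A := isCyclic_of_injective (A.equivMapOfInjective P.subtype P.subtype_injective).toMonoidHom
      (A.equivMapOfInjective P.subtype P.subtype_injective).injective
    refine eq_of_cyclic (A := A) ?_ ?_ (by rw [hL, hZc])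
    · rw [hLa, zpowers_le, hA]
      exact subset_closure (by simp)
    · rw [zpowers_le, hA]
      exact subset_closure (by simp)
  exact hne ((key H hH).trans (key K hK).symm)

/-- a `p`-subgroup of a quotient lifts to a `p`-subgroup -/
theorem exists_lift {X Y : Type*} [Group X] [Finite X] [Group Y] {p : ℕ} (hp : p.Prime) (f : X →* Y)
    (hf : Function.Surjective f) {Q : Subgroup Y} (hQ : IsPGroup p Q) :
    ∃ P : Subgroup X, IsPGroup p P ∧ P.map f = Q := by
  have : Fact p.Prime := ⟨hp⟩
  let g : ↥(Q.comap f) →* Q := f.subgroupComap Q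
  have hg : Function.Surjective g := MonoidHom.subgroupComap_surjective_of_surjective f Q hf
  have : Finite Q := Finite.of_surjective g hg
  obtain ⟨S⟩ : Nonempty (Sylow p ↥(Q.comap f)) := inferInstance
  have h1 : (S.mapSurjective hg : Subgroup Q) = ⊤ := by
    have hQ' : IsPGroup p (⊤ : Subgroup Q) := hQ.of_equiv topEquiv.symm
    exact (S.mapSurjective hg).is_maximal' hQ' le_top |>.symm
  rw [Sylow.coe_mapSurjective] at h1
  refine ⟨(S : Subgroup ↥(Q.comap f)).map (Q.comap f).subtype, S.isPGroup'.map _, ?_⟩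
  rw [map_map]
  have h2 : f.comp (Q.comap f).subtype = Q.subtype.comp g := rfl
  rw [h2, ← map_map, h1, ← MonoidHom.range_eq_map, range_subtype]

open QuaternionGroup in
/-- a nontrivial normal subgroup of a generalized quaternion 2-group contains the central involution -/
theorem mem_ker_of_ne_bot {m : ℕ} (K : Subgroup (QuaternionGroup (2 ^ m))) (hK : K ≠ ⊥) :
    a ((2 ^ m : ℕ) : ZMod (2 * 2 ^ m)) ∈ K := by
  have hne : NeZero (2 ^ m) := ⟨by positivity⟩
  have : Fact (Nat.Prime 2) := ⟨Nat.prime_two⟩
  have hnt : Nontrivial K := (Subgroup.nontrivial_iff_ne_bot K).2 hK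
  have hG : IsPGroup 2 (QuaternionGroup (2 ^ m)) := by
    rw [IsPGroup.iff_card]
    refine ⟨m + 2, ?_⟩
    rw [Nat.card_eq_fintype_card, QuaternionGroup.card, pow_add, mul_comm]
    norm_num
  have hd : 2 ∣ Nat.card K := by
    obtain ⟨n, hn⟩ := (IsPGroup.iff_card).1 (hG.to_subgroup K)
    have h1 : 1 < Nat.card K := Finite.one_lt_card
    rw [hn] at h1 ⊢
    exact dvd_pow_self 2 (by rintro rfl; simp at h1)
  obtain ⟨k, hk⟩ := exists_prime_orderOf_dvd_card' 2 hd
  have hk' : orderOf (k : QuaternionGroup (2 ^ m)) = 2 := by rw [Subgroup.orderOf_coe, hk]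
  have hk2 : (k : QuaternionGroup (2 ^ m)) * k = 1 := by
    have h := pow_orderOf_eq_one (k : QuaternionGroup (2 ^ m))
    rwa [hk', pow_two] at h
  have hk1 : (k : QuaternionGroup (2 ^ m)) ≠ 1 := by
    intro h
    rw [h, orderOf_one] at hk'
    omega
  have hkK : (k : QuaternionGroup (2 ^ m)) ∈ K := k.2
  have hn0 : ((2 ^ m : ℕ) : ZMod (2 * 2 ^ m)) ≠ 0 := by
    rw [Ne, ZMod.natCast_eq_zero_iff]
    intro h
    have := Nat.le_of_dvd (by positivity) h
    have := Nat.pos_of_ne_zero hne.out
    omega
  generalize (k : QuaternionGroup (2 ^ m)) = x at hk2 hk1 hkK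
  rcases x with i | i
  · rw [a_mul_a, one_def] at hk2
    rw [one_def] at hk1
    have h1 : i + i = 0 := QuaternionGroup.a.inj hk2
    have h2 : i ≠ 0 := fun h => hk1 (by rw [h])
    have hN : NeZero (2 * 2 ^ m) := ⟨by positivity⟩
    have h3 : ((i.val + i.val : ℕ) : ZMod (2 * 2 ^ m)) = 0 := by
      rw [Nat.cast_add, ZMod.natCast_zmod_val, h1]
    rw [ZMod.natCast_eq_zero_iff] at h3
    have h4 : i.val < 2 * 2 ^ m := ZMod.val_lt i
    have h5 : i.val ≠ 0 := fun h => h2 ((ZMod.val_eq_zero i).1 h)
    obtain ⟨c, hc⟩ := h3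
    have h6 : i.val = 2 ^ m := by
      have hc1 : c = 1 := by
        rcases Nat.lt_or_ge c 1 with h | h
        · have : c = 0 := by omega
          rw [this, mul_zero] at hc
          omega
        · rcases Nat.lt_or_ge 1 c with h7 | h7
          · exfalso
            have : 2 * 2 ^ m * 2 ≤ 2 * 2 ^ m * c := Nat.mul_le_mul_left _ h7
            omega
          · omega
      rw [hc1, mul_one] at hc
      omega
    have h7 : i = ((2 ^ m : ℕ) : ZMod (2 * 2 ^ m)) := by
      have h8 := congrArg (Nat.cast (R := ZMod (2 * 2 ^ m))) h6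
      rwa [ZMod.natCast_zmod_val] at h8
    rw [← h7]
    exact hkK
  · exfalso
    rw [xa_mul_xa, add_sub_cancel_right, one_def] at hk2
    exact hn0 (QuaternionGroup.a.inj hk2)

open QuaternionGroup in
/-- **Proper quotients of generalized quaternion 2-groups** are cyclic or dihedral. -/
theorem dihedral_of_quotient {P D : Type*} [Group P] [Group D] {m : ℕ} (e : P ≃* QuaternionGroup (2 ^ m))
    (f : P →* D) (hf : Function.Surjective f) (hk : f.ker ≠ ⊥) :
    IsCyclic D ∨ ∃ n, 2 ≤ n ∧ Nonempty (D ≃* DihedralGroup n) := by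
  have hne : NeZero (2 ^ m) := ⟨by positivity⟩
  set g : QuaternionGroup (2 ^ m) →* D := f.comp e.symm.toMonoidHom with hg
  have hgs : Function.Surjective g := hf.comp e.symm.surjective
  have hDf : Finite D := Finite.of_surjective g hgs
  have hgk : g.ker ≠ ⊥ := by
    intro h
    apply hk
    rw [eq_bot_iff]
    intro x hx
    have h1 : e x ∈ g.ker := by
      rw [MonoidHom.mem_ker, hg, MonoidHom.comp_apply]
      change f (e.symm (e x)) = 1
      rw [e.symm_apply_apply]
      exact hx
    rw [h, Subgroup.mem_bot] at h1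
    rw [Subgroup.mem_bot]
    exact e.map_eq_one_iff.1 h1
  have hz := mem_ker_of_ne_bot g.ker hgk
  rw [MonoidHom.mem_ker] at hz
  set r : D := g (a 1) with hr
  set s : D := g (xa 0) with hs
  have hss : s * s = 1 := by
    rw [hs, ← map_mul, xa_mul_xa, sub_zero, add_zero, hz]
  have hsr : s * r * s = r⁻¹ := by
    rw [hs, hr, ← map_mul, ← map_mul, xa_mul_a, xa_mul_xa, zero_add, add_zero, sub_eq_add_neg, ← a_mul_a, map_mul, hz,
      one_mul]
    apply eq_inv_of_mul_eq_one_left
    rw [← map_mul, a_mul_a, neg_add_cancel, ← one_def, map_one]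
  have hra : ∀ i : ZMod (2 * 2 ^ m), g (a i) = r ^ i.val := by
    intro i
    have hN : NeZero (2 * 2 ^ m) := ⟨by positivity⟩
    rw [hr, ← map_pow, a_one_pow, ZMod.natCast_zmod_val]
  have hall : ∀ d : D, ∃ i : ℕ, d = r ^ i ∨ d = s * r ^ i := by
    intro d
    obtain ⟨x, rfl⟩ := hgs d
    rcases x with i | i
    · exact ⟨i.val, Or.inl (hra i)⟩
    · refine ⟨i.val, Or.inr ?_⟩
      rw [← hra, hs, ← map_mul, xa_mul_a, zero_add]
  by_cases hsz : s ∈ zpowers r
  · left
    refine ⟨r, fun d => ?_⟩
    obtain ⟨i, rfl | rfl⟩ := hall d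
    · exact npow_mem_zpowers r i
    · exact mul_mem hsz (npow_mem_zpowers r i)
  · by_cases h1 : r = 1
    · left
      refine ⟨s, fun d => ?_⟩
      obtain ⟨i, rfl | rfl⟩ := hall d
      · rw [h1, one_pow]; exact (zpowers s).one_mem
      · rw [h1, one_pow, mul_one]; exact mem_zpowers s
    · right
      refine ⟨orderOf r, ?_, ?_⟩
      · have h2 := orderOf_pos r
        have h3 : orderOf r ≠ 1 := fun h => h1 (orderOf_eq_one_iff.1 h)
        omega
      · obtain ⟨e'⟩ := Cfsg.Agent.Lib.Dihedral.nonempty_mulEquiv_closure r s rfl hss hsr hsz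
        have htop : closure {r, s} = (⊤ : Subgroup D) := by
          rw [eq_top_iff]
          intro d _
          have hr' : r ∈ closure ({r, s} : Set D) := subset_closure (by simp)
          have hs' : s ∈ closure ({r, s} : Set D) := subset_closure (by simp)
          obtain ⟨i, rfl | rfl⟩ := hall d
          · exact pow_mem hr' i
          · exact mul_mem hs' (pow_mem hr' i)
        exact ⟨(topEquiv.symm.trans (MulEquiv.subgroupCongr htop.symm)).trans e'⟩

end Cfsg.Agent.H407.Basic
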