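import Cfsg.Agent.H388.FinSimple

/-!
# Simple groups with all prime divisors of the order at most 13 and order divisible by 121 (helper407)

They are `PSL(5, 3)` and `PSL(6, 3)`.
-/

set_option autoImplicit false
set_option maxRecDepth 100000

namespace Cfsg.Agent.H407.Arith

open Cfsg Cfsg.Agent.OrdDiv Cfsg.Agent.H388.FinSimple

universe u

/-- the families besides `PSL` -/
def fams' : List Fam := [fPSp, fPSU, fOOdd, fOPlus, fOMinus, fG2, fF4, fE6, fE7, fE8, fTE6, fTD4, fSz, fRee, fTF4]

/-- **The orders of the known simple groups, the family `PSL` with its isomorphism type.** -/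
theorem known_cases (T : OrderTable.{u}) {S : Type u} [Group S] (h : IsKnownSimple' S)
    (hna : ¬ ∀ a b : S, a * b = b * a) :
    (∃ n : ℕ, 5 ≤ n ∧ 2 * Nat.card S = n.factorial) ∨ (∃ x ∈ spor, Nat.card S = x.2) ∨
      (∃ (F : Type) (_ : Field F) (_ : Fintype F) (n : ℕ), 2 ≤ n ∧
        Nonempty (S ≃* Matrix.ProjectiveSpecialLinearGroup (Fin n) F)) ∨
      ∃ D ∈ fams', ∃ n q, Mem D n q (Nat.card S) := by
  have key : ∀ (g : Grp), g ∈ spor.map (fun x => x.1) → Real g S → ∃ x ∈ spor, Nat.card S = x.2 := fun g hg hr => by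
    obtain ⟨x, hx, rfl⟩ := List.mem_map.1 hg
    exact ⟨x, hx, T.spor S x hx hr⟩
  rcases h with h | h | h | h | h | h | h | h | h | h
  · exfalso
    have : Fact (Nat.card S).Prime := ⟨h⟩
    have : IsCyclic S := isCyclic_of_prime_card (p := Nat.card S) rfl
    exact hna fun a b => (IsCyclic.isMulCommutative (α := S)).is_comm.comm a b
  · obtain ⟨n, hn, ⟨e⟩⟩ := h
    exact Or.inl ⟨n, hn, (alt_card hn e).symm⟩
  · obtain ⟨F, _, _, n, hn, hn2, ⟨e⟩⟩ := h
    exact Or.inr (Or.inr (Or.inl ⟨F, inferInstance, inferInstance, n, hn, ⟨e⟩⟩))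
  · obtain ⟨F, _, _, n, hn, hn2, ⟨e⟩⟩ := h
    exact Or.inr (Or.inr (Or.inr ⟨fPSp, by simp [fams'], n, _, by rw [Nat.card_congr e.toEquiv]; exact psp_mem hn⟩))
  · obtain ⟨F, _, _, n, q, hF, hn, hn2, ⟨e⟩⟩ := h
    exact Or.inr (Or.inr (Or.inr ⟨fPSU, by simp [fams'], n, _, by rw [Nat.card_congr e.toEquiv]; exact psu_mem hF hn⟩))
  · obtain ⟨F, _, _, n, hn, ho, ⟨e⟩⟩ := h
    exact Or.inr (Or.inr (Or.inr ⟨fOOdd, by simp [fams'], n, _, by rw [Nat.card_congr e.toEquiv]; exact oodd_mem hn ho⟩))
  · obtain ⟨F, _, _, n, hn, ⟨e⟩⟩ := h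
    exact Or.inr (Or.inr (Or.inr ⟨fOPlus, by simp [fams'], n, _, by rw [Nat.card_congr e.toEquiv]; exact oplus_mem hn⟩))
  · obtain ⟨F, _, _, n, a, b, hn, hab, ⟨e⟩⟩ := h
    exact Or.inr (Or.inr (Or.inr ⟨fOMinus, by simp [fams'], n, _, by rw [Nat.card_congr e.toEquiv]; exact ominus_mem hn hab⟩))
  · rcases h with h | h | h | h | h | h | h | h | h | h | h
    · obtain ⟨F, _, _, hq, ⟨e⟩⟩ := h
      refine Or.inr (Or.inr (Or.inr ⟨fG2, by simp [fams'], 0, Fintype.card F, ?_⟩))
      rw [Nat.card_congr e.toEquiv]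
      exact one_mem (by norm_num) Fintype.isPrimePow_card_of_field (by rw [T.g2 F]; ring) (Nat.coprime_one_left _)
    · obtain ⟨F, _, _, ⟨e⟩⟩ := h
      refine Or.inr (Or.inr (Or.inr ⟨fF4, by simp [fams'], 0, Fintype.card F, ?_⟩))
      rw [Nat.card_congr e.toEquiv]
      exact one_mem (by norm_num) Fintype.isPrimePow_card_of_field (by rw [T.f4 F _ rfl]; ring)
        (Nat.coprime_one_left _)
    · obtain ⟨F, _, _, ⟨e⟩⟩ := h
      refine Or.inr (Or.inr (Or.inr ⟨fE6, by simp [fams'], 0, Fintype.card F, ?_⟩))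
      rw [Nat.card_congr e.toEquiv]
      have h0 := cop_sub (q := Fintype.card F) (k := 1) Fintype.card_pos le_rfl
      rw [pow_one] at h0
      exact one_mem (by norm_num) Fintype.isPrimePow_card_of_field (by rw [T.e6 F _ rfl]; ring)
        (Nat.Coprime.coprime_dvd_left (Nat.gcd_dvd_right _ _) h0)
    · obtain ⟨F, _, _, ⟨e⟩⟩ := h
      refine Or.inr (Or.inr (Or.inr ⟨fE7, by simp [fams'], 0, Fintype.card F, ?_⟩))
      rw [Nat.card_congr e.toEquiv]
      have h0 := cop_sub (q := Fintype.card F) (k := 1) Fintype.card_pos le_rfl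
      rw [pow_one] at h0
      exact one_mem (by norm_num) Fintype.isPrimePow_card_of_field (by rw [T.e7 F _ rfl]; ring)
        (Nat.Coprime.coprime_dvd_left (Nat.gcd_dvd_right _ _) h0)
    · obtain ⟨F, _, _, ⟨e⟩⟩ := h
      refine Or.inr (Or.inr (Or.inr ⟨fE8, by simp [fams'], 0, Fintype.card F, ?_⟩))
      rw [Nat.card_congr e.toEquiv]
      exact one_mem (by norm_num) Fintype.isPrimePow_card_of_field (by rw [T.e8 F _ rfl]; ring)
        (Nat.coprime_one_left _)
    · obtain ⟨F, _, _, q, hq, hF, ⟨e⟩⟩ := h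
      refine Or.inr (Or.inr (Or.inr ⟨fTE6, by simp [fams'], 0, q, ?_⟩))
      rw [Nat.card_congr e.toEquiv]
      have h0 := cop_add (q := q) (k := 1) le_rfl
      rw [pow_one] at h0
      exact one_mem (by norm_num) hq (by rw [T.te6 F q hq hF]; ring)
        (Nat.Coprime.coprime_dvd_left (Nat.gcd_dvd_right _ _) h0)
    · obtain ⟨F, _, _, q, hq, hF, ⟨e⟩⟩ := h
      refine Or.inr (Or.inr (Or.inr ⟨fTD4, by simp [fams'], 0, q, ?_⟩))
      rw [Nat.card_congr e.toEquiv]
      exact one_mem (by norm_num) hq (by rw [T.td4 F q hq hF]; ring) (Nat.coprime_one_left _)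
    · obtain ⟨F, _, _, m, hm, hF, ⟨e⟩⟩ := h
      refine Or.inr (Or.inr (Or.inr ⟨fSz, by simp [fams'], 0, 2 ^ (2 * m + 1), ?_⟩))
      rw [Nat.card_congr e.toEquiv]
      exact one_mem (by norm_num) (Nat.prime_two.isPrimePow.pow (by omega)) (by rw [T.sz F m hm hF]; ring)
        (Nat.coprime_one_left _)
    · obtain ⟨F, _, _, m, hm, hF, ⟨e⟩⟩ := h
      refine Or.inr (Or.inr (Or.inr ⟨fRee, by simp [fams'], 0, 3 ^ (2 * m + 1), ?_⟩))
      rw [Nat.card_congr e.toEquiv]
      exact one_mem (by norm_num) (Nat.prime_three.isPrimePow.pow (by omega)) (by rw [T.ree F m hm hF]; ring)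
        (Nat.coprime_one_left _)
    · obtain ⟨F, _, _, m, hm, hF, ⟨e⟩⟩ := h
      refine Or.inr (Or.inr (Or.inr ⟨fTF4, by simp [fams'], 0, 2 ^ (2 * m + 1), ?_⟩))
      rw [Nat.card_congr e.toEquiv]
      exact one_mem (by norm_num) (Nat.prime_two.isPrimePow.pow (by omega)) (by rw [T.tf4 F m hm hF]; ring)
        (Nat.coprime_one_left _)
    · exact Or.inr (Or.inl (key .tits (by decide) h))
  · refine Or.inr (Or.inl ?_)
    rcases h with h | h | h | h | h | h | h | h | h | h | h | h | h | h | h | h | h | h | h | h | h | h | h | h | h | h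
    · exact key .m11 (by decide) h
    · exact key .m12 (by decide) h
    · exact key .m22 (by decide) h
    · exact key .m23 (by decide) h
    · exact key .m24 (by decide) h
    · exact key .j1 (by decide) h
    · exact key .j2 (by decide) h
    · exact key .j3 (by decide) h
    · exact key .j4 (by decide) h
    · exact key .co1 (by decide) h
    · exact key .co2 (by decide) h
    · exact key .co3 (by decide) h
    · exact key .mcl (by decide) h
    · exact key .hs (by decide) h
    · exact key .suz (by decide) h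
    · exact key .he (by decide) h
    · exact key .ru (by decide) h
    · exact key .on (by decide) h
    · exact key .ly (by decide) h
    · exact key .fi22 (by decide) h
    · exact key .fi23 (by decide) h
    · exact key .fi24 (by decide) h
    · exact key .hn (by decide) h
    · exact key .th (by decide) h
    · exact key .b (by decide) h
    · exact key .m (by decide) h


/-! ### smooth numbers -/

/-- all prime divisors are at most 13 -/
def Sm (c : ℕ) : Prop := ∀ r : ℕ, r.Prime → r ∣ c → r ≤ 13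

/-- test for `Sm` -/
def smB (c : ℕ) : Bool := Nat.beq ((30030 ^ (Nat.log2 c + 1)) % c) 0

theorem smB_of {c : ℕ} (hc : c ≠ 0) (h : Sm c) : smB c = true := by
  unfold smB
  rw [Nat.beq_eq]
  apply Nat.mod_eq_zero_of_dvd
  rw [← Nat.factorization_le_iff_dvd hc (by positivity)]
  intro p
  by_cases hp : p.Prime
  · by_cases hpc : p ∣ c
    · have h13 := h p hp hpc
      have hd : p ∣ 30030 := by
        have h2 := hp.two_le
        interval_cases p <;> first | decide | (exfalso; revert hp; decide)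
      have h1 : 1 ≤ (30030 : ℕ).factorization p := (hp.dvd_iff_one_le_factorization (by norm_num)).1 hd
      have h2 : c.factorization p < Nat.log2 c + 1 := by
        have h3 : p ^ c.factorization p ≤ c := Nat.le_of_dvd (Nat.pos_of_ne_zero hc) (Nat.ordProj_dvd c p)
        have h4 : 2 ^ c.factorization p ≤ c := (Nat.pow_le_pow_left hp.two_le _).trans h3
        have h5 : c < 2 ^ (Nat.log2 c + 1) := Nat.lt_log2_self
        exact (Nat.pow_lt_pow_iff_right (by norm_num)).1 (h4.trans_lt h5)
      rw [Nat.factorization_pow, Finsupp.smul_apply, smul_eq_mul]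
      calc c.factorization p ≤ (Nat.log2 c + 1) * 1 := by omega
        _ ≤ _ := Nat.mul_le_mul_left _ h1
    · rw [Nat.factorization_eq_zero_of_not_dvd hpc]
      exact Nat.zero_le _
  · rw [Nat.factorization_eq_zero_of_not_prime _ hp]
    exact Nat.zero_le _

/-- the test for the order of the member `(n, q)` of the family `D` -/
def bad (D : Fam) (n q : ℕ) : Bool :=
  Nat.beq ((D.num n q / D.den n q) % 121) 0 && smB (D.num n q / D.den n q)

/-- the parameters `(n, p ^ f)` with `f ≤ 13` and `n ≤ 2 (13 / f) + 2` -/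
def pars (lo : ℕ) : List (ℕ × ℕ) :=
  [2, 3, 5, 7, 11, 13].flatMap fun p => (List.range 13).flatMap fun f =>
    ((List.range (2 * (13 / (f + 1)) + 3)).filter fun n => Nat.ble lo n).map fun n => (n, p ^ (f + 1))

theorem mem_pars {lo p f n k : ℕ} (hp : p.Prime) (hp13 : p ≤ 13) (hf : 1 ≤ f) (hk : 1 ≤ k) (hfk : f * k ≤ 13)
    (hn : n ≤ 2 * k + 2) (hlo : lo ≤ n) : (n, p ^ f) ∈ pars lo := by
  unfold pars
  rw [List.mem_flatMap]
  refine ⟨p, ?_, ?_⟩
  · have h2 := hp.two_le
    interval_cases p <;> first | decide | (exfalso; revert hp; decide)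
  · rw [List.mem_flatMap]
    have h1 : f ≤ f * k := Nat.le_mul_of_pos_right f hk
    refine ⟨f - 1, List.mem_range.2 (by omega), ?_⟩
    rw [List.mem_map]
    have h2 : k ≤ 13 / f := (Nat.le_div_iff_mul_le hf).2 (by rw [mul_comm]; exact hfk)
    refine ⟨n, ?_, by rw [Nat.sub_add_cancel hf]⟩
    rw [List.mem_filter, List.mem_range, Nat.sub_add_cancel hf, Nat.ble_eq]
    exact ⟨by omega, hlo⟩

/-- the members of a family with smooth order divisible by 121 -/
theorem fam_bad (D : Fam) (hD : Nice D) {n q c : ℕ} (hM : Mem D n q c) (h0 : D.lo = 0 → n = 0) (hc0 : 0 < c)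
    (hm : Sm c) (h121 : 121 ∣ c) : (n, q) ∈ (pars D.lo).filter fun x => bad D x.1 x.2 := by
  obtain ⟨hq, hn, hc, hqd, hcop⟩ := hM
  obtain ⟨p, f, hp, hf, rfl⟩ := hq
  rw [← Nat.prime_iff] at hp
  have hpc : p ∣ c := by
    have h1 : p ^ f ∣ D.den n (p ^ f) * c := by rw [hc]; exact hqd
    exact (dvd_pow_self p (by omega)).trans (hcop.symm.dvd_of_dvd_mul_left h1)
  have hpm := hm p hp hpc
  obtain ⟨k, hk, hnk, hr⟩ := hD n (p ^ f) hn
  have hfk : f * k ≤ 13 := by
    by_contra h
    obtain ⟨r, hr1, hr2⟩ := exists_prim (B := 13) hp hf hk (by norm_num) (not_le.1 h)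
    obtain ⟨h1, h2⟩ := hr r hr1
    rw [← hc] at h1
    have h3 := hm r hr1.1 (((hr1.1.dvd_mul).1 h1).resolve_left h2)
    omega
  have hden : 0 < D.den n (p ^ f) := by
    rcases Nat.eq_zero_or_pos (D.den n (p ^ f)) with h | h
    · rw [h, Nat.coprime_zero_left] at hcop
      have := Nat.one_lt_pow (by omega : f ≠ 0) hp.one_lt
      omega
    · exact h
  have hcd : D.num n (p ^ f) / D.den n (p ^ f) = c := Nat.div_eq_of_eq_mul_right hden hc.symm
  rw [List.mem_filter]
  refine ⟨mem_pars hp hpm hf hk hfk ?_ hn, ?_⟩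
  · rcases hnk with h | h
    · rw [h0 h]; omega
    · exact h
  · change bad D n (p ^ f) = true
    unfold bad
    rw [hcd, Bool.and_eq_true, Nat.beq_eq]
    exact ⟨Nat.mod_eq_zero_of_dvd h121, smB_of hc0.ne' hm⟩

theorem check'_fPSp : (pars fPSp.lo).filter (fun x => bad fPSp x.1 x.2) = [] := by
  decide +kernel

theorem check'_fPSU : (pars fPSU.lo).filter (fun x => bad fPSU x.1 x.2) = [] := by
  decide +kernel

theorem check'_fOOdd : (pars fOOdd.lo).filter (fun x => bad fOOdd x.1 x.2) = [] := by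
  decide +kernel

theorem check'_fOPlus : (pars fOPlus.lo).filter (fun x => bad fOPlus x.1 x.2) = [] := by
  decide +kernel

theorem check'_fOMinus : (pars fOMinus.lo).filter (fun x => bad fOMinus x.1 x.2) = [] := by
  decide +kernel

theorem check' : ∀ D ∈ fams', D.lo ≠ 0 → (pars D.lo).filter (fun x => bad D x.1 x.2) = [] := by
  intro D hD h
  simp only [fams', List.mem_cons, List.not_mem_nil, or_false] at hD
  rcases hD with rfl | rfl | rfl | rfl | rfl | rfl | rfl | rfl | rfl | rfl | rfl | rfl | rfl | rfl | rfl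
  · exact check'_fPSp
  · exact check'_fPSU
  · exact check'_fOOdd
  · exact check'_fOPlus
  · exact check'_fOMinus
  all_goals exact absurd rfl h

theorem check0_fG2 : ((pars 0).filter fun x => Nat.beq x.1 0).filter
    (fun x => bad fG2 x.1 x.2) = [] := by
  decide +kernel

theorem check0_fF4 : ((pars 0).filter fun x => Nat.beq x.1 0).filter
    (fun x => bad fF4 x.1 x.2) = [] := by
  decide +kernel

theorem check0_fE6 : ((pars 0).filter fun x => Nat.beq x.1 0).filter
    (fun x => bad fE6 x.1 x.2) = [] := by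
  decide +kernel

theorem check0_fE7 : ((pars 0).filter fun x => Nat.beq x.1 0).filter
    (fun x => bad fE7 x.1 x.2) = [] := by
  decide +kernel

theorem check0_fE8 : ((pars 0).filter fun x => Nat.beq x.1 0).filter
    (fun x => bad fE8 x.1 x.2) = [] := by
  decide +kernel

theorem check0_fTE6 : ((pars 0).filter fun x => Nat.beq x.1 0).filter
    (fun x => bad fTE6 x.1 x.2) = [] := by
  decide +kernel

theorem check0_fTD4 : ((pars 0).filter fun x => Nat.beq x.1 0).filter
    (fun x => bad fTD4 x.1 x.2) = [] := by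
  decide +kernel

theorem check0_fSz : ((pars 0).filter fun x => Nat.beq x.1 0).filter
    (fun x => bad fSz x.1 x.2) = [] := by
  decide +kernel

theorem check0_fRee : ((pars 0).filter fun x => Nat.beq x.1 0).filter
    (fun x => bad fRee x.1 x.2) = [] := by
  decide +kernel

theorem check0_fTF4 : ((pars 0).filter fun x => Nat.beq x.1 0).filter
    (fun x => bad fTF4 x.1 x.2) = [] := by
  decide +kernel

theorem check0 : ∀ D ∈ fams', D.lo = 0 → ((pars 0).filter fun x => Nat.beq x.1 0).filter
    (fun x => bad D x.1 x.2) = [] := by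
  intro D hD h
  simp only [fams', List.mem_cons, List.not_mem_nil, or_false] at hD
  rcases hD with rfl | rfl | rfl | rfl | rfl | rfl | rfl | rfl | rfl | rfl | rfl | rfl | rfl | rfl | rfl
  · exact absurd h (by decide)
  · exact absurd h (by decide)
  · exact absurd h (by decide)
  · exact absurd h (by decide)
  · exact absurd h (by decide)
  · exact check0_fG2
  · exact check0_fF4
  · exact check0_fE6
  · exact check0_fE7
  · exact check0_fE8
  · exact check0_fTE6
  · exact check0_fTD4
  · exact check0_fSz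
  · exact check0_fRee
  · exact check0_fTF4

theorem check_psl : (pars 2).filter (fun x => bad fPSL x.1 x.2) = [(5, 3), (6, 3)] := by
  decide +kernel

theorem check_spor : ∀ x ∈ spor, ¬ (Nat.beq (x.2 % 121) 0 = true ∧ smB x.2 = true) := by
  decide +kernel

theorem check_alt : ¬ 121 ∣ Nat.factorial 16 := by
  decide +kernel

/-- **The simple groups with all prime divisors of the order at most 13 and order divisible by 121** are `PSL(5, 3)`
and `PSL(6, 3)`. -/
theorem main (T : OrderTable.{u}) {S : Type u} [Group S] [Finite S] (hS : IsKnownSimple' S)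
    (hna : ¬ ∀ a b : S, a * b = b * a) (hm : Sm (Nat.card S)) (h121 : 121 ∣ Nat.card S) :
    ∃ (F : Type) (_ : Field F) (_ : Fintype F), Fintype.card F = 3 ∧
      (Nonempty (S ≃* Matrix.ProjectiveSpecialLinearGroup (Fin 5) F) ∨
        Nonempty (S ≃* Matrix.ProjectiveSpecialLinearGroup (Fin 6) F)) := by
  have hc0 : 0 < Nat.card S := Nat.card_pos
  rcases known_cases T hS hna with ⟨n, hn, hc⟩ | ⟨x, hx, hc⟩ | ⟨F, _, _, n, hn, ⟨e⟩⟩ | ⟨D, hD, n, q, hM⟩
  · exfalso
    by_cases h17 : 17 ≤ n
    · have hp : (17 : ℕ).Prime := by norm_num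
      have h2 : 17 ∣ 2 * Nat.card S := by
        rw [hc]
        exact (hp.dvd_factorial).2 h17
      have h3 : 17 ∣ Nat.card S := by
        rcases (hp.dvd_mul).1 h2 with h4 | h4
        · exact absurd h4 (by norm_num)
        · exact h4
      have := hm 17 hp h3
      omega
    · apply check_alt
      refine (h121.mul_left 2).trans ?_
      rw [hc]
      exact Nat.factorial_dvd_factorial (by omega)
  · exfalso
    refine check_spor x hx ⟨?_, ?_⟩
    · rw [Nat.beq_eq, ← hc]
      exact Nat.mod_eq_zero_of_dvd h121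
    · rw [← hc]
      exact smB_of hc0.ne' hm
  · have hM := psl_mem (F := F) hn
    rw [← Nat.card_congr e.toEquiv] at hM
    have h1 := fam_bad fPSL nice_psl hM (fun h => absurd h (by decide)) hc0 hm h121
    rw [show fPSL.lo = 2 from rfl, check_psl] at h1
    simp only [List.mem_cons, Prod.mk.injEq, List.not_mem_nil, or_false] at h1
    rcases h1 with ⟨rfl, h3⟩ | ⟨rfl, h3⟩
    · exact ⟨F, inferInstance, inferInstance, h3, Or.inl ⟨e⟩⟩
    · exact ⟨F, inferInstance, inferInstance, h3, Or.inr ⟨e⟩⟩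
  · exfalso
    have hD' : D ∈ fams := List.mem_cons_of_mem _ hD
    by_cases h0 : D.lo = 0
    · have h1 := fam_bad D (nice_all D hD') (mem_zero hD' h0 hM) (fun _ => rfl) hc0 hm h121
      rw [List.mem_filter, h0] at h1
      have h2 := check0 D hD h0
      have h3 : ((0, q) : ℕ × ℕ) ∈ ((pars 0).filter fun x => Nat.beq x.1 0).filter (fun x => bad D x.1 x.2) :=
        List.mem_filter.2 ⟨List.mem_filter.2 ⟨h1.1, rfl⟩, h1.2⟩
      rw [h2] at h3
      exact absurd h3 List.not_mem_nil
    · have h1 := fam_bad D (nice_all D hD') hM (fun h => absurd h h0) hc0 hm h121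
      rw [check' D hD h0] at h1
      exact absurd h1 List.not_mem_nil

end Cfsg.Agent.H407.Arith
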