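import Mathlib

/-!
# Explicit elements of `SL(6, 3)` (helper407)

The matrices used in the proof that a nonzero module of `PSL(6, 3)` in characteristic 3 gives elements of
order 21 or 45 in every extension.
-/

set_option autoImplicit false
set_option maxRecDepth 100000

namespace Cfsg.Agent.H407

open Matrix

/-- `SL(6, 3)` -/
abbrev SL6 := Matrix.SpecialLinearGroup (Fin 6) (ZMod 3)

namespace Mats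

/-- Laplace expansion, evaluated by the kernel -/
def lap : ∀ n : ℕ, Matrix (Fin n) (Fin n) (ZMod 3) → ZMod 3
  | 0, _ => 1
  | n + 1, M => ((List.finRange (n + 1)).map fun j => if M 0 j = 0 then 0 else
      (-1) ^ (j : ℕ) * M 0 j * lap n (M.submatrix Fin.succ j.succAbove)).sum

theorem lap_succ (n : ℕ) (M : Matrix (Fin (n + 1)) (Fin (n + 1)) (ZMod 3)) : lap (n + 1) M =
    ((List.finRange (n + 1)).map fun j => if M 0 j = 0 then 0 else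
      (-1) ^ (j : ℕ) * M 0 j * lap n (M.submatrix Fin.succ j.succAbove)).sum := rfl

theorem lap_zero (M : Matrix (Fin 0) (Fin 0) (ZMod 3)) : lap 0 M = 1 := rfl

theorem lap_eq : ∀ (n : ℕ) (M : Matrix (Fin n) (Fin n) (ZMod 3)), lap n M = M.det
  | 0, M => by rw [lap_zero]; simp
  | n + 1, M => by
    rw [lap_succ, Matrix.det_succ_row_zero, Fin.sum_univ_def]
    congr 1
    apply List.map_congr_left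
    intro j _
    split_ifs with h
    · rw [h]; simp
    · rw [lap_eq n]

theorem det_of_lap {M : Matrix (Fin 6) (Fin 6) (ZMod 3)} (h : lap 6 M = 1) : M.det = 1 := by
  rw [← lap_eq]; exact h

/-- the central element `-1` -/
def m1 : SL6 := ⟨-1, det_of_lap (by decide +kernel)⟩
def h0 : SL6 := ⟨!![0,1,0,0,0,0;2,0,0,0,0,0;0,0,1,0,0,0;0,0,0,1,0,0;0,0,0,0,1,0;0,0,0,0,0,1], det_of_lap (by decide +kernel)⟩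
def k0 : SL6 := ⟨!![1,1,0,0,0,0;1,2,0,0,0,0;0,0,1,0,0,0;0,0,0,1,0,0;0,0,0,0,1,0;0,0,0,0,0,1], det_of_lap (by decide +kernel)⟩
def b0 : SL6 := ⟨!![0,1,0,0,0,0;2,2,0,0,0,0;0,0,1,0,0,0;0,0,0,1,0,0;0,0,0,0,1,0;0,0,0,0,0,1], det_of_lap (by decide +kernel)⟩
def t0 : SL6 := ⟨!![2,0,0,0,0,0;0,2,0,0,0,0;0,0,1,0,0,0;0,0,0,1,0,0;0,0,0,0,1,0;0,0,0,0,0,1], det_of_lap (by decide +kernel)⟩
def h1 : SL6 := ⟨!![1,0,0,0,0,0;0,1,0,0,0,0;0,0,0,1,0,0;0,0,2,0,0,0;0,0,0,0,1,0;0,0,0,0,0,1], det_of_lap (by decide +kernel)⟩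
def k1 : SL6 := ⟨!![1,0,0,0,0,0;0,1,0,0,0,0;0,0,1,1,0,0;0,0,1,2,0,0;0,0,0,0,1,0;0,0,0,0,0,1], det_of_lap (by decide +kernel)⟩
def t1 : SL6 := ⟨!![1,0,0,0,0,0;0,1,0,0,0,0;0,0,2,0,0,0;0,0,0,2,0,0;0,0,0,0,1,0;0,0,0,0,0,1], det_of_lap (by decide +kernel)⟩
def h2 : SL6 := ⟨!![1,0,0,0,0,0;0,1,0,0,0,0;0,0,1,0,0,0;0,0,0,1,0,0;0,0,0,0,0,1;0,0,0,0,2,0], det_of_lap (by decide +kernel)⟩
def t2 : SL6 := ⟨!![1,0,0,0,0,0;0,1,0,0,0,0;0,0,1,0,0,0;0,0,0,1,0,0;0,0,0,0,2,0;0,0,0,0,0,2], det_of_lap (by decide +kernel)⟩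
def p01 : SL6 := ⟨!![0,0,1,0,0,0;0,0,0,1,0,0;1,0,0,0,0,0;0,1,0,0,0,0;0,0,0,0,1,0;0,0,0,0,0,1], det_of_lap (by decide +kernel)⟩
def p02 : SL6 := ⟨!![0,0,0,0,1,0;0,0,0,0,0,1;0,0,1,0,0,0;0,0,0,1,0,0;1,0,0,0,0,0;0,1,0,0,0,0], det_of_lap (by decide +kernel)⟩
def f : SL6 := ⟨!![1,0,0,0,0,0;0,1,0,0,0,0;0,0,0,0,2,2;0,0,2,1,2,1;0,0,2,2,2,2;0,0,0,0,1,2], det_of_lap (by decide +kernel)⟩
def d0 : SL6 := ⟨!![1,0,0,0,0,0;0,1,0,0,0,0;0,0,0,1,0,0;0,0,1,0,0,0;0,0,0,0,0,1;0,0,0,0,1,0], det_of_lap (by decide +kernel)⟩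
def d1 : SL6 := ⟨!![1,0,0,0,0,0;0,1,0,0,0,0;0,0,1,0,0,0;0,0,0,2,0,0;0,0,0,0,1,0;0,0,0,0,0,2], det_of_lap (by decide +kernel)⟩
def d2 : SL6 := ⟨!![1,0,0,0,0,0;0,1,0,0,0,0;0,0,0,0,0,2;0,0,0,0,1,0;0,0,0,1,0,0;0,0,2,0,0,0], det_of_lap (by decide +kernel)⟩
def d3 : SL6 := ⟨!![1,0,0,0,0,0;0,1,0,0,0,0;0,0,0,2,0,2;0,0,1,0,1,0;0,0,0,2,0,1;0,0,1,0,2,0], det_of_lap (by decide +kernel)⟩
def d4 : SL6 := ⟨!![1,0,0,0,0,0;0,1,0,0,0,0;0,0,0,1,0,2;0,0,2,0,1,0;0,0,0,2,0,2;0,0,1,0,1,0], det_of_lap (by decide +kernel)⟩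
def i1 : SL6 := ⟨!![1,0,0,0,0,0;0,1,0,0,0,0;0,0,2,1,1,1;0,0,2,2,1,2;0,0,1,0,1,1;0,0,0,2,2,1], det_of_lap (by decide +kernel)⟩
def i2 : SL6 := ⟨!![1,0,0,0,0,0;0,1,0,0,0,0;0,0,1,0,0,0;0,0,0,1,0,0;0,0,2,2,2,0;0,0,2,0,0,2], det_of_lap (by decide +kernel)⟩
def g1 : SL6 := ⟨!![1,0,0,0,0,0;0,1,0,0,0,0;0,0,0,2,1,2;0,0,2,1,0,2;0,0,0,0,0,1;0,0,0,1,0,0], det_of_lap (by decide +kernel)⟩
def g2 : SL6 := ⟨!![1,0,0,0,0,0;0,1,0,0,0,0;0,0,0,0,2,2;0,0,2,2,0,0;0,0,0,1,0,1;0,0,0,0,0,1], det_of_lap (by decide +kernel)⟩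
def y : SL6 := ⟨!![0,0,0,0,2,0;1,0,0,2,0,0;1,0,0,1,0,0;0,1,0,0,0,2;0,0,2,0,2,0;0,2,0,0,0,0], det_of_lap (by decide +kernel)⟩
def p23 : SL6 := ⟨!![1,0,0,0,0,0;0,0,2,0,0,0;0,1,0,0,0,0;0,0,0,1,0,0;0,0,0,0,1,0;0,0,0,0,0,1], det_of_lap (by decide +kernel)⟩
def p24 : SL6 := ⟨!![1,0,0,0,0,0;0,0,0,2,0,0;0,0,1,0,0,0;0,1,0,0,0,0;0,0,0,0,1,0;0,0,0,0,0,1], det_of_lap (by decide +kernel)⟩
def t13 : SL6 := ⟨!![2,0,0,0,0,0;0,1,0,0,0,0;0,0,2,0,0,0;0,0,0,1,0,0;0,0,0,0,1,0;0,0,0,0,0,1], det_of_lap (by decide +kernel)⟩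
def t24 : SL6 := ⟨!![1,0,0,0,0,0;0,2,0,0,0,0;0,0,1,0,0,0;0,0,0,2,0,0;0,0,0,0,1,0;0,0,0,0,0,1], det_of_lap (by decide +kernel)⟩
def t14 : SL6 := ⟨!![2,0,0,0,0,0;0,1,0,0,0,0;0,0,1,0,0,0;0,0,0,2,0,0;0,0,0,0,1,0;0,0,0,0,0,1], det_of_lap (by decide +kernel)⟩
def t23 : SL6 := ⟨!![1,0,0,0,0,0;0,2,0,0,0,0;0,0,2,0,0,0;0,0,0,1,0,0;0,0,0,0,1,0;0,0,0,0,0,1], det_of_lap (by decide +kernel)⟩

end Mats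

end Cfsg.Agent.H407
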