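import Cfsg.Agent.H407.Eleven
import Cfsg.Agent.H407.Spec
import Cfsg.Agent.S0813
import Cfsg.Agent.S0265

/-!
# Automorphisms of `PSL(6, 3)` (helper407)

`index_le_two`: if `S ≃ PSL(6, 3)` is normal in `Q` with trivial centralizer, and the prime 11 is isolated in the prime
graph of `Q`, then `S` has index at most 2.
-/

set_option autoImplicit false
set_option linter.unusedSectionVars false
set_option maxRecDepth 100000

namespace Cfsg.Agent.H407.Aut

open Subgroup Matrix
open Cfsg.Agent.ClassicalGeometry.AutPSL.Auto (cj lift)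
open Cfsg.Agent.H363.Frat (NonAdj)

universe u

/-- the diagonal reflection -/
def Dmat : Matrix (Fin 6) (Fin 6) (ZMod 3) := !![1,0,0,0,0,0;0,1,0,0,0,0;0,0,1,0,0,0;0,0,0,1,0,0;0,0,0,0,1,0;0,0,0,0,0,2]

def Dm : GL (Fin 6) (ZMod 3) := ⟨Dmat, Dmat, by decide +kernel, by decide +kernel⟩

/-- a transvection moved by the reflection -/
def tv : SL6 := ⟨!![1,0,0,0,0,1;0,1,0,0,0,0;0,0,1,0,0,0;0,0,0,1,0,0;0,0,0,0,1,0;0,0,0,0,0,1],
  Mats.det_of_lap (by decide +kernel)⟩

theorem cj_w11 : cj Dm w11 = w11 := by
  apply Subtype.ext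
  change Dmat * w11.1 * Dmat = w11.1
  decide +kernel

theorem cj_tv : cj Dm tv = tv * tv := by
  apply Subtype.ext
  change Dmat * tv.1 * Dmat = tv.1 * tv.1
  decide +kernel

theorem Dm_sq : Dm * Dm = 1 := by
  apply Units.ext
  change Dmat * Dmat = 1
  decide +kernel

/-- the diagonal automorphism -/
def dg : MulAut L6 := lift (cj Dm)

theorem dg_sq : dg * dg = 1 := by
  rw [dg, ← map_mul, ← map_mul, Dm_sq, map_one, map_one]

theorem dg_ne : dg ≠ 1 := by
  intro h
  have h1 : dg (pr tv) = pr tv := by rw [h]; rfl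
  have h2 : dg (pr tv) = pr (tv * tv) := congrArg pr cj_tv
  rw [h2, map_mul] at h1
  have h3 := mul_eq_left.1 h1
  rw [pr_eq_one] at h3
  revert h3
  decide +kernel

theorem dg_w11 : dg (pr w11) = pr w11 := congrArg pr cj_w11

theorem orderOf_pr_w11 : orderOf (pr w11) = 11 := by
  have : Fact (Nat.Prime 11) := ⟨by norm_num⟩
  refine orderOf_eq_prime ?_ ?_
  · rw [← map_pow, w11_pow, map_one]
  · rw [Ne, pr_eq_one]
    decide +kernel

theorem card_mulAut : Nat.card (MulAut L6) = 4 * Nat.card L6 := by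
  have : Fact (Nat.Prime 3) := ⟨Nat.prime_three⟩
  have h1 := Cfsg.Agent.S0813.result (F := ZMod 3) 3 1 le_rfl (by rw [ZMod.card, pow_one]) 6 (by norm_num)
    (by norm_num)
  rw [if_neg (by norm_num), Cfsg.Agent.S0265.result] at h1
  have h2 := Subgroup.card_eq_card_quotient_mul_card_subgroup (center SL6)
  have h3 : Nat.card (center SL6) = 2 := by
    have hmem : ∀ g : SL6, g ∈ center SL6 ↔ g = 1 ∨ g = Mats.m1 := fun g => by
      rw [← pr_eq_one, pr, QuotientGroup.mk'_apply, QuotientGroup.eq_one_iff]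
    have h4 : center SL6 = zpowers Mats.m1 := by
      apply le_antisymm
      · intro g hg
        rcases (hmem g).1 hg with rfl | rfl
        · exact one_mem _
        · exact mem_zpowers _
      · rw [zpowers_le]
        exact (hmem _).2 (Or.inr rfl)
    have : Fact (Nat.Prime 2) := ⟨Nat.prime_two⟩
    rw [h4, Nat.card_zpowers]
    refine orderOf_eq_prime ?_ (by decide +kernel)
    rw [pow_two, m1_sq]
  have h5 : Nat.card (MulAut L6) = 2 * 1 * (Nat.card L6 * Nat.card (center SL6)) := by
    rw [← h2]; exact h1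
  rw [h5, h3]
  ring

/-- **The index is at most 2.** -/
theorem index_le_two {Q : Type u} [Group Q] [Finite Q] (hna : ∀ r : ℕ, r.Prime → r ≠ 11 → NonAdj Q 11 r)
    (S : Subgroup Q) [S.Normal] (hC : centralizer (S : Set Q) = ⊥) (e : S ≃* L6) : S.index ≤ 2 := by
  -- `Q` embeds in the automorphism group
  let c : Q →* MulAut S := MulAut.conjNormal
  have hcinj : Function.Injective c := by
    rw [injective_iff_map_eq_one]
    intro g hg
    have h1 : g ∈ centralizer (S : Set Q) := by
      rw [mem_centralizer_iff]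
      intro s hs
      have h2 := congrArg (fun t : MulAut S => ((t ⟨s, hs⟩ : S) : Q)) hg
      change ((MulAut.conjNormal g ⟨s, hs⟩ : S) : Q) = s at h2
      rw [MulAut.conjNormal_apply, mul_inv_eq_iff_eq_mul] at h2
      exact h2.symm
    rwa [hC, Subgroup.mem_bot] at h1
  have hSc : Nat.card S = Nat.card L6 := Nat.card_congr e.toEquiv
  have hA : Nat.card (MulAut S) = 4 * Nat.card S := by
    rw [hSc, ← card_mulAut]
    exact Nat.card_congr (MulAut.congr e).toEquiv
  have hS0 : 0 < Nat.card S := Nat.card_pos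
  have hdvd : Nat.card Q ∣ 4 * Nat.card S := by
    rw [← hA]
    have h1 := card_subgroup_dvd_card c.range
    rwa [Nat.card_congr (MonoidHom.ofInjective hcinj).toEquiv.symm] at h1
  have hidx : S.index ∣ 4 := by
    rw [← S.card_mul_index, mul_comm 4] at hdvd
    exact Nat.dvd_of_mul_dvd_mul_left hS0 hdvd
  have hle := Nat.le_of_dvd (by norm_num) hidx
  by_contra h2
  have h4 : S.index = 4 := by
    have h3 : S.index ≠ 3 := by
      intro h
      rw [h] at hidx
      norm_num at hidx
    omega
  -- all automorphisms are induced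
  have hfin : Finite (MulAut S) := Nat.finite_of_card_ne_zero (by rw [hA]; omega)
  have hbij : Function.Bijective c := by
    refine (Nat.bijective_iff_injective_and_card c).2 ⟨hcinj, ?_⟩
    rw [hA, ← S.card_mul_index, h4, mul_comm]
  set d : MulAut S := (MulAut.congr e).symm dg with hd
  obtain ⟨g, hg⟩ := hbij.2 d
  have hda : ∀ s : S, d s = e.symm (dg (e s)) := fun s => rfl
  have hg2 : g ^ 2 = 1 := by
    apply hcinj
    rw [map_pow, hg, map_one, hd, ← map_pow, pow_two, dg_sq, map_one]
  have hg1 : g ≠ 1 := by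
    rintro rfl
    rw [map_one] at hg
    have h5 : (MulAut.congr e).symm dg = 1 := hg.symm
    rw [MulEquiv.map_eq_one_iff] at h5
    exact dg_ne h5
  -- an element of order 11
  set x : S := e.symm (pr w11) with hx
  have hxo : orderOf (x : Q) = 11 := by
    rw [Subgroup.orderOf_coe, hx, MulEquiv.orderOf_eq, orderOf_pr_w11]
  have hdx : d x = x := by
    rw [hda, hx, e.apply_symm_apply, dg_w11]
  have hcomm : g * x = x * g := by
    have h6 : ((c g x : S) : Q) = x := by rw [hg, hdx]
    change ((MulAut.conjNormal g x : S) : Q) = x at h6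
    rwa [MulAut.conjNormal_apply, mul_inv_eq_iff_eq_mul] at h6
  refine Eleven.comm_false hna hxo hg1 ?_ hcomm.symm
  have h7 : orderOf g ∣ 2 := orderOf_dvd_of_pow_eq_one hg2
  intro h8
  have := h8.trans h7
  norm_num at this

end Cfsg.Agent.H407.Aut
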