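import Cfsg.Agent.H407.LFive
import Cfsg.Agent.H420.CrossRank

/-!
# Cross characteristic elimination for `PΩ(2n+1,5)`: the classical groups, `n ≥ 15` (helper407)

* `Fam5 S r₀` : what is used of a classical group `S` of characteristic `r₀`; `no_fam` : contradiction for `r₀ ≠ 5`;
* `fam_psl`, ..., `fam_pm` : the classical groups of large rank;
* `half_psl`, ..., `half_minus` : bounds for cocliques;
* `large` : a classical group `S` with `SHyp PΩ(2n+1,5) S`, `n ≥ 15`, has characteristic five.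
-/

set_option autoImplicit false

namespace Cfsg.Agent.H407.B5

open Cfsg Cfsg.Agent.H436 Cfsg.Agent.OrdDiv Cfsg.Agent.H72 Cfsg.Agent.H420.QR

universe u v

/-! ### the classes of some primes -/

theorem e5_eq {x K : ℕ} (hK : 0 < K) (h1 : ((5 : ℕ) : ZMod x) ^ K = 1)
    (h2 : ∀ m, m < K → 0 < m → ((5 : ℕ) : ZMod x) ^ m ≠ 1) : e5 x = K := (orderOf_eq_iff hK).2 ⟨h1, h2⟩

theorem e5_17 : e5 17 = 16 := e5_eq (by norm_num) (by decide) (by decide)
theorem e5_41 : e5 41 = 20 := e5_eq (by norm_num) (by decide +kernel) (by decide +kernel)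
theorem e5_19 : e5 19 = 9 := e5_eq (by norm_num) (by decide) (by decide)
theorem e5_181 : e5 181 = 15 := e5_eq (by norm_num) (by decide +kernel) (by decide +kernel)
theorem e5_37 : e5 37 = 36 := e5_eq (by norm_num) (by decide +kernel) (by decide +kernel)

/-- what is used of a classical group `S` of characteristic `r₀` -/
structure Fam5 (S : Type u) [Group S] (r₀ : ℕ) : Prop where
  dvd : 3 < r₀ → r₀ ∣ Nat.card S
  own : 3 < r₀ → ∀ ρ : Finset ℕ, IsCoq S ρ → (∀ r ∈ ρ, 3 < r) → r₀ ∈ ρ → ρ.card ≤ 5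
  two : r₀ = 2 → Test S 17 9
  three : r₀ = 3 → Test S 41 9
  seven : r₀ = 7 → Test S 19 9
  thirteen : r₀ = 13 → Test S 17 9
  t31 : r₀ = 31 → Test S 19 9
  t313 : r₀ = 313 → Test S 181 9

section no

variable {F : Type v} [Field F] [Fintype F] {n : ℕ} {S : Type u} [Group S]

/-- no test with a prime of high class -/
theorem no_test (h : SHyp (POmega F (quadFormOdd n F)) S) (hF : Fintype.card F = 5) (hn : 15 ≤ n) {x b : ℕ}
    (hx : x.Prime) (hx5 : 5 < x) (he : 8 ≤ eta (e5 x)) (hb : b ≤ 10) (hT : Test S x b) : False := by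
  have hok := okB h hF (by omega) hx hx5 hT.1
  have h1 := card_TKB (n := n) (t := 7) (K := e5 x) (by omega) (by omega) hok he
  obtain ⟨ρ, h2, h3, h4, h5⟩ := maxx h hF (by omega) hx hx5 hT.1 (by omega)
  have := hT.2 ρ h2 (fun r hr => by have := h3 r hr; omega) h4
  omega

theorem small_eta {r : ℕ} (hr : r.Prime) (h5 : 5 < r) (h : eta (e5 r) ≤ 4) : r = 7 ∨ r = 13 ∨ r = 31 ∨ r = 313 := by
  have h0 := three_le_e5 hr h5
  have h1 := prim_ee (q := 5) (by norm_num) hr (not_dvd_five h5)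
  have h2 : r ∣ 5 ^ (2 * eta (e5 r)) - 1 := by
    refine h1.dvd ?_
    change e5 r ∣ _
    rcases eta_cases (e5 r) with ⟨h4, h5⟩ | ⟨h4, h5⟩
    · rw [h5, Nat.mul_div_cancel' (Nat.dvd_of_mod_eq_zero h4)]
    · rw [h5]
      exact Dvd.intro_left _ rfl
  have key : ∀ {p : ℕ}, p.Prime → r ∣ p → r = p := fun hp hd => (Nat.prime_dvd_prime_iff_eq hr hp).1 hd
  have key2 : ∀ {a b : ℕ}, r ∣ a * b → r ∣ a ∨ r ∣ b := fun hd => hr.dvd_mul.1 hd
  have key3 : ∀ {k : ℕ}, ¬ r ∣ 2 ^ k := fun {k} hd => by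
    have := Nat.le_of_dvd (by norm_num) (hr.dvd_of_dvd_pow hd)
    omega
  have key4 : ∀ {k : ℕ}, ¬ r ∣ 3 ^ k := fun {k} hd => by
    have := Nat.le_of_dvd (by norm_num) (hr.dvd_of_dvd_pow hd)
    omega
  have h20 : 2 ≤ eta (e5 r) := by
    have := eta_cases (e5 r)
    omega
  generalize eta (e5 r) = t at h h2 h20
  interval_cases t
  · rcases key2 (show r ∣ 2 ^ 4 * (3 ^ 1 * 13) by simpa using h2) with h4 | h4
    · exact absurd h4 key3
    · rcases key2 h4 with h5 | h5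
      · exact absurd h5 key4
      · exact Or.inr (Or.inl (key (by norm_num) h5))
  · rcases key2 (show r ∣ 2 ^ 3 * (3 ^ 2 * (7 * 31)) by simpa using h2) with h4 | h4
    · exact absurd h4 key3
    · rcases key2 h4 with h5 | h5
      · exact absurd h5 key4
      · rcases key2 h5 with h6 | h6
        · exact Or.inl (key (by norm_num) h6)
        · exact Or.inr (Or.inr (Or.inl (key (by norm_num) h6)))
  · rcases key2 (show r ∣ 2 ^ 5 * (3 ^ 1 * (13 * 313)) by simpa using h2) with h4 | h4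
    · exact absurd h4 key3
    · rcases key2 h4 with h5 | h5
      · exact absurd h5 key4
      · rcases key2 h5 with h6 | h6
        · exact Or.inr (Or.inl (key (by norm_num) h6))
        · exact Or.inr (Or.inr (Or.inr (key (by norm_num) h6)))

/-- **Elimination of a classical group of characteristic `r₀ ≠ 5`.** -/
theorem no_fam (h : SHyp (POmega F (quadFormOdd n F)) S) (hF : Fintype.card F = 5) (hn : 15 ≤ n)
    {r₀ : ℕ} (hr : r₀.Prime) (h5 : r₀ ≠ 5) (hfam : Fam5 S r₀) : False := by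
  have t17 : 8 ≤ eta (e5 17) := by rw [e5_17]; decide
  have t41 : 8 ≤ eta (e5 41) := by rw [e5_41]; decide
  have t19 : 8 ≤ eta (e5 19) := by rw [e5_19]; decide
  have t181 : 8 ≤ eta (e5 181) := by rw [e5_181]; decide
  by_cases h2 : r₀ = 2
  · exact no_test h hF hn (by norm_num) (by norm_num) t17 (by norm_num) (hfam.two h2)
  by_cases h3 : r₀ = 3
  · exact no_test h hF hn (by norm_num) (by norm_num) t41 (by norm_num) (hfam.three h3)
  have h4 : r₀ ≠ 4 := by rintro rfl; exact absurd hr (by norm_num)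
  have h3' : 5 < r₀ := by
    have := hr.two_le
    omega
  by_cases h6 : 5 ≤ eta (e5 r₀)
  · have hok := okB h hF (by omega) hr h3' (hfam.dvd (by omega))
    have h6 := card_TKB (n := n) (t := 4) (K := e5 r₀) (by omega) (by omega) hok (by omega)
    obtain ⟨ρ, h7, h8, h9, h11⟩ := maxx h hF (by omega) hr h3' (hfam.dvd (by omega)) (by omega)
    have := hfam.own (by omega) ρ h7 (fun r hr => by have := h8 r hr; omega) h9
    omega
  · rcases small_eta hr h3' (by omega) with h7 | h7 | h7 | h7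
    · exact no_test h hF hn (by norm_num) (by norm_num) t19 (by norm_num) (hfam.seven h7)
    · exact no_test h hF hn (by norm_num) (by norm_num) t17 (by norm_num) (hfam.thirteen h7)
    · exact no_test h hF hn (by norm_num) (by norm_num) t19 (by norm_num) (hfam.t31 h7)
    · exact no_test h hF hn (by norm_num) (by norm_num) t181 (by norm_num) (hfam.t313 h7)

end no

/-! ### the families -/

theorem fam_psl {S : Type u} [Group S] {F : Type*} [Field F] [Fintype F] {m r₀ f : ℕ} (hr : r₀.Prime) (hf : f ≠ 0)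
    (hF : Fintype.card F = r₀ ^ f) (e : S ≃* Matrix.ProjectiveSpecialLinearGroup (Fin m) F) (hm : 10 ≤ m) :
    Fam5 S r₀ := by
  have hW := (wc_psl (F := F) (n := m) (by omega)).congr e
  rw [hF] at hW
  have hq : 1 ≤ r₀ ^ f := Nat.one_le_pow _ _ hr.pos
  have key : ∀ {x : ℕ} (a : ℕ), x.Prime → x ≠ 2 → 2 ≤ a → a ≤ 8 → x ∣ r₀ ^ a - 1 → Test S x 9 := by
    intro x a hx hx2 ha ha6 hd
    have h1 := wL_le hq ha (dvd_pow_sub (f := f) hd)
    exact hW.test wL_two hx hx2 (by omega) (by omega)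
  refine ⟨fun h3 => hW.dvd wL_two hr (by omega) (by rw [wL_own hf]; omega), ?_, ?_, ?_, ?_, ?_, ?_, ?_⟩
  · intro h3 ρ hρ h4 hx
    have h5 := hW.thru hρ h4 hx (by rw [wL_own hf]; omega)
    rw [wL_own hf] at h5
    omega
  · rintro rfl
    exact key 8 (by norm_num) (by norm_num) (by norm_num) (by norm_num) (by norm_num)
  · rintro rfl
    exact key 8 (by norm_num) (by norm_num) (by norm_num) (by norm_num) (by norm_num)
  · rintro rfl
    exact key 3 (by norm_num) (by norm_num) (by norm_num) (by norm_num) (by norm_num)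
  · rintro rfl
    exact key 4 (by norm_num) (by norm_num) (by norm_num) (by norm_num) (by norm_num)
  · rintro rfl
    exact key 6 (by norm_num) (by norm_num) (by norm_num) (by norm_num) (by norm_num)
  · rintro rfl
    exact key 3 (by norm_num) (by norm_num) (by norm_num) (by norm_num) (by norm_num)

theorem fam_psu {S : Type u} [Group S] {F : Type*} [Field F] [Fintype F] {m r₀ f : ℕ} (hr : r₀.Prime) (hf : f ≠ 0)
    (hF : Fintype.card F = (r₀ ^ f) ^ 2) (e : S ≃* PSU m F (r₀ ^ f)) (hm : 10 ≤ m) : Fam5 S r₀ := by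
  have hW := (wc_psu hF (n := m) (by omega)).congr e
  have hq : 1 ≤ r₀ ^ f := Nat.one_le_pow _ _ hr.pos
  have key : ∀ {x : ℕ} (a : ℕ), x.Prime → x ≠ 2 → 2 ≤ a → a ≤ 8 → Even a → x ∣ r₀ ^ a - 1 → Test S x 9 := by
    intro x a hx hx2 ha ha6 hae hd
    have h1 := wU_le ha (neg_pow_even hq hae (dvd_pow_sub (f := f) hd))
    exact hW.test wU_two hx hx2 (by omega) (by omega)
  refine ⟨fun h3 => hW.dvd wU_two hr (by omega) (by rw [wU_own hf]; omega), ?_, ?_, ?_, ?_, ?_, ?_, ?_⟩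
  · intro h3 ρ hρ h4 hx
    have h5 := hW.thru hρ h4 hx (by rw [wU_own hf]; omega)
    rw [wU_own hf] at h5
    omega
  · rintro rfl
    exact key 8 (by norm_num) (by norm_num) (by norm_num) (by norm_num) (by decide) (by norm_num)
  · rintro rfl
    exact key 8 (by norm_num) (by norm_num) (by norm_num) (by norm_num) (by decide) (by norm_num)
  · rintro rfl
    exact key 6 (by norm_num) (by norm_num) (by norm_num) (by norm_num) (by decide) (by norm_num)
  · rintro rfl
    exact key 4 (by norm_num) (by norm_num) (by norm_num) (by norm_num) (by decide) (by norm_num)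
  · rintro rfl
    exact key 6 (by norm_num) (by norm_num) (by norm_num) (by norm_num) (by decide) (by norm_num)
  · rintro rfl
    exact key 6 (by norm_num) (by norm_num) (by norm_num) (by norm_num) (by decide) (by norm_num)

/-- the symplectic and the orthogonal groups -/
theorem fam_wO {S : Type u} [Group S] {m c r₀ f : ℕ} {N : ℕ → ℕ} (hr : r₀.Prime) (hf : f ≠ 0)
    (hW : WC S m c (AdjOrth.wO (r₀ ^ f)) (AdjOrth.ee (r₀ ^ f)) N) (hm : 6 + c ≤ m)
    (h3 : ∀ w, w ≤ 4 → 1 + N (m - c - w) ≤ 9) (h2 : 1 + N (m - c - 2) ≤ 5) : Fam5 S r₀ := by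
  have hq : 1 ≤ r₀ ^ f := Nat.one_le_pow _ _ hr.pos
  have key : ∀ {x : ℕ} (i : ℕ), x.Prime → x ≠ 2 → 2 ≤ i → i ≤ 4 → x ∣ r₀ ^ (2 * i) - 1 → Test S x 9 := by
    intro x i hx hx2 hi hi4 hd
    have h1 := wO_le hq hi (dvd_pow_sub (f := f) hd)
    exact hW.test wO_two hx hx2 (by omega) (h3 _ (h1.trans hi4))
  refine ⟨fun h3 => hW.dvd wO_two hr (by omega) (by rw [wO_own hf]; omega), ?_, ?_, ?_, ?_, ?_, ?_, ?_⟩
  · intro h3 ρ hρ h4 hx
    have h5 := hW.thru hρ h4 hx (by rw [wO_own hf]; omega)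
    rw [wO_own hf] at h5
    omega
  · rintro rfl
    exact key 4 (by norm_num) (by norm_num) (by norm_num) (by norm_num) (by norm_num)
  · rintro rfl
    exact key 4 (by norm_num) (by norm_num) (by norm_num) (by norm_num) (by norm_num)
  · rintro rfl
    exact key 3 (by norm_num) (by norm_num) (by norm_num) (by norm_num) (by norm_num)
  · rintro rfl
    exact key 2 (by norm_num) (by norm_num) (by norm_num) (by norm_num) (by norm_num)
  · rintro rfl
    exact key 3 (by norm_num) (by norm_num) (by norm_num) (by norm_num) (by norm_num)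
  · rintro rfl
    exact key 3 (by norm_num) (by norm_num) (by norm_num) (by norm_num) (by norm_num)

/-! ### bounds for cocliques -/

section half

variable {S : Type u} [Group S] {F : Type*} [Field F] [Fintype F] {m : ℕ} {ρ : Finset ℕ}

theorem half_psl (hm : 2 ≤ m) (e : S ≃* Matrix.ProjectiveSpecialLinearGroup (Fin m) F) (hρ : IsCoq S ρ)
    (h3 : ∀ r ∈ ρ, 3 < r) (h6 : 6 ≤ ρ.card) : ρ.card ≤ 1 + (m - m / 2) := by
  have h9 := rank_psl hm e hρ h3 h6
  exact (wc_psl (F := F) (n := m) (by omega)).half (hρ.congr e) h3 (by omega)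

theorem half_psu {q : ℕ} (hF : Fintype.card F = q ^ 2) (hm : 3 ≤ m) (e : S ≃* PSU m F q) (hρ : IsCoq S ρ)
    (h3 : ∀ r ∈ ρ, 3 < r) (h6 : 6 ≤ ρ.card) : ρ.card ≤ 1 + (m - m / 2) := by
  have h9 := rank_psu hF hm e hρ h3 h6
  exact (wc_psu hF (n := m) (by omega)).half (hρ.congr e) h3 (by omega)

theorem half_sp (hm : 2 ≤ m) (e : S ≃* PSp m F) (hρ : IsCoq S ρ) (h3 : ∀ r ∈ ρ, 3 < r) (h6 : 6 ≤ ρ.card) :
    ρ.card ≤ 1 + ((m - m / 2) + ((m + 1) / 2 - (m / 2 + 1) / 2)) := by
  have h9 := rank_sp hm e hρ h3 h6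
  exact (wc_sp (F := F) (n := m) (by omega)).half (hρ.congr e) h3 (by omega)

theorem half_odd (h2 : (2 : F) ≠ 0) (hm : 3 ≤ m) (e : S ≃* POmega F (quadFormOdd m F)) (hρ : IsCoq S ρ)
    (h3 : ∀ r ∈ ρ, 3 < r) (h6 : 6 ≤ ρ.card) : ρ.card ≤ 1 + ((m - m / 2) + ((m + 1) / 2 - (m / 2 + 1) / 2)) := by
  have h9 := rank_odd h2 hm e hρ h3 h6
  exact (wc_odd (F := F) h2 hm).half (hρ.congr e) h3 (by omega)

theorem half_plus (hm : 4 ≤ m) (e : S ≃* POmega F (quadFormPlus m F)) (hρ : IsCoq S ρ)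
    (h3 : ∀ r ∈ ρ, 3 < r) (h6 : 6 ≤ ρ.card) :
    ρ.card ≤ 2 + ((m - 1 - (m - 1) / 2) + (m / 2 - ((m - 1) / 2 + 1) / 2)) := by
  have h9 := rank_plus hm e hρ h3 h6
  have := (wc_plus (F := F) hm).half (hρ.congr e) h3 (by omega)
  omega

theorem half_minus (hm : 4 ≤ m) {a b : F} (hab : ∀ z₁ z₂ : F, z₁ ^ 2 + a * z₁ * z₂ + b * z₂ ^ 2 = 0 → z₁ = 0 ∧ z₂ = 0)
    (e : S ≃* POmega F (quadFormMinus (m - 1) F a b)) (hρ : IsCoq S ρ)
    (h3 : ∀ r ∈ ρ, 3 < r) (h6 : 6 ≤ ρ.card) :
    ρ.card ≤ 2 + ((m - 1 - (m - 1) / 2) + (m / 2 - ((m - 1) / 2 + 1) / 2)) := by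
  have h9 := rank_minus hm hab e hρ h3 h6
  have := (wc_minus (F := F) hm hab).half (hρ.congr e) h3 (by omega)
  omega

end half

/-! ### `n ≥ 15` -/

/-- the names of the classical groups -/
def IsCls : Grp → Prop
  | .psl _ _ => True
  | .psp _ _ => True
  | .psu _ _ => True
  | .oodd _ _ => True
  | .oplus _ _ => True
  | .ominus _ _ => True
  | _ => False

section large

variable {F : Type v} [Field F] [Fintype F] {n : ℕ} {S : Type u} [Group S]

theorem exists_big (h : SHyp (POmega F (quadFormOdd n F)) S) (hF : Fintype.card F = 5) (hn : 15 ≤ n) :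
    ∃ ρ : Finset ℕ, IsCoq S ρ ∧ (∀ r ∈ ρ, 5 < r ∧ e5 r ∈ TB n) ∧ 11 ≤ ρ.card := by
  have h1 := card_TB (n := n) (t := 7) (by omega) (by omega)
  obtain ⟨ρ, h2, h3, h4⟩ := max0 h hF (by omega) (by omega)
  exact ⟨ρ, h2, h3, by omega⟩

/-- the reduction to a prime power -/
theorem of_prime_pow (h : SHyp (POmega F (quadFormOdd n F)) S) (hF : Fintype.card F = 5) (hn : 15 ≤ n)
    {q : ℕ} (hq : IsPrimePow q) (hfam : ∀ (r₀ f : ℕ), r₀.Prime → f ≠ 0 → q = r₀ ^ f →
      r₀ ≠ 5 → Fam5 S r₀) : ∃ f : ℕ, f ≠ 0 ∧ q = 5 ^ f := by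
  obtain ⟨p, k, hp, hk, hpk⟩ := hq
  have hp' : p.Prime := hp.nat_prime
  by_cases h3 : p = 5
  · exact ⟨k, by omega, by rw [← hpk, h3]⟩
  · exact (no_fam h hF hn hp' h3 (hfam p k hp' (by omega) hpk.symm h3)).elim

theorem large (h : SHyp (POmega F (quadFormOdd n F)) S) (hF : Fintype.card F = 5) (hn : 15 ≤ n)
    {g : Grp} (hc : IsCls g) (hg : IsNamed g S) : ∃ f : ℕ, f ≠ 0 ∧ H425.Chr.qOf g = 5 ^ f := by
  obtain ⟨ρ, hρ, h5, h11⟩ := exists_big h hF hn
  have h3 : ∀ r ∈ ρ, 3 < r := fun r hr => by have := (h5 r hr).1; omega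
  have h6 : 6 ≤ ρ.card := by omega
  cases g with
  | psl m q =>
    obtain ⟨F', _, _, hF', ⟨e⟩⟩ := hg.real
    obtain ⟨hm, -, hq⟩ := hg.cond
    have h1 := half_psl hm e hρ h3 h6
    exact of_prime_pow (q := q) h hF hn hq fun r₀ f hr hf hqf _ => fam_psl hr hf (hF'.trans hqf) e (by omega)
  | psu m q =>
    obtain ⟨F', _, _, hF', ⟨e⟩⟩ := hg.real
    obtain ⟨hm, -, hq⟩ := hg.cond
    have h1 := half_psu hF' hm e hρ h3 h6
    refine of_prime_pow (q := q) h hF hn hq fun r₀ f hr hf hqf _ => ?_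
    subst hqf
    exact fam_psu hr hf hF' e (by omega)
  | psp m q =>
    obtain ⟨F', _, _, hF', ⟨e⟩⟩ := hg.real
    obtain ⟨hm, -, hq⟩ := hg.cond
    have h1 := half_sp hm e hρ h3 h6
    refine of_prime_pow (q := q) h hF hn hq fun r₀ f hr hf hqf _ => ?_
    have hW := (wc_sp (F := F') hm).congr e
    rw [Nat.card_eq_fintype_card, hF', hqf] at hW
    exact fam_wO hr hf hW (by omega) (fun w hw => by omega) (by omega)
  | oodd m q =>
    obtain ⟨F', _, _, hF', ⟨e⟩⟩ := hg.real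
    obtain ⟨hm, ho, hq⟩ := hg.cond
    have h2' : (2 : F') ≠ 0 := two_ne_zero_of_odd (by rw [hF']; exact ho)
    have h1 := half_odd h2' hm e hρ h3 h6
    refine of_prime_pow (q := q) h hF hn hq fun r₀ f hr hf hqf _ => ?_
    have hW := (wc_odd (F := F') h2' hm).congr e
    rw [Nat.card_eq_fintype_card, hF', hqf] at hW
    exact fam_wO hr hf hW (by omega) (fun w hw => by omega) (by omega)
  | oplus m q =>
    obtain ⟨F', _, _, hF', ⟨e⟩⟩ := hg.real
    obtain ⟨hm, hq⟩ := hg.cond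
    have h1 := half_plus hm e hρ h3 h6
    refine of_prime_pow (q := q) h hF hn hq fun r₀ f hr hf hqf _ => ?_
    have hW := (wc_plus (F := F') hm).congr e
    rw [Nat.card_eq_fintype_card, hF', hqf] at hW
    exact fam_wO hr hf hW (by omega) (fun w hw => by omega) (by omega)
  | ominus m q =>
    obtain ⟨F', _, _, a, b, hF', hab, ⟨e⟩⟩ := hg.real
    obtain ⟨hm, hq⟩ := hg.cond
    have h1 := half_minus hm hab e hρ h3 h6
    refine of_prime_pow (q := q) h hF hn hq fun r₀ f hr hf hqf _ => ?_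
    have hW := (wc_minus (F := F') hm hab).congr e
    rw [Nat.card_eq_fintype_card, hF', hqf] at hW
    exact fam_wO hr hf hW (by omega) (fun w hw => by omega) (by omega)
  | _ => exact hc.elim

end large

end Cfsg.Agent.H407.B5
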