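import Cfsg.Agent.H407.SmallL
import Cfsg.Agent.H407.SmallU
import Cfsg.Agent.H407.SmallC
import Cfsg.Agent.H407.SmallD
import Cfsg.Agent.H407.SmallX
import Cfsg.Agent.H407.SmallY
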