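import Cfsg.Agent.H407.CrossFam5
import Cfsg.Agent.H407.Small
import Cfsg.Agent.H168.ExcCoc
import Cfsg.Agent.H376.CocAlt

/-!
# Cross characteristic elimination for `PΩ(2n+1,5)`: small `n`, exceptional, alternating and sporadic groups (helper407)
-/

set_option autoImplicit false

namespace Cfsg.Agent.H407.B5

open Cfsg Cfsg.Agent.H436 Cfsg.Agent.OrdDiv Cfsg.Agent.H72 Cfsg.Agent.H420.QR
open Cfsg.Agent.H407.PList Cfsg.Agent.H407.Small Cfsg.Agent.H407.Engine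

universe u v

/-! ### lists of primes -/

theorem P_mono {m n : ℕ} (h : m ≤ n) {r : ℕ} (hr : r ∈ P m) : r ∈ P n := by
  rw [P, List.mem_cons] at hr ⊢
  refine hr.imp id fun hr => ?_
  obtain ⟨x, hx, rfl⟩ := List.mem_map.1 hr
  rw [List.mem_filter, decide_eq_true_eq] at hx
  exact List.mem_map.2 ⟨x, List.mem_filter.2 ⟨hx.1, by rw [decide_eq_true_eq]; exact hx.2.trans h⟩, rfl⟩

set_option maxRecDepth 100000 in
theorem chkE : (LP.all fun x => od x.1 5 60 == x.2 && (decide (x.2 < 3) || decide (5 < x.1))) = true := by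
  decide +kernel

theorem e5_LP {x : ℕ × ℕ} (hx : x ∈ LP) (h3 : 3 ≤ x.2) : e5 x.1 = x.2 ∧ 5 < x.1 := by
  have h := List.all_eq_true.1 chkE x hx
  rw [Bool.and_eq_true, Bool.or_eq_true, beq_iff_eq, decide_eq_true_eq, decide_eq_true_eq] at h
  obtain ⟨h1, h2⟩ := h
  have h4 := h2.resolve_left (by omega)
  obtain ⟨h5, h6⟩ := od_spec (x := x.1) (u := 5) (N := 60) (by omega)
  rw [h1] at h5 h6
  exact ⟨ee_eq_of_prim (by norm_num) (prim_of_order (prime_LP hx) (by norm_num) (by omega) h5 h6), h4⟩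

theorem RS_spec {n r : ℕ} (hn : 2 ≤ n) (h : r ∈ RS n) : r.Prime ∧ 5 < r ∧ e5 r = 2 * n := by
  obtain ⟨x, hx, rfl⟩ := List.mem_map.1 h
  rw [List.mem_filter, beq_iff_eq] at hx
  obtain ⟨h1, h2⟩ := e5_LP hx.1 (by omega)
  exact ⟨prime_LP hx.1, h2, h1.trans hx.2⟩

/-! ### the number of classes -/

theorem TB_cases {n : ℕ} (hn : 6 ≤ n) : 5 ≤ (TB n).card ∧ (7 ≤ n → 6 ≤ (TB n).card) ∧ (8 ≤ n → 7 ≤ (TB n).card) ∧
    (9 ≤ n → 8 ≤ (TB n).card) ∧ (11 ≤ n → 9 ≤ (TB n).card) ∧ (12 ≤ n → 10 ≤ (TB n).card) ∧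
    (13 ≤ n → 11 ≤ (TB n).card) ∧ (15 ≤ n → 12 ≤ (TB n).card) ∧ (19 ≤ n → 15 ≤ (TB n).card) := by
  by_cases h : 15 ≤ n
  · have h1 := card_TB (n := n) (t := 7) (by omega) (by omega)
    have h2 : 19 ≤ n → 15 ≤ (TB n).card := fun h2 => by
      have := card_TB (n := n) (t := 9) (by omega) (by omega)
      omega
    omega
  · have h1 := TB_6
    have h2 := TB_7
    have h3 := TB_8
    have h4 := TB_9
    have h5 := TB_10
    have h6 := TB_11
    have h7 := TB_12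
    have h8 := TB_13
    have h9 := TB_14
    interval_cases n <;> omega

section main

variable {F : Type v} [Field F] [Fintype F] {n : ℕ} {S : Type u} [Group S]

theorem exists_coq (h : SHyp (POmega F (quadFormOdd n F)) S) (hF : Fintype.card F = 5) (hn : 6 ≤ n) :
    ∃ ρ : Finset ℕ, IsCoq S ρ ∧ (∀ r ∈ ρ, 5 < r ∧ e5 r ∈ TB n) ∧ (TB n).card ≤ ρ.card + 1 :=
  max0 h hF (by omega) (by have := (TB_cases hn).1; omega)

theorem not_altL2 (h : SHyp (POmega F (quadFormOdd n F)) S) (hF : Fintype.card F = 5) (hn : 6 ≤ n) :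
    ¬ Cfsg.Agent.H414.Rad.AltL2 S := by
  obtain ⟨ρ, hρ, h5, hc⟩ := exists_coq h hF hn
  have h1 := (TB_cases hn).1
  rintro (⟨⟨e⟩⟩ | ⟨F', _, _, -, ⟨e⟩⟩)
  · have h2 : ρ.card ≤ 1 := by
      rw [Finset.card_le_one]
      have key : ∀ a ∈ ρ, a = 7 := by
        intro a ha
        have hp := hρ.prime a ha
        have h3 := H376.Coc.alt_dvd_le (m := 7) hp (by rw [← Nat.card_congr e.toEquiv]; exact hρ.dvd a ha)
        have h4 := (h5 a ha).1
        have h6 : a ≠ 6 := by rintro rfl; exact absurd hp (by norm_num)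
        omega
      intro a ha b hb
      rw [key a ha, key b hb]
    omega
  · have h2 := psl_two_card_le (hρ.congr e) (fun r hr => by have := (h5 r hr).1; omega)
    omega

/-- the primes of class `2 n` divide `|S|` -/
theorem top_dvd (h : SHyp (POmega F (quadFormOdd n F)) S) (hF : Fintype.card F = 5) (hn : 6 ≤ n) {r : ℕ}
    (hr : r.Prime) (h5 : 5 < r) (he : e5 r = 2 * n) : r ∣ Nat.card S := by
  refine (h.two.resolve_left (not_altL2 h hF hn)) r hr (by omega) ?_ ?_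
  · rw [dvd_iff hF (by omega) hr h5, he]
    exact Or.inl ⟨by omega, le_rfl⟩
  · exact TwoSp.oodd hF (by omega) hr he

theorem RS_dvd (h : SHyp (POmega F (quadFormOdd n F)) S) (hF : Fintype.card F = 5) (hn : 6 ≤ n) {r : ℕ}
    (hr : r ∈ RS n) : r ∣ Nat.card S := by
  obtain ⟨h1, h2, h3⟩ := RS_spec (by omega) hr
  exact top_dvd h hF hn h1 h2 h3

theorem mem_P' (h : SHyp (POmega F (quadFormOdd n F)) S) (hF : Fintype.card F = 5) (hn : 3 ≤ n) (h18 : n ≤ 18)
    {r : ℕ} (hr : r.Prime) (hd : r ∣ Nat.card S) : r ∈ P n := by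
  have h1 := H425.Chr.oodd_eq' (F := F) hn (by rw [hF]; decide)
  rw [hF] at h1
  have h2 : r ∣ 5 ^ (n ^ 2) * prB 5 n := by
    have h3 : 2 * Nat.card (POmega F (quadFormOdd n F)) = 5 ^ (n ^ 2) * prB 5 n := h1
    rw [← h3]
    exact (h.pi r hr hd).mul_left _
  rcases hr.dvd_mul.1 h2 with h3 | h3
  · rw [(Nat.prime_dvd_prime_iff_eq hr Nat.prime_five).1 (hr.dvd_of_dvd_pow h3), P]
    exact List.mem_cons_self
  · obtain ⟨i, hi, h4⟩ := Fam.dvd_map_prod hr h3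
    exact mem_P h18 hr (by omega) (by omega) h4

/-! ### classical groups, `n ≤ 14` -/

theorem pp_cases {q : ℕ} (hq : IsPrimePow q) (hno : ∀ (p f : ℕ), p.Prime → f ≠ 0 → q = p ^ f → p ≠ 5 → False) :
    ∃ f : ℕ, f ≠ 0 ∧ q = 5 ^ f := by
  obtain ⟨p, k, hp, hk, hpk⟩ := hq
  have hp' : p.Prime := hp.nat_prime
  by_cases h3 : p = 5
  · exact ⟨k, by omega, by rw [← hpk, h3]⟩
  · exact (hno p k hp' (by omega) hpk.symm h3).elim

theorem small (h : SHyp (POmega F (quadFormOdd n F)) S) (hF : Fintype.card F = 5) (hn : 6 ≤ n) (h14 : n ≤ 14)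
    {g : Grp} (hc : IsCls g) (hg : IsNamed g S) : ∃ f : ℕ, f ≠ 0 ∧ H425.Chr.qOf g = 5 ^ f := by
  obtain ⟨ρ, hρ, h5, hcard⟩ := exists_coq h hF hn
  have h3 : ∀ r ∈ ρ, 3 < r := fun r hr => by have := (h5 r hr).1; omega
  have hT := TB_cases hn
  have hP : ∀ r, r.Prime → r ∣ Nat.card S → r ∈ P n := fun r hr hd => mem_P' h hF (by omega) (by omega) hr hd
  have hR : ∀ r ∈ RS n, r ∣ Nat.card S := fun r hr => RS_dvd h hF hn hr
  have heq := hg.eq
  have hq2 : ∀ {q : ℕ}, IsPrimePow q → 2 ≤ q := fun h => h.one_lt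
  cases g with
  | psl m q =>
    obtain ⟨F', _, _, hF', ⟨e⟩⟩ := hg.real
    obtain ⟨hm, -, hq⟩ := hg.cond
    have hm3 : 3 ≤ m := by
      by_contra hlt
      obtain rfl : m = 2 := by omega
      have := psl_two_card_le (hρ.congr e) h3
      omega
    have h1 : 6 ≤ ρ.card → ρ.card ≤ 1 + (m - m / 2) := half_psl hm e hρ h3
    refine pp_cases (q := q) hq fun p f hp hf hqf hp5 => ?_
    have hFD := Fam.psl hm3 (hq2 hq) heq
    rw [hqf] at hFD
    refine smallL hn h14 hp hf hFD ?_ hP hp5 hR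
    unfold m0L
    split_ifs <;> omega
  | psu m q =>
    obtain ⟨F', _, _, hF', ⟨e⟩⟩ := hg.real
    obtain ⟨hm, -, hq⟩ := hg.cond
    have h1 : 6 ≤ ρ.card → ρ.card ≤ 1 + (m - m / 2) := half_psu hF' hm e hρ h3
    refine pp_cases (q := q) hq fun p f hp hf hqf hp5 => ?_
    have hFD := Fam.psu hm heq
    rw [hqf] at hFD
    refine smallU hn h14 hp hf hFD ?_ hP hp5 hR
    unfold m0U
    split_ifs <;> omega
  | psp m q =>
    obtain ⟨F', _, _, hF', ⟨e⟩⟩ := hg.real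
    obtain ⟨hm, -, hq⟩ := hg.cond
    have h1 : 6 ≤ ρ.card → ρ.card ≤ 1 + ((m - m / 2) + ((m + 1) / 2 - (m / 2 + 1) / 2)) := half_sp hm e hρ h3
    refine pp_cases (q := q) hq fun p f hp hf hqf hp5 => ?_
    have hFD := Fam.psp hm heq
    rw [hqf] at hFD
    refine smallC hn h14 hp hf hFD ?_ hP hp5 hR
    unfold m0C
    split_ifs <;> omega
  | oodd m q =>
    obtain ⟨F', _, _, hF', ⟨e⟩⟩ := hg.real
    obtain ⟨hm, ho, hq⟩ := hg.cond
    have h2' : (2 : F') ≠ 0 := two_ne_zero_of_odd (by rw [hF']; exact ho)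
    have h1 : 6 ≤ ρ.card → ρ.card ≤ 1 + ((m - m / 2) + ((m + 1) / 2 - (m / 2 + 1) / 2)) := half_odd h2' hm e hρ h3
    refine pp_cases (q := q) hq fun p f hp hf hqf hp5 => ?_
    have hFD := Fam.oodd (by omega) ho heq
    rw [hqf] at hFD
    refine smallC hn h14 hp hf hFD ?_ hP hp5 hR
    unfold m0C
    split_ifs <;> omega
  | oplus m q =>
    obtain ⟨F', _, _, hF', ⟨e⟩⟩ := hg.real
    obtain ⟨hm, hq⟩ := hg.cond
    have h1 : 6 ≤ ρ.card → ρ.card ≤ 2 + ((m - 1 - (m - 1) / 2) + (m / 2 - ((m - 1) / 2 + 1) / 2)) :=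
      half_plus hm e hρ h3
    refine pp_cases (q := q) hq fun p f hp hf hqf hp5 => ?_
    have hFD := Fam.oplus hm heq
    rw [hqf] at hFD
    refine smallD hn h14 hp hf hFD ?_ hP hp5 hR
    unfold m0D
    split_ifs <;> omega
  | ominus m q =>
    obtain ⟨F', _, _, a, b, hF', hab, ⟨e⟩⟩ := hg.real
    obtain ⟨hm, hq⟩ := hg.cond
    have h1 : 6 ≤ ρ.card → ρ.card ≤ 2 + ((m - 1 - (m - 1) / 2) + (m / 2 - ((m - 1) / 2 + 1) / 2)) :=
      half_minus hm hab e hρ h3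
    refine pp_cases (q := q) hq fun p f hp hf hqf hp5 => ?_
    have hFD := Fam.ominus hm heq
    rw [hqf] at hFD
    refine smallD hn h14 hp hf hFD ?_ hP hp5 hR
    unfold m0D
    split_ifs <;> omega
  | _ => exact hc.elim

/-- **Classical groups.** -/
theorem classical (h : SHyp (POmega F (quadFormOdd n F)) S) (hF : Fintype.card F = 5) (hn : 6 ≤ n)
    {g : Grp} (hc : IsCls g) (hg : IsNamed g S) : ∃ f : ℕ, f ≠ 0 ∧ H425.Chr.qOf g = 5 ^ f := by
  by_cases h14 : n ≤ 14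
  · exact small h hF hn h14 hc hg
  · exact large h hF (by omega) hc hg

end main

end Cfsg.Agent.H407.B5
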