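import Cfsg.Agent.H407.E8Str

/-!
# Groups with the prime graph of `E₈(q)`: the radical (helper407)

`UC l F'` : every element of prime order `r ≠ l` with `u = |F'|` of order 24 modulo `r` fixes a non-zero vector of every
`𝔽_l E₈(u)`-module. `Fr.bot` : then `K = 1`, given that every prime of `|K|` is not adjacent to some such `r`.
-/

set_option autoImplicit false
set_option linter.unusedSectionVars false

namespace Cfsg.Agent.H407.E8

open Cfsg Cfsg.Lie Cfsg.Agent.H378.ExcAdj Cfsg.Agent.H378.AdjTab Cfsg.Agent.H425.KFix Cfsg.Agent.H378.ExcNear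

universe u v w

/-- elements of prime order in the torus of type 24 have fixed vectors in characteristic `l` -/
def UC (l : ℕ) (F' : Type w) [Field F'] : Prop :=
  ∀ x : ↥(chevE8.group F'), (orderOf x).Prime → od (Nat.card F') (orderOf x) = 24 → l ≠ orderOf x → FixAll.{u} l x

theorem Fr.bot {F : Type v} [Field F] {G : Type u} [Group G] [Finite G] {K : Subgroup G} [K.Normal]
    {S : Subgroup (G ⧸ K)} [S.Normal] (h : Fr F K S) {F' : Type w} [Field F'] [Finite F']
    (e : ↥S ≃* ↥(chevE8.group F'))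
    (hl : ∀ l : ℕ, l.Prime → l ∣ Nat.card ↥K → ∃ r : ℕ, r.Prime ∧ od (Nat.card F') r = 24 ∧ l ≠ r ∧
      ¬ ∃ g : G, orderOf g = l * r)
    (hU : ∀ l : ℕ, l.Prime → UC.{u} l F') : K = ⊥ := by
  refine K_bot K h.red.solv (S.subtype.comp e.symm.toMonoidHom)
    (S.subtype_injective.comp e.symm.injective) fun l hlp hlK => ?_
  obtain ⟨r, hr, ho, hlr, hno⟩ := hl l hlp hlK
  have := Fact.mk hr
  obtain ⟨x, hx⟩ := exists_prime_orderOf_dvd_card' r (dvd_card (F := F') (i := 1) hr ho)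
  refine ⟨x, by rw [hx]; exact hr, by rw [hx]; exact hlr, hU l hlp x (by rw [hx]; exact hr) (by rw [hx]; exact ho)
    (by rw [hx]; exact hlr), ?_⟩
  rw [hx]
  exact hno

/-- the same, from a name in `Type` -/
theorem Fr.bot' {F : Type v} [Field F] {G : Type u} [Group G] [Finite G] {K : Subgroup G} [K.Normal]
    {S : Subgroup (G ⧸ K)} [S.Normal] (h : Fr F K S)
    (hl : ∀ (F' : Type) [Field F'] [Fintype F'], Nonempty (↥S ≃* ↥(chevE8.group F')) →
      ∀ l : ℕ, l.Prime → l ∣ Nat.card ↥K → ∃ r : ℕ, r.Prime ∧ od (Nat.card F') r = 24 ∧ l ≠ r ∧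
      ¬ ∃ g : G, orderOf g = l * r)
    (hU : ∀ (F' : Type) [Field F'] [Finite F'] (l : ℕ), l.Prime → UC.{u} l F') : K = ⊥ := by
  obtain ⟨F', _, _, ⟨e⟩⟩ := h.e8
  exact h.bot e (hl F' ⟨e⟩) (fun l hlp => hU F' l hlp)

end Cfsg.Agent.H407.E8
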