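import Cfsg.Agent.H407.MFrob
import Cfsg.Agent.H407.E8L
import Cfsg.Agent.H425.KFix

/-!
# The radical is trivial (helper407)

`K_bot` : `S ≅ H`, every prime `l` of `|K|` is not adjacent to the order `r` of an element `x` of `H` which fixes a
non-zero vector in every `𝔽_l H`-module: `K = 1`.
-/

set_option autoImplicit false
set_option linter.unusedSectionVars false

namespace Cfsg.Agent.H407.E8

open Subgroup Cfsg.Agent.H420.QR Cfsg.Agent.H425.KFix

universe u v

theorem K_bot {G : Type u} [Group G] [Finite G] (K : Subgroup G) [K.Normal] (hK : Group.IsSolvable ↥K)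
    {H : Type v} [Group H] [Finite H] (φ : H →* G ⧸ K) (hφ : Function.Injective φ)
    (h : ∀ l : ℕ, l.Prime → l ∣ Nat.card ↥K → ∃ x : H, (orderOf x).Prime ∧ l ≠ orderOf x ∧ FixAll.{u} l x ∧
      ¬ ∃ g : G, orderOf g = l * orderOf x) : K = ⊥ := by
  by_contra hK1
  obtain ⟨D, hD, l, hl, hDK, hDne, hcomm, hpow⟩ := MF.exists_top K hK hK1
  have hmap : ∀ y : G ⧸ D, y ∈ K.map (QuotientGroup.mk' D) → ∃ k ∈ K, (QuotientGroup.mk k : G ⧸ D) = y := by
    rintro y ⟨k, hk, rfl⟩
    exact ⟨k, hk, rfl⟩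
  have hVp : ∀ a ∈ K.map (QuotientGroup.mk' D), a ^ l = 1 := by
    intro a ha
    obtain ⟨k, hk, rfl⟩ := hmap a ha
    rw [← QuotientGroup.mk_pow, QuotientGroup.eq_one_iff]
    exact hpow k hk
  have hVc : ∀ a ∈ K.map (QuotientGroup.mk' D), ∀ b ∈ K.map (QuotientGroup.mk' D), a * b = b * a := by
    intro a ha b hb
    obtain ⟨k, hk, rfl⟩ := hmap a ha
    obtain ⟨k', hk', rfl⟩ := hmap b hb
    have h1 : (QuotientGroup.mk (k * k' * k⁻¹ * k'⁻¹) : G ⧸ D) = 1 :=
      (QuotientGroup.eq_one_iff _).2 (hcomm k hk k' hk')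
    rw [QuotientGroup.mk_mul, QuotientGroup.mk_mul, QuotientGroup.mk_mul, QuotientGroup.mk_inv,
      QuotientGroup.mk_inv] at h1
    rw [mul_inv_eq_one, mul_inv_eq_iff_eq_mul] at h1
    exact h1
  have hV1 : K.map (QuotientGroup.mk' D) ≠ ⊥ := by
    intro h1
    apply hDne
    refine le_antisymm hDK fun k hk => ?_
    have h2 : (QuotientGroup.mk' D) k ∈ K.map (QuotientGroup.mk' D) := mem_map_of_mem _ hk
    rw [h1, mem_bot, QuotientGroup.mk'_apply, QuotientGroup.eq_one_iff] at h2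
    exact h2
  -- `l` divides `|K|`
  have hlK : l ∣ Nat.card ↥K := by
    obtain ⟨y, hy, hy1⟩ := (Subgroup.ne_bot_iff_exists_ne_one (H := K.map (QuotientGroup.mk' D))).1 hV1 |>.elim
      fun y hy => (⟨y.1, y.2, fun h => hy (Subtype.ext h)⟩ : ∃ y, y ∈ K.map (QuotientGroup.mk' D) ∧ y ≠ 1)
    have := Fact.mk hl
    have h2 : orderOf y = l := orderOf_eq_prime (hVp y hy) hy1
    have h3 : l ∣ Nat.card ↥(K.map (QuotientGroup.mk' D)) := by
      rw [← h2, ← Subgroup.orderOf_mk y hy]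
      exact orderOf_dvd_natCard _
    exact h3.trans (Subgroup.card_map_dvd K (QuotientGroup.mk' D))
  obtain ⟨x, hxp, hlx, hU, hno⟩ := h l hl hlK
  have : (K.map (QuotientGroup.mk' D)).Normal := Subgroup.Normal.map inferInstance _ (QuotientGroup.mk'_surjective D)
  let e : (G ⧸ D) ⧸ K.map (QuotientGroup.mk' D) ≃* G ⧸ K := QuotientGroup.quotientQuotientEquivQuotient D K hDK
  have hx : orderOf ((e.symm.toMonoidHom.comp φ) x) = orderOf x := by
    show orderOf (e.symm (φ x)) = _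
    rw [MulEquiv.orderOf_eq, orderOf_injective φ hφ]
  obtain ⟨g, hg⟩ := exists_adj_of_fix (K.map (QuotientGroup.mk' D)) hl hxp hlx (K.map (QuotientGroup.mk' D)) hV1
    hVc hVp (fun k hk a ha => hVc k hk a ha) (e.symm.toMonoidHom.comp φ) x hx hU
  obtain ⟨g', rfl⟩ := QuotientGroup.mk'_surjective D g
  have h4 : l * orderOf x ∣ orderOf g' := by
    rw [← hg]
    exact orderOf_map_dvd _ g'
  exact hno (MF.exists_of_dvd h4)

end Cfsg.Agent.H407.E8
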