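import Cfsg.Agent.H407.E8Name
import Cfsg.Agent.H407.E8K

/-!
# Groups with the prime graph of `E₈(q)`: the frame (helper407)

* `coq` : the coclique `{2, r₁₅, r₂₄, r₃₀, r₂₀}`;
* `exists_frame` : `K` the solvable radical, `S ≤ G / K` simple with trivial centraliser, `S ≅ E₈(u)`, the primes of the
  classes 15, 24, 30, 20 divide `|S|` and do not divide `|K|`, `|G / K : S|`.
-/

set_option autoImplicit false
set_option linter.unusedSectionVars false

namespace Cfsg.Agent.H407.E8

open Cfsg Cfsg.Lie Cfsg.Agent.H416.Arith Cfsg.Agent.H378.ExcAdj Cfsg.Agent.H378.ExcNear Cfsg.Agent.H420.QR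
  Cfsg.Agent.H378.AdjTab

universe u v

/-! ### `PSL₂` -/

theorem psl2_coq {F' : Type*} [Field F'] [Fintype F'] (h3 : 3 ≤ Fintype.card F') {ρ : Finset ℕ}
    (hρ : IsCoq (Matrix.ProjectiveSpecialLinearGroup (Fin 2) F') ρ) : ρ.card ≤ 3 := by
  classical
  rcases Nat.lt_or_ge (Fintype.card F') 4 with h4 | h4
  · have hF : Nat.card F' = 3 := by rw [Nat.card_eq_fintype_card]; omega
    have hsub : ρ ⊆ {2, 3} := fun r hr => by
      have hp := hρ.prime r hr
      have h1 : r ∣ 2 ^ 3 * 3 := by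
        rcases H371.Psl.dvd_card (by norm_num) hp (hρ.dvd r hr) with h1 | ⟨k, hk1, hk3, h1⟩
        · rw [hF] at h1; exact h1.trans (by norm_num)
        · rw [hF] at h1; interval_cases k <;> exact h1.trans (by norm_num)
      simp only [Finset.mem_insert, Finset.mem_singleton]
      rcases (Nat.Prime.dvd_mul hp).1 h1 with h2 | h2
      · exact Or.inl ((Nat.prime_dvd_prime_iff_eq hp Nat.prime_two).1 (hp.dvd_of_dvd_pow h2))
      · exact Or.inr ((Nat.prime_dvd_prime_iff_eq hp Nat.prime_three).1 h2)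
    exact (Finset.card_le_card hsub).trans (by decide)
  obtain ⟨p, hp⟩ := CharP.exists F'
  have hpp : p.Prime := CharP.char_is_prime F' p
  have := Fact.mk hpp
  have hS := S2475.result (F := F') p h4
  obtain ⟨q, hq⟩ : ∃ q, q = Fintype.card F' := ⟨_, rfl⟩
  rw [← hq] at hS
  let f : ℕ → ℕ := fun r => if r ∣ p then 0 else if r ∣ (q - 1) / Nat.gcd 2 (q - 1) then 1 else 2
  have hcl : ∀ r ∈ ρ, (r ∣ p ∨ r ∣ (q - 1) / Nat.gcd 2 (q - 1)) ∨ r ∣ (q + 1) / Nat.gcd 2 (q - 1) := by
    intro r hr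
    have := Fact.mk (hρ.prime r hr)
    obtain ⟨x, hx⟩ := exists_prime_orderOf_dvd_card' r (hρ.dvd r hr)
    have h1 : r ∈ Set.range (orderOf : Matrix.ProjectiveSpecialLinearGroup (Fin 2) F' → ℕ) := ⟨x, hx⟩
    rw [hS] at h1
    rcases h1 with h1 | h1 | h1
    · exact Or.inl (Or.inl h1)
    · exact Or.inl (Or.inr h1)
    · exact Or.inr h1
  have hle : ∀ s ∈ ρ, f s ∈ Finset.range 3 := by
    intro s _
    rw [Finset.mem_range]
    simp only [f]
    split_ifs <;> omega
  refine (Finset.card_le_card_of_injOn f hle ?_).trans (by rw [Finset.card_range])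
  intro r hr s hs hrs
  by_contra hne
  have hrp := hρ.prime r hr
  have hsp := hρ.prime s hs
  have hco : Nat.Coprime r s := (Nat.coprime_primes hrp hsp).2 hne
  have hno := hρ.nadj r hr s hs hne
  have hrange : ∀ m, m ∈ Set.range (orderOf : Matrix.ProjectiveSpecialLinearGroup (Fin 2) F' → ℕ) ↔
      (m ∣ p ∨ m ∣ (q - 1) / Nat.gcd 2 (q - 1) ∨ m ∣ (q + 1) / Nat.gcd 2 (q - 1)) := fun m => by
    rw [hS]; rfl
  have hno' : ¬ (r * s ∣ p ∨ r * s ∣ (q - 1) / Nat.gcd 2 (q - 1) ∨ r * s ∣ (q + 1) / Nat.gcd 2 (q - 1)) :=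
    fun h => hno ((hrange _).2 h)
  push Not at hno'
  simp only [f] at hrs
  by_cases a1 : r ∣ p
  · by_cases b1 : s ∣ p
    · exact hne (((Nat.prime_dvd_prime_iff_eq hrp hpp).1 a1).trans ((Nat.prime_dvd_prime_iff_eq hsp hpp).1 b1).symm)
    · rw [if_pos a1, if_neg b1] at hrs
      split_ifs at hrs
  · rw [if_neg a1] at hrs
    by_cases b1 : s ∣ p
    · rw [if_pos b1] at hrs
      split_ifs at hrs
    · rw [if_neg b1] at hrs
      by_cases a2 : r ∣ (q - 1) / Nat.gcd 2 (q - 1)
      · by_cases b2 : s ∣ (q - 1) / Nat.gcd 2 (q - 1)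
        · exact hno'.2.1 (hco.mul_dvd_of_dvd_of_dvd a2 b2)
        · rw [if_pos a2, if_neg b2] at hrs
          omega
      · by_cases b2 : s ∣ (q - 1) / Nat.gcd 2 (q - 1)
        · rw [if_neg a2, if_pos b2] at hrs
          omega
        · have c1 : r ∣ (q + 1) / Nat.gcd 2 (q - 1) := (hcl r hr).resolve_left (by tauto)
          have c2 : s ∣ (q + 1) / Nat.gcd 2 (q - 1) := (hcl s hs).resolve_left (by tauto)
          exact hno'.2.2 (hco.mul_dvd_of_dvd_of_dvd c1 c2)

/-! ### the coclique -/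

section

variable {F : Type v} [Field F] [Finite F]

theorem card_pos_of {r : ℕ} {m : ℕ} (h : od (Nat.card F) r = m) (hm : 15 ≤ m) (hr : r.Prime) : 16 ≤ r := by
  have := le_of_od hr h (by omega)
  omega

/-- non-adjacent pairs -/
theorem nadj_of {i : Fin 3} {r s : ℕ} (hr : r.Prime) (hs : s.Prime) (h : od (Nat.card F) r = ix i)
    (hne : od (Nat.card F) s ≠ ix i) : (¬ ∃ x : ↥(chevE8.group F), orderOf x = r * s) ∧
      ¬ ∃ x : ↥(chevE8.group F), orderOf x = s * r := by
  refine ⟨fun ⟨x, hx⟩ => isol hr hs h hne x hx, fun ⟨x, hx⟩ => isol hr hs h hne x (by rw [hx, mul_comm])⟩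

theorem nadj20 {r : ℕ} (hr : r.Prime) (h : od (Nat.card F) r = 20) :
    (¬ ∃ x : ↥(chevE8.group F), orderOf x = r * 2) ∧ ¬ ∃ x : ↥(chevE8.group F), orderOf x = 2 * r := by
  have key : ¬ ∃ x : ↥(chevE8.group F), orderOf x = r * 2 := by
    rintro ⟨x, hx⟩
    rcases near20 hr Nat.prime_two h hx with h1 | h1
    · have := od_two_le (Nat.card F)
      omega
    · exact absurd h1.1 (by norm_num)
  exact ⟨key, fun ⟨x, hx⟩ => key ⟨x, by rw [hx, mul_comm]⟩⟩

theorem coq {f : Fin 3 → ℕ} (hf : ∀ i, (f i).Prime ∧ od (Nat.card F) (f i) = ix i) {t : ℕ} (ht : t.Prime)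
    (ht20 : od (Nat.card F) t = 20) : IsCoq ↥(chevE8.group F) {2, f 0, f 1, f 2, t} ∧
      ({2, f 0, f 1, f 2, t} : Finset ℕ).card = 5 := by
  classical
  have h2 : ∀ i, od (Nat.card F) 2 ≠ ix i := fun i => od_ne i (by have := od_two_le (Nat.card F); omega)
  have ht' : ∀ i, od (Nat.card F) t ≠ ix i := fun i => by rw [ht20]; fin_cases i <;> decide
  have hij : ∀ i j, i ≠ j → od (Nat.card F) (f j) ≠ ix i := fun i j hij h => hij
    (ix_inj (h.symm.trans (hf j).2))
  have hsym : ∀ i j, i ≠ j → f i ≠ f j := fun i j hij he => hij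
    (ix_inj ((hf i).2.symm.trans (by rw [he]; exact (hf j).2)))
  have hf2 : ∀ i, f i ≠ 2 := fun i he => h2 i (he ▸ (hf i).2)
  have hft : ∀ i, f i ≠ t := fun i he => ht' i (he ▸ (hf i).2)
  have ht2 : t ≠ 2 := fun he => by
    have := od_two_le (Nat.card F)
    rw [he] at ht20
    omega
  have a2 := fun i => nadj_of (hf i).1 Nat.prime_two (hf i).2 (h2 i)
  have at' := fun i => nadj_of (hf i).1 ht (hf i).2 (ht' i)
  have aij := fun i j (h : i ≠ j) => nadj_of (hf i).1 (hf j).1 (hf i).2 (hij i j h)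
  have a20 := nadj20 ht ht20
  have d01 : (0 : Fin 3) ≠ 1 := by decide
  have d02 : (0 : Fin 3) ≠ 2 := by decide
  have d12 : (1 : Fin 3) ≠ 2 := by decide
  refine ⟨⟨?_, ?_, ?_⟩, ?_⟩
  · intro r hr
    simp only [Finset.mem_insert, Finset.mem_singleton] at hr
    rcases hr with rfl | rfl | rfl | rfl | rfl
    · exact Nat.prime_two
    · exact (hf 0).1
    · exact (hf 1).1
    · exact (hf 2).1
    · exact ht
  · intro r hr
    simp only [Finset.mem_insert, Finset.mem_singleton] at hr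
    rcases hr with rfl | rfl | rfl | rfl | rfl
    · have : Fintype F := Fintype.ofFinite F
      have h3 := Cfsg.Agent.S1065.result (F := F) rfl
      rw [← Nat.card_eq_fintype_card] at h3
      rw [h3]
      have hq := two_le_card (F := F)
      rcases Nat.even_or_odd (Nat.card F) with he | ho
      · refine Dvd.dvd.mul_right (Dvd.dvd.mul_right (Dvd.dvd.mul_right (Dvd.dvd.mul_right (Dvd.dvd.mul_right
          (Dvd.dvd.mul_right (Dvd.dvd.mul_right (Dvd.dvd.mul_right ?_ _) _) _) _) _) _) _) _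
        exact he.two_dvd.trans (dvd_pow_self _ (by norm_num))
      · refine Dvd.dvd.mul_left ?_ _
        have h4 : Even (Nat.card F ^ 30 - 1) := by
          have : Odd (Nat.card F ^ 30) := ho.pow
          exact Nat.Odd.sub_odd this odd_one
        exact h4.two_dvd
    · exact dvd_card (hf 0).1 (hf 0).2
    · exact dvd_card (hf 1).1 (hf 1).2
    · exact dvd_card (hf 2).1 (hf 2).2
    · exact dvd_card_20 ht20
  · intro r hr s hs hrs
    simp only [Finset.mem_insert, Finset.mem_singleton] at hr hs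
    rcases hr with rfl | rfl | rfl | rfl | rfl <;> rcases hs with rfl | rfl | rfl | rfl | rfl
    · exact absurd rfl hrs
    · exact (a2 0).2
    · exact (a2 1).2
    · exact (a2 2).2
    · exact a20.2
    · exact (a2 0).1
    · exact absurd rfl hrs
    · exact (aij 0 1 d01).1
    · exact (aij 0 2 d02).1
    · exact (at' 0).1
    · exact (a2 1).1
    · exact (aij 1 0 d01.symm).1
    · exact absurd rfl hrs
    · exact (aij 1 2 d12).1
    · exact (at' 1).1
    · exact (a2 2).1
    · exact (aij 2 0 d02.symm).1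
    · exact (aij 2 1 d12.symm).1
    · exact absurd rfl hrs
    · exact (at' 2).1
    · exact a20.1
    · exact (at' 0).2
    · exact (at' 1).2
    · exact (at' 2).2
    · exact absurd rfl hrs
  · rw [Finset.card_insert_of_notMem, Finset.card_insert_of_notMem, Finset.card_insert_of_notMem,
      Finset.card_insert_of_notMem, Finset.card_singleton]
    · simp [hft 2]
    · simp [hsym 1 2 d12, hft 1]
    · simp [hsym 0 1 d01, hsym 0 2 d02, hft 0]
    · simp [(hf2 0).symm, (hf2 1).symm, (hf2 2).symm, ht2.symm]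

/-! ### the frame -/

/-- the same prime graph -/
def Same (L : Type v) [Group L] (G : Type u) [Group G] : Prop :=
  (∀ r : ℕ, r.Prime → (r ∣ Nat.card L ↔ r ∣ Nat.card G)) ∧
      (∀ r s : ℕ, r.Prime → s.Prime → r ≠ s → ((∃ x : L, orderOf x = r * s) ↔ (∃ y : G, orderOf y = r * s)))

/-- the data -/
structure Fr (F : Type v) [Field F] {G : Type u} [Group G] (K : Subgroup G) [K.Normal] (S : Subgroup (G ⧸ K))
    [S.Normal] : Prop where
  red : Red G K S
  e8 : Lie.IsoE8 ↥S
  /-- the primes not adjacent to 2 -/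
  nadj : ∀ r : ℕ, r.Prime → (od (Nat.card F) r = 15 ∨ od (Nat.card F) r = 20 ∨ od (Nat.card F) r = 24 ∨
    od (Nat.card F) r = 30) → r ∣ Nat.card ↥S ∧ ¬ r ∣ Nat.card ↥K ∧ ¬ r ∣ S.index

theorem exists_frame {G : Type u} [Group G] [Finite G] (h : Same ↥(chevE8.group F) G) :
    ∃ (K : Subgroup G) (_ : K.Normal) (S : Subgroup (G ⧸ K)) (_ : S.Normal), Fr F K S := by
  classical
  obtain ⟨f, hf⟩ := exists_three (F := F)
  obtain ⟨t, ht, ht20⟩ := exists_20 (two_le_card (F := F))
  obtain ⟨hρ, hcard⟩ := coq hf ht ht20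
  have hf2 : ∀ i, f i ≠ 2 := fun i he => od_ne i (by have := od_two_le (Nat.card F); omega) (he ▸ (hf i).2)
  have h2 : ∃ p : ℕ, p.Prime ∧ p ≠ 2 ∧ p ∣ Nat.card ↥(chevE8.group F) ∧
      ¬ ∃ x : ↥(chevE8.group F), orderOf x = 2 * p :=
    ⟨f 0, (hf 0).1, hf2 0, dvd_card (hf 0).1 (hf 0).2,
      (nadj_of (hf 0).1 Nat.prime_two (hf 0).2 (od_ne 0 (by have := od_two_le (Nat.card F); omega))).2⟩
  obtain ⟨K, hK, S, hS, hR, hSH⟩ := exists_red_of_same h hρ (by omega) h2
  have hsimp := hR.simple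
  have hA : ¬ Cfsg.Agent.H414.Rad.AltL2 ↥S := by
    obtain ⟨hσ, hσc⟩ := hSH.filter hρ (by omega)
    rw [hcard] at hσc
    rintro (⟨⟨e⟩⟩ | ⟨F', _, _, hodd, ⟨e⟩⟩)
    · have hsub : (({2, f 0, f 1, f 2, t} : Finset ℕ).filter fun r => r ∣ Nat.card ↥S) ⊆ {2} := by
        intro r hr
        have hp := hσ.prime r hr
        have h3 := H376.Coc.alt_dvd_le (m := 7) hp (by rw [← Nat.card_congr e.toEquiv]; exact hσ.dvd r hr)
        have h4 := (Finset.mem_filter.1 hr).1
        simp only [Finset.mem_insert, Finset.mem_singleton] at h4 ⊢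
        have h5 : ∀ i, 16 ≤ f i := fun i => card_pos_of (hf i).2 (ix_ge i) (hf i).1
        have h6 : 16 ≤ t := card_pos_of ht20 (by norm_num) ht
        rcases h4 with h4 | h4 | h4 | h4 | h4
        · exact h4
        · have := h5 0; omega
        · have := h5 1; omega
        · have := h5 2; omega
        · omega
      have := Finset.card_le_card hsub
      rw [Finset.card_singleton] at this
      omega
    · have h1 : 3 ≤ Fintype.card F' := by
        have := Fintype.one_lt_card (α := F')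
        obtain ⟨k, hk⟩ := hodd
        omega
      have hσ' : IsCoq (Matrix.ProjectiveSpecialLinearGroup (Fin 2) F')
          (({2, f 0, f 1, f 2, t} : Finset ℕ).filter fun r => r ∣ Nat.card ↥S) := by
        refine ⟨hσ.prime, fun r hr => ?_, fun r hr s hs hrs ⟨x, hx⟩ => ?_⟩
        · rw [← Nat.card_congr e.toEquiv]; exact hσ.dvd r hr
        · exact hσ.nadj r hr s hs hrs ⟨e.symm x, by rw [MulEquiv.orderOf_eq, hx]⟩
      have := psl2_coq h1 hσ'
      omega
  -- the primes not adjacent to 2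
  have hnadj : ∀ r : ℕ, r.Prime → (od (Nat.card F) r = 15 ∨ od (Nat.card F) r = 20 ∨ od (Nat.card F) r = 24 ∨
      od (Nat.card F) r = 30) → r ∣ Nat.card ↥S ∧ ¬ r ∣ Nat.card ↥K ∧ ¬ r ∣ S.index := by
    intro r hr hod
    have hr2 : r ≠ 2 := by
      rintro rfl
      have := od_two_le (Nat.card F)
      omega
    have key : r ∣ Nat.card ↥(chevE8.group F) ∧ ¬ ∃ x : ↥(chevE8.group F), orderOf x = 2 * r := by
      have h2' : ∀ i, od (Nat.card F) 2 ≠ ix i := fun i => od_ne i (by have := od_two_le (Nat.card F); omega)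
      rcases hod with h1 | h1 | h1 | h1
      · exact ⟨dvd_card (i := 0) hr h1, (nadj_of (i := 0) hr Nat.prime_two h1 (h2' 0)).2⟩
      · exact ⟨dvd_card_20 h1, (nadj20 hr h1).2⟩
      · exact ⟨dvd_card (i := 1) hr h1, (nadj_of (i := 1) hr Nat.prime_two h1 (h2' 1)).2⟩
      · exact ⟨dvd_card (i := 2) hr h1, (nadj_of (i := 2) hr Nat.prime_two h1 (h2' 2)).2⟩
    exact (hR.two.resolve_left hA) r hr hr2 ((h.1 r hr).1 key.1)
      (fun hx => key.2 ((h.2 2 r Nat.prime_two hr hr2.symm).2 hx))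
  have hsec : Sec F ↥S := by
    refine ⟨hSH.adj, fun i r hr hi => (hnadj r hr ?_).1, ?_⟩
    · rw [hi]
      fin_cases i
      · exact Or.inl rfl
      · exact Or.inr (Or.inr (Or.inl rfl))
      · exact Or.inr (Or.inr (Or.inr rfl))
    · have hnc : ¬ IsCyclic ↥S := fun hc => hR.nonab inferInstance
      obtain ⟨E, hE⟩ := S0204.result hnc
      have h4 : Nat.card ↥E = 4 := hE.card_four
      have h5 := Subgroup.card_subgroup_dvd_card E
      rw [h4] at h5
      exact (by norm_num : 2 ∣ 4).trans h5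
  exact ⟨K, hK, S, hS, hR, hsec.isoE8 hR.nonab S0000.result, hnadj⟩

end

end Cfsg.Agent.H407.E8
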