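import Cfsg.Agent.H425.PartP

/-!
# Groups of Lie type all of whose prime divisors lie in a given finite list (helper407)

`main` : let `P` be a list of primes containing the prime divisors of `N`, and suppose that the primitive prime divisors
of `q ^ e - 1` divide `N` for the labels `e` in the list `L` (and those `e` with `inB p f e`), `q = p ^ f`. If the boolean
check `chk` succeeds and `p` is in the list `Q` then `(p, f)` is in the list of exceptions `E`.

The check: `f` divides `(r - 1) / e`, `r` in `P`, for all `e` in `L`; this leaves a short list of numbers `f`; for each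
of them and each `p` in `Q` a prime `x` of the list `X`, not in `P`, divides `N`.
-/

set_option autoImplicit false

namespace Cfsg.Agent.H407.Engine

open Cfsg.Agent.H436

/-- the order of `u` modulo `x`, 0 if it is larger than `N` -/
def od (x u N : ℕ) : ℕ := ((List.range N).find? fun i => u ^ (i + 1) % x == 1).elim 0 (· + 1)

theorem prim_of_order {x Q e : ℕ} (hx : x.Prime) (hQ : 1 ≤ Q) (he : 0 < e) (h1 : Q ^ e % x = 1)
    (h2 : ∀ d, 0 < d → d < e → Q ^ d % x ≠ 1) : Prim Q e x := by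
  have : Fact x.Prime := ⟨hx⟩
  have key : ∀ m, x ∣ Q ^ m - 1 ↔ (Q : ZMod x) ^ m = 1 := by
    intro m
    rw [← ZMod.natCast_eq_zero_iff, Nat.cast_sub (Nat.one_le_pow _ _ hQ), Nat.cast_pow, Nat.cast_one, sub_eq_zero]
  have key2 : ∀ m, Q ^ m % x = 1 ↔ (Q : ZMod x) ^ m = 1 := by
    intro m
    have h3 : (1 : ℕ) % x = 1 := Nat.mod_eq_of_lt hx.one_lt
    have h4 : ((Q ^ m : ℕ) : ZMod x) = ((1 : ℕ) : ZMod x) ↔ Q ^ m % x = 1 % x := ZMod.natCast_eq_natCast_iff' _ _ _
    rw [h3, Nat.cast_pow, Nat.cast_one] at h4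
    exact h4.symm
  have hord : orderOf (Q : ZMod x) = e := by
    apply le_antisymm
    · exact orderOf_le_of_pow_eq_one he ((key2 e).1 h1)
    · by_contra hlt
      push Not at hlt
      have hpos : 0 < orderOf (Q : ZMod x) := by
        rw [orderOf_pos_iff, isOfFinOrder_iff_pow_eq_one]
        exact ⟨e, he, (key2 e).1 h1⟩
      exact h2 _ hpos hlt ((key2 _).2 (pow_orderOf_eq_one _))
  refine ⟨hx, fun m => ?_, fun hd => ?_⟩
  · rw [key, ← hord, orderOf_dvd_iff_pow_eq_one]
  · have h3 : (Q : ZMod x) = 0 := (ZMod.natCast_eq_zero_iff Q x).2 hd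
    have h4 := (key2 e).1 h1
    rw [h3, zero_pow he.ne'] at h4
    exact zero_ne_one h4

theorem od_spec {x u N : ℕ} (h : od x u N ≠ 0) :
    u ^ (od x u N) % x = 1 ∧ ∀ d, 0 < d → d < od x u N → u ^ d % x ≠ 1 := by
  unfold od at *
  rcases hf : (List.range N).find? (fun i => u ^ (i + 1) % x == 1) with _ | i
  · rw [hf] at h
    exact absurd rfl h
  · rw [List.find?_range_eq_some] at hf
    obtain ⟨h1, -, h3⟩ := hf
    simp only [Option.elim]
    refine ⟨by simpa using h1, fun d hd hdi => ?_⟩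
    obtain ⟨j, rfl⟩ : ∃ j, d = j + 1 := ⟨d - 1, by omega⟩
    have := h3 j (by omega)
    simpa using this

/-- no order up to `N` -/
theorem od_eq_zero {x u N : ℕ} (h : od x u N = 0) : ∀ d, 0 < d → d ≤ N → u ^ d % x ≠ 1 := by
  unfold od at *
  rcases hf : (List.range N).find? (fun i => u ^ (i + 1) % x == 1) with _ | i
  · intro d hd hdN
    rw [List.find?_eq_none] at hf
    have := hf (d - 1) (by rw [List.mem_range]; omega)
    rw [Nat.sub_add_cancel hd] at this
    simpa using this
  · rw [hf] at h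
    simp at h

theorem pow_mod' (p f x d : ℕ) : ((p % x) ^ f % x) ^ d % x = (p ^ f) ^ d % x := by
  have h1 : (p % x) ^ f % x = p ^ f % x := (Nat.pow_mod p f x).symm
  rw [h1, ← Nat.pow_mod]

/-- the order of `p ^ f` modulo `x` -/
def odd (p f x : ℕ) : ℕ := od x ((p % x) ^ f % x) 60

theorem prim_odd {p f x : ℕ} (hx : x.Prime) (hp : 1 ≤ p) (h : odd p f x ≠ 0) : Prim (p ^ f) (odd p f x) x := by
  obtain ⟨h1, h2⟩ := od_spec (x := x) (u := (p % x) ^ f % x) (N := 60) h
  refine prim_of_order hx (Nat.one_le_pow _ _ hp) (Nat.pos_of_ne_zero h) ?_ ?_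
  · rw [← pow_mod']; exact h1
  · intro d hd hde
    rw [← pow_mod']
    exact h2 d hd hde

/-- order larger than 60 -/
theorem lt_of_odd {p f x e : ℕ} (h : odd p f x = 0) (he : Prim (p ^ f) e x) (he0 : 0 < e) : 60 < e := by
  by_contra hlt
  push Not at hlt
  refine od_eq_zero h e he0 hlt ?_
  rw [pow_mod']
  have h1 := he.dvd dvd_rfl
  have hx := he.prime
  have h2 : 1 ≤ (p ^ f) ^ e := by
    by_contra h0
    have h3 : (p ^ f) ^ e = 0 := by omega
    exact he.not_dvd_pow e (h3 ▸ dvd_zero x)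
  obtain ⟨k, hk⟩ := h1
  have h4 : (p ^ f) ^ e = 1 + x * k := by omega
  rw [h4, Nat.add_mul_mod_self_left]
  exact Nat.mod_eq_of_lt hx.one_lt

/-- numbers of which one is a multiple of `f` -/
def gs (P : List ℕ) : List ℕ → List ℕ
  | [] => [0]
  | e :: L => ((gs P L).flatMap fun g => (P.filter fun r => (r - 1) % e == 0).map fun r => Nat.gcd g ((r - 1) / e)).dedup

theorem mem_gs {P : List ℕ} {f : ℕ} : ∀ {L : List ℕ}, (∀ e ∈ L, 0 < e ∧ ∃ r ∈ P, f * e ∣ r - 1) → ∃ g ∈ gs P L, f ∣ g
  | [], _ => ⟨0, by simp [gs], dvd_zero f⟩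
  | e :: L, h => by
    obtain ⟨g, hg, hfg⟩ := mem_gs (L := L) fun e' he' => h e' (List.mem_cons_of_mem _ he')
    obtain ⟨he, r, hr, hd⟩ := h e List.mem_cons_self
    have h1 : e ∣ r - 1 := (Dvd.intro_left f rfl).trans hd
    refine ⟨Nat.gcd g ((r - 1) / e), ?_, Nat.dvd_gcd hfg ?_⟩
    · rw [gs, List.mem_dedup, List.mem_flatMap]
      refine ⟨g, hg, List.mem_map.2 ⟨r, List.mem_filter.2 ⟨hr, ?_⟩, rfl⟩⟩
      rw [beq_iff_eq]
      exact Nat.mod_eq_zero_of_dvd h1
    · rw [Nat.dvd_div_iff_mul_dvd h1, mul_comm]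
      exact hd

/-- the necessary conditions on `f` -/
def okF (P L : List ℕ) (f : ℕ) : Bool :=
  (L.all fun e => P.any fun r => (r - 1) % (f * e) == 0) &&
    decide (L.length ≤ (P.filter fun r => (r - 1) % f == 0).length)

/-- the test of the pairs `(p, f)` -/
def test (P Q X : List ℕ) (E : List (ℕ × ℕ)) (inB : ℕ → ℕ → ℕ → Bool) (f : ℕ) : Bool :=
  Q.all fun p => E.contains (p, f) || X.any fun x => !P.contains x && odd p f x != 0 && inB p f (odd p f x)

/-- a check for all divisors of `g` -/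
def dvs (g : ℕ) (c : ℕ → Bool) : Bool :=
  (List.range (Nat.sqrt g + 1)).all fun i => i == 0 || g % i != 0 || (c i && c (g / i))

theorem of_dvs {g : ℕ} {c : ℕ → Bool} (h : dvs g c = true) (hg : g ≠ 0) {f : ℕ} (hf : f ∣ g) : c f = true := by
  unfold dvs at h
  rw [List.all_eq_true] at h
  have hf0 : f ≠ 0 := fun h0 => hg (Nat.eq_zero_of_zero_dvd (h0 ▸ hf))
  by_cases h1 : f ≤ Nat.sqrt g
  · have h2 := h f (List.mem_range.2 (by omega))
    simp only [Bool.or_eq_true, Bool.and_eq_true, beq_iff_eq, bne_iff_ne] at h2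
    rcases h2 with (h2 | h2) | h2
    · exact absurd h2 hf0
    · exact absurd (Nat.mod_eq_zero_of_dvd hf) h2
    · exact h2.1
  · obtain ⟨k, hk⟩ := hf
    have hk0 : k ≠ 0 := by rintro rfl; exact hg (by simpa using hk)
    have h3 : k ≤ Nat.sqrt g := by
      by_contra h4
      push Not at h1 h4
      have h5 : (Nat.sqrt g + 1) * (Nat.sqrt g + 1) ≤ f * k := Nat.mul_le_mul h1 h4
      have h6 := Nat.lt_succ_sqrt g
      rw [Nat.succ_eq_add_one] at h6
      omega
    have h2 := h k (List.mem_range.2 (by omega))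
    simp only [Bool.or_eq_true, Bool.and_eq_true, beq_iff_eq, bne_iff_ne] at h2
    have h7 : g / k = f := by rw [hk]; exact Nat.mul_div_cancel f (Nat.pos_of_ne_zero hk0)
    rw [h7] at h2
    rcases h2 with (h2 | h2) | h2
    · exact absurd h2 hk0
    · exact absurd (Nat.mod_eq_zero_of_dvd ⟨f, by rw [hk, mul_comm]⟩) h2
    · exact h2.2

/-- the check -/
def chk (P Q L X : List ℕ) (E : List (ℕ × ℕ)) (inB : ℕ → ℕ → ℕ → Bool) : Bool :=
  test P Q X E inB 1 && test P Q X E inB 2 &&
    (gs P L).all fun g => g != 0 && dvs g fun f => !okF P L f || test P Q X E inB f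

/-- **The engine.** -/
theorem main {P Q L X : List ℕ} {E : List (ℕ × ℕ)} {inB : ℕ → ℕ → ℕ → Bool} (hchk : chk P Q L X E inB = true)
    (hL : ∀ e ∈ L, 3 ≤ e) (hLn : L.Nodup) (hX : ∀ x ∈ X, x.Prime) {p f N : ℕ} (hp : p.Prime) (hf : f ≠ 0)
    (hpQ : p ∈ Q) (hN : ∀ e ∈ L, ∀ r, Prim (p ^ f) e r → r ∣ N)
    (hP : ∀ r, r.Prime → r ∣ N → r ∈ P)
    (hB : ∀ e x, 0 < e → inB p f e = true → x ∈ X → Prim (p ^ f) e x → x ∣ N) : (p, f) ∈ E := by
  -- the test is enough
  have key : test P Q X E inB f = true → (p, f) ∈ E := by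
    intro ht
    have h1 := List.all_eq_true.1 ht p hpQ
    simp only [Bool.or_eq_true] at h1
    rcases h1 with h1 | h1
    · simpa using h1
    · exfalso
      obtain ⟨x, hx, h2⟩ := List.any_eq_true.1 h1
      simp only [Bool.and_eq_true, bne_iff_ne, Bool.not_eq_true'] at h2
      obtain ⟨⟨h3, h4⟩, h5⟩ := h2
      have h6 := hB _ x (Nat.pos_of_ne_zero h4) h5 hx (prim_odd (hX x hx) hp.one_lt.le h4)
      have h7 := hP x (hX x hx) h6
      have h8 : P.contains x = true := by simpa using h7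
      rw [h8] at h3
      exact Bool.noConfusion h3
  unfold chk at hchk
  simp only [Bool.and_eq_true] at hchk
  obtain ⟨⟨hc1, hc2⟩, hc3⟩ := hchk
  by_cases hf1 : f = 1
  · exact key (hf1 ▸ hc1)
  by_cases hf2 : f = 2
  · exact key (hf2 ▸ hc2)
  have hf3 : 3 ≤ f := by omega
  have hr : ∀ e ∈ L, ∃ r ∈ P, Prim p (f * e) r := by
    intro e he
    have h3 := hL e he
    have h9 : 9 ≤ f * e := Nat.mul_le_mul hf3 h3
    obtain ⟨r, hr⟩ := exists_prim (q := p) (e := f * e) hp.two_le (by omega) (by rintro ⟨-, h⟩; omega)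
    exact ⟨r, hP r hr.prime (hN e he r (H425.PartP.prim_of_pow hf hr)), hr⟩
  have hdvd : ∀ {k r : ℕ}, Prim p k r → k ∣ r - 1 := by
    intro k r h
    have : Fact r.Prime := ⟨h.prime⟩
    refine (h.dvd_iff (r - 1)).1 ?_
    have h1 : (p : ZMod r) ≠ 0 := fun h2 => h.not_dvd ((ZMod.natCast_eq_zero_iff p r).1 h2)
    have h2 := ZMod.pow_card_sub_one_eq_one h1
    rw [← ZMod.natCast_eq_zero_iff, Nat.cast_sub (Nat.one_le_pow _ _ hp.pos), Nat.cast_pow, Nat.cast_one, h2, sub_self]
  obtain ⟨g, hg, hfg⟩ := mem_gs (P := P) (f := f) (L := L) fun e he => by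
    obtain ⟨r, hrP, hr⟩ := hr e he
    exact ⟨by have := hL e he; omega, r, hrP, hdvd hr⟩
  have h1 := List.all_eq_true.1 hc3 g hg
  simp only [Bool.and_eq_true, bne_iff_ne] at h1
  obtain ⟨hg0, h2⟩ := h1
  have h3 := of_dvs h2 hg0 hfg
  simp only [Bool.or_eq_true, Bool.not_eq_true'] at h3
  rcases h3 with h3 | h3
  · exfalso
    have h4 : okF P L f = true := by
      unfold okF
      rw [Bool.and_eq_true]
      constructor
      · rw [List.all_eq_true]
        intro e he
        obtain ⟨r, hrP, hr⟩ := hr e he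
        rw [List.any_eq_true]
        exact ⟨r, hrP, by rw [beq_iff_eq]; exact Nat.mod_eq_zero_of_dvd (hdvd hr)⟩
      · rw [decide_eq_true_eq]
        choose! F hF using hr
        have h5 : L.toFinset.card ≤ (P.filter fun r => (r - 1) % f == 0).toFinset.card := by
          refine Finset.card_le_card_of_injOn F ?_ ?_
          · intro e he
            rw [Finset.mem_coe, List.mem_toFinset] at he
            rw [Finset.mem_coe, List.mem_toFinset, List.mem_filter]
            refine ⟨(hF e he).1, ?_⟩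
            rw [beq_iff_eq]
            exact Nat.mod_eq_zero_of_dvd ((Dvd.intro _ rfl).trans (hdvd (hF e he).2))
          · intro e he e' he' hee
            rw [Finset.mem_coe, List.mem_toFinset] at he he'
            have h6 := (hF e he).2
            have h7 := (hF e' he').2
            rw [← hee] at h7
            have h8 := h6.unique h7
            exact Nat.eq_of_mul_eq_mul_left (by omega) h8
        rw [List.toFinset_card_of_nodup hLn] at h5
        exact h5.trans (List.toFinset_card_le _)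
    rw [h4] at h3
    exact Bool.noConfusion h3
  · exact key h3

end Cfsg.Agent.H407.Engine
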