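import Cfsg.Agent.H407.Fam
import Cfsg.Agent.H425.CharThree

/-!
# The exceptional families for the engine (helper407)
-/

set_option autoImplicit false

namespace Cfsg.Agent.H407.Exc

open Cfsg Cfsg.Agent.OrdDiv Cfsg.Agent.H436 Cfsg.Agent.H407.Engine

variable {q c r e : ℕ}

/-- primitive primes of the labels in the list divide `N` -/
def Inc (N q : ℕ) (L : List ℕ) : Prop := ∀ e ∈ L, ∀ r, Prim q e r → r ∣ N

/-- labels -/
def LG2 : List ℕ := [3, 6]
def LF4 : List ℕ := [3, 4, 6, 8, 12]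
def LE6 : List ℕ := [3, 4, 5, 6, 8, 9, 12]
def LE7 : List ℕ := [3, 4, 5, 6, 7, 8, 9, 10, 12, 14, 18]
def LE8 : List ℕ := [3, 4, 5, 6, 7, 8, 9, 10, 12, 14, 15, 18, 20, 24, 30]
def LTE6 : List ℕ := [3, 4, 6, 8, 10, 12, 18]
def LTD4 : List ℕ := [3, 6, 12]
def LTF4 : List ℕ := [4, 6, 12]
def LRee : List ℕ := [6]
def LSz : List ℕ := [4]

/-- product of `q ^ d - 1` -/
def pd (q : ℕ) (D : List ℕ) : ℕ := (D.map fun d => q ^ d - 1).prod

theorem dvd_pd {D : List ℕ} (h : Prim q e r) (hD : (D.any fun d => decide (e ∣ d)) = true) : r ∣ pd q D := by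
  obtain ⟨d, hd, hed⟩ := List.any_eq_true.1 hD
  rw [decide_eq_true_eq] at hed
  exact (h.dvd hed).trans (List.dvd_prod (List.mem_map.2 ⟨d, hd, rfl⟩))

theorem inc_of {D L : List ℕ} {N d X : ℕ} (h : d * c = q ^ N * (pd q D * X)) (hL : ∀ e ∈ L, 3 ≤ e)
    (hLD : (L.all fun e => D.any fun d => decide (e ∣ d)) = true) (hd : ∀ e r, 3 ≤ e → Prim q e r → ¬ r ∣ d) :
    Inc c q L := by
  intro e he r hr
  refine hr.dvd_of_eq h ?_ (hd e r (hL e he) hr)
  exact ((dvd_pd hr (List.all_eq_true.1 hLD e he)).mul_right _).mul_left _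

theorem not_dvd_one (_ : Prim q e r) (h : Prim q e r) : ¬ r ∣ 1 := h.prime.one_lt.ne' ∘ Nat.dvd_one.1

theorem g2 (h : den (.g2 q) * c = num (.g2 q)) : Inc c q LG2 := by
  have h1 : 1 * c = q ^ 6 * ((q ^ 2 - 1) * (q ^ 6 - 1)) := h
  refine inc_of (D := [2, 6]) (X := 1) (d := 1) (N := 6) ?_ (by decide) (by decide) fun e r _ hr => not_dvd_one hr hr
  rw [h1]; simp only [pd, List.map_cons, List.map_nil, List.prod_cons, List.prod_nil]; ring

theorem f4 (h : den (.f4 q) * c = num (.f4 q)) : Inc c q LF4 := by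
  have h1 : 1 * c = q ^ 24 * ((q ^ 2 - 1) * (q ^ 6 - 1) * (q ^ 8 - 1) * (q ^ 12 - 1)) := h
  refine inc_of (D := [2, 6, 8, 12]) (X := 1) (d := 1) (N := 24) ?_ (by decide) (by decide)
    fun e r _ hr => not_dvd_one hr hr
  rw [h1]; simp only [pd, List.map_cons, List.map_nil, List.prod_cons, List.prod_nil]; ring

theorem e6 (h : den (.e6 q) * c = num (.e6 q)) : Inc c q LE6 := by
  have h1 : Nat.gcd 3 (q - 1) * c = q ^ 36 * ((q ^ 2 - 1) * (q ^ 5 - 1) * (q ^ 6 - 1) * (q ^ 8 - 1) * (q ^ 9 - 1) *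
    (q ^ 12 - 1)) := h
  refine inc_of (D := [2, 5, 6, 8, 9, 12]) (X := 1) (d := Nat.gcd 3 (q - 1)) (N := 36) ?_ (by decide) (by decide)
    fun e r he hr => hr.not_dvd_gcd_sub he
  rw [h1]; simp only [pd, List.map_cons, List.map_nil, List.prod_cons, List.prod_nil]; ring

theorem e7 (h : den (.e7 q) * c = num (.e7 q)) : Inc c q LE7 := by
  have h1 : Nat.gcd 2 (q - 1) * c = q ^ 63 * ((q ^ 2 - 1) * (q ^ 6 - 1) * (q ^ 8 - 1) * (q ^ 10 - 1) * (q ^ 12 - 1) *
    (q ^ 14 - 1) * (q ^ 18 - 1)) := h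
  refine inc_of (D := [2, 6, 8, 10, 12, 14, 18]) (X := 1) (d := Nat.gcd 2 (q - 1)) (N := 63) ?_ (by decide)
    (by decide) fun e r he hr => hr.not_dvd_gcd_sub he
  rw [h1]; simp only [pd, List.map_cons, List.map_nil, List.prod_cons, List.prod_nil]; ring

theorem e8 (h : den (.e8 q) * c = num (.e8 q)) : Inc c q LE8 := by
  have h1 : 1 * c = q ^ 120 * ((q ^ 2 - 1) * (q ^ 8 - 1) * (q ^ 12 - 1) * (q ^ 14 - 1) * (q ^ 18 - 1) *
    (q ^ 20 - 1) * (q ^ 24 - 1) * (q ^ 30 - 1)) := h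
  refine inc_of (D := [2, 8, 12, 14, 18, 20, 24, 30]) (X := 1) (d := 1) (N := 120) ?_ (by decide) (by decide)
    fun e r _ hr => not_dvd_one hr hr
  rw [h1]; simp only [pd, List.map_cons, List.map_nil, List.prod_cons, List.prod_nil]; ring

theorem te6 (h : den (.te6 q) * c = num (.te6 q)) : Inc c q LTE6 := by
  have h1 : Nat.gcd 3 (q + 1) * c = q ^ 36 * ((q ^ 2 - 1) * (q ^ 5 + 1) * (q ^ 6 - 1) * (q ^ 8 - 1) * (q ^ 9 + 1) *
    (q ^ 12 - 1)) := h
  intro e he r hr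
  have h3 : 3 ≤ e := (by decide : ∀ e ∈ LTE6, 3 ≤ e) e he
  refine hr.dvd_of_eq h1 (Dvd.dvd.mul_left ?_ _) (hr.not_dvd_gcd_add h3)
  simp only [LTE6, List.mem_cons, List.not_mem_nil, or_false] at he
  rcases he with rfl | rfl | rfl | rfl | rfl | rfl | rfl
  · exact (hr.dvd (m := 12) (by norm_num)).mul_left _
  · exact (hr.dvd (m := 12) (by norm_num)).mul_left _
  · exact (hr.dvd (m := 12) (by norm_num)).mul_left _
  · exact (((hr.dvd (m := 8) (by norm_num)).mul_left _).mul_right _).mul_right _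
  · exact (((((hr.dvd_add (m := 5) (by norm_num) (by norm_num)).mul_left _).mul_right _).mul_right _).mul_right _).mul_right _
  · exact (hr.dvd (m := 12) (by norm_num)).mul_left _
  · exact ((hr.dvd_add (m := 9) (by norm_num) (by norm_num)).mul_left _).mul_right _

theorem td4 (hq : 2 ≤ q) (h : den (.td4 q) * c = num (.td4 q)) : Inc c q LTD4 := by
  have h1 : 1 * c = q ^ 12 * ((q ^ 2 - 1) * (q ^ 6 - 1) * (q ^ 8 + q ^ 4 + 1)) := h
  intro e he r hr
  refine hr.dvd_of_eq h1 (Dvd.dvd.mul_left ?_ _) (not_dvd_one hr hr)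
  simp only [LTD4, List.mem_cons, List.not_mem_nil, or_false] at he
  rcases he with rfl | rfl | rfl
  · exact ((hr.dvd (m := 6) (by norm_num)).mul_left _).mul_right _
  · exact ((hr.dvd (m := 6) (by norm_num)).mul_left _).mul_right _
  · exact (H425.CharThree.dvd_td4 hq hr).mul_left _

theorem tf4 (h : den (.tf4 q) * c = num (.tf4 q)) : Inc c q LTF4 := by
  have h1 : 1 * c = q ^ 12 * ((q - 1) * (q ^ 3 + 1) * (q ^ 4 - 1) * (q ^ 6 + 1)) := h
  intro e he r hr
  refine hr.dvd_of_eq h1 (Dvd.dvd.mul_left ?_ _) (not_dvd_one hr hr)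
  simp only [LTF4, List.mem_cons, List.not_mem_nil, or_false] at he
  rcases he with rfl | rfl | rfl
  · exact ((hr.dvd (m := 4) (by norm_num)).mul_left _).mul_right _
  · exact (((hr.dvd_add (m := 3) (by norm_num) (by norm_num)).mul_left _).mul_right _).mul_right _
  · exact (hr.dvd_add (m := 6) (by norm_num) (by norm_num)).mul_left _

theorem ree (h : den (.ree q) * c = num (.ree q)) : Inc c q LRee := by
  have h1 : 1 * c = q ^ 3 * ((q - 1) * (q ^ 3 + 1)) := h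
  intro e he r hr
  refine hr.dvd_of_eq h1 (Dvd.dvd.mul_left ?_ _) (not_dvd_one hr hr)
  simp only [LRee, List.mem_cons, List.not_mem_nil, or_false] at he
  subst he
  exact (hr.dvd_add (m := 3) (by norm_num) (by norm_num)).mul_left _

/-- the labels for the engine -/
def inE (L : List ℕ) (_ _ e : ℕ) : Bool := L.contains e

/-- **The engine for the exceptional families.** -/
theorem exc {P Q L X : List ℕ} {E : List (ℕ × ℕ)} (hchk : chk P Q L X E (inE L) = true) (hL : ∀ e ∈ L, 3 ≤ e)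
    (hLn : L.Nodup) (hX : ∀ x ∈ X, x.Prime) {N p f : ℕ} (hp : p.Prime) (hf : f ≠ 0) (hFD : Inc N (p ^ f) L)
    (hP : ∀ r, r.Prime → r ∣ N → r ∈ P) (hpQ : p ∈ Q) : (p, f) ∈ E := by
  refine main hchk hL hLn hX hp hf hpQ (fun e he r hr => hFD e he r hr) hP ?_
  intro e x he hB hx hpr
  unfold inE at hB
  exact hFD e (by simpa using hB) x hpr

end Cfsg.Agent.H407.Exc
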