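import Mathlib

/-!
# The prime divisors of `5 ^ (2 i) - 1`, `i ≤ 18` (helper407)

`P n` : the list of the primes dividing the order of `PΩ(2n+1,5)`, `n ≤ 18`.
-/

set_option autoImplicit false

namespace Cfsg.Agent.H407.PList

/-- the primes (except 5) with the order of 5 modulo the prime -/
def LP : List (ℕ × ℕ) := [(2, 1), (3, 2), (7, 6), (11, 5), (13, 4), (17, 16), (19, 9), (23, 22), (29, 14), (31, 3), (37, 36), (41, 20), (61, 30), (67, 22), (71, 5), (181, 15), (313, 8), (409, 17), (449, 14), (521, 10), (601, 12), (829, 9), (1741, 15), (2593, 32), (3061, 34), (5167, 18), (5227, 26), (5281, 22), (7621, 30), (9161, 20), (11489, 16), (19531, 7), (38923, 26), (390001, 24), (6597973, 36), (12207031, 11), (29423041, 32), (41540861, 34), (234750601, 28), (305175781, 13), (466344409, 17)]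

/-- `k` for odd `k`, `k / 2` for even `k` -/
def et (k : ℕ) : ℕ := if k % 2 = 0 then k / 2 else k

/-- the prime divisors of `|PΩ(2n+1,5)|`, `n ≤ 18` -/
def P (n : ℕ) : List ℕ := 5 :: (LP.filter fun x => decide (et x.2 ≤ n)).map Prod.fst

/-- trial division -/
def isP (n : ℕ) : Bool := decide (2 ≤ n) && (List.range (Nat.sqrt n + 1)).all fun d => decide (d < 2) || n % d != 0

theorem prime_of_isP {n : ℕ} (h : isP n = true) : n.Prime := by
  unfold isP at h
  rw [Bool.and_eq_true, decide_eq_true_eq, List.all_eq_true] at h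
  rw [Nat.prime_def_le_sqrt]
  refine ⟨h.1, fun d hd hds hdn => ?_⟩
  have h1 := h.2 d (List.mem_range.2 (by omega))
  rw [Bool.or_eq_true, decide_eq_true_eq, bne_iff_ne] at h1
  rcases h1 with h1 | h1
  · omega
  · exact h1 (Nat.mod_eq_zero_of_dvd hdn)

set_option maxRecDepth 100000 in
theorem chkP : (LP.all fun x => isP x.1) = true := by decide +kernel

theorem prime_LP {x : ℕ × ℕ} (hx : x ∈ LP) : x.1.Prime := prime_of_isP (List.all_eq_true.1 chkP x hx)

theorem prime_P {n r : ℕ} (h : r ∈ P n) : r.Prime := by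
  rw [P, List.mem_cons] at h
  rcases h with rfl | h
  · norm_num
  · obtain ⟨x, hx, rfl⟩ := List.mem_map.1 h
    exact prime_LP (List.mem_filter.1 hx).1

/-- the product of the primes of the list dividing `5 ^ (2 i) - 1` -/
def pr (i : ℕ) : ℕ := ((LP.filter fun x => decide (x.2 ∣ 2 * i)).map Prod.fst).prod

theorem chkD : ((List.range 18).all fun i => (pr (i + 1)) ^ 8 % (5 ^ (2 * (i + 1)) - 1) == 0) = true := by
  decide +kernel

theorem et_le {k i : ℕ} (hi : 1 ≤ i) (h : k ∣ 2 * i) : et k ≤ i := by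
  unfold et
  split_ifs with h1
  · have := Nat.le_of_dvd (by omega) h
    omega
  · have h2 : Nat.Coprime k 2 := Nat.coprime_two_right.2 (Nat.odd_iff.2 (by omega))
    exact Nat.le_of_dvd (by omega) (h2.dvd_of_dvd_mul_left h)

theorem mem_P {n r i : ℕ} (hn : n ≤ 18) (hr : r.Prime) (hi : 1 ≤ i) (hin : i ≤ n) (h : r ∣ 5 ^ (2 * i) - 1) :
    r ∈ P n := by
  have h1 := List.all_eq_true.1 chkD (i - 1) (List.mem_range.2 (by omega))
  rw [Nat.sub_add_cancel hi, beq_iff_eq] at h1
  have h2 : r ∣ pr i := hr.dvd_of_dvd_pow (h.trans (Nat.dvd_of_mod_eq_zero h1))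
  unfold pr at h2
  obtain ⟨s, hs, hrs⟩ := (Prime.dvd_prod_iff hr.prime).1 h2
  obtain ⟨x, hx, rfl⟩ := List.mem_map.1 hs
  rw [List.mem_filter, decide_eq_true_eq] at hx
  have h3 : r = x.1 := (Nat.prime_dvd_prime_iff_eq hr (prime_LP hx.1)).1 hrs
  rw [h3, P, List.mem_cons]
  right
  refine List.mem_map.2 ⟨x, List.mem_filter.2 ⟨hx.1, ?_⟩, rfl⟩
  rw [decide_eq_true_eq]
  exact (et_le hi hx.2).trans hin

end Cfsg.Agent.H407.PList
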