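import Cfsg.Agent.H407.Engine
import Cfsg.Agent.H407.PList

/-!
# The classical families for the engine (helper407)

`FD N q wt m c` : order data of a classical group of rank `m` over the field with `q` elements: `wt e` is the weight of
the label `e`; primes of label `e` divide `N` if `wt e + c ≤ m`; they do not divide `N` if `m < wt e`.
-/

set_option autoImplicit false

namespace Cfsg.Agent.H407.Fam

open Cfsg Cfsg.Agent.OrdDiv Cfsg.Agent.H436 Cfsg.Agent.H407.Engine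

/-- weights of the labels -/
def wtL (e : ℕ) : ℕ := e
def wtU (e : ℕ) : ℕ := if e % 2 = 1 then 2 * e else if e % 4 = 2 then e / 2 else e
def wtS (e : ℕ) : ℕ := if e % 2 = 0 then e / 2 else e

/-- order data -/
structure FD (N q : ℕ) (wt : ℕ → ℕ) (m c : ℕ) : Prop where
  inc : ∀ e r, Prim q e r → 3 ≤ e → wt e + c ≤ m → r ∣ N
  inc2 : q * (q ^ 2 - 1) ∣ N
  out : ∀ e r, Prim q e r → 1 ≤ e → r ≠ 2 → r ∣ N → wt e ≤ m

variable {q c r e : ℕ}

theorem dvd_num {g : Grp} (h : den g * c = num g) (hr : r ∣ c) : r ∣ num g := h ▸ hr.mul_left _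

theorem not_dvd_pow' (h : Prim q e r) (k : ℕ) : ¬ r ∣ q ^ k := h.not_dvd_pow k

theorem dvd_map_prod {f : ℕ → ℕ} {n : ℕ} (hr : r.Prime) (h : r ∣ ((List.range n).map f).prod) : ∃ i < n, r ∣ f i := by
  obtain ⟨s, hs, hrs⟩ := (Prime.dvd_prod_iff hr.prime).1 h
  obtain ⟨i, hi, rfl⟩ := List.mem_map.1 hs
  exact ⟨i, List.mem_range.1 hi, hrs⟩

theorem wtS_le {i : ℕ} (hi : 1 ≤ i) (h : e ∣ 2 * i) : wtS e ≤ i := by
  unfold wtS
  split_ifs with h1
  · have := Nat.le_of_dvd (by omega) h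
    omega
  · have h2 : Nat.Coprime e 2 := Nat.coprime_two_right.2 (Nat.odd_iff.2 (by omega))
    exact Nat.le_of_dvd (by omega) (h2.dvd_of_dvd_mul_left h)

theorem dvd_two_wtS : e ∣ 2 * wtS e := by
  unfold wtS
  split_ifs with h1
  · exact ⟨1, by omega⟩
  · exact Dvd.intro_left 2 rfl

theorem wtS_pos (he : 1 ≤ e) : 1 ≤ wtS e := by
  unfold wtS
  split_ifs with h1 <;> omega

theorem out_prB {m : ℕ} (h : Prim q e r) (hd : r ∣ prB q m) : wtS e ≤ m := by
  obtain ⟨i, hi, hd⟩ := dvd_map_prod h.prime hd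
  exact (wtS_le (by omega) ((h.dvd_iff _).1 hd)).trans (by omega)

theorem psl {n : ℕ} (hn : 3 ≤ n) (hq : 2 ≤ q) (h : den (.psl n q) * c = num (.psl n q)) : FD c q wtL n 0 := by
  refine ⟨fun e r hr he hw => psl_prim hw he h hr, psl_mq hn hq h, fun e r hr he h2 hd => ?_⟩
  have h1 : r ∣ glN n q := dvd_num h hd
  obtain ⟨i, hi, h3⟩ := dvd_map_prod hr.prime h1
  rw [pow_sub_pow q (show n = i + (n - i) by omega)] at h3
  rcases hr.prime.dvd_mul.1 h3 with h4 | h4
  · exact absurd h4 (hr.not_dvd_pow i)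
  · exact (Nat.le_of_dvd (by omega) ((hr.dvd_iff _).1 h4)).trans (by omega)

theorem psp {m : ℕ} (hm : 2 ≤ m) (h : den (.psp m q) * c = num (.psp m q)) : FD c q wtS m 0 := by
  refine ⟨fun e r hr he hw => psp_prim (wtS e) (wtS_pos (by omega)) hw dvd_two_wtS he h hr, psp_mq hm h,
    fun e r hr he h2 hd => ?_⟩
  have h1 : r ∣ q ^ (m ^ 2) * prB q m := dvd_num h hd
  rcases hr.prime.dvd_mul.1 h1 with h4 | h4
  · exact absurd h4 (hr.not_dvd_pow _)
  · exact out_prB hr h4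

theorem oodd {m : ℕ} (hm : 2 ≤ m) (hq : Odd q) (h : den (.oodd m q) * c = num (.oodd m q)) : FD c q wtS m 0 := by
  refine ⟨fun e r hr he hw => oodd_prim (wtS e) (wtS_pos (by omega)) hw dvd_two_wtS he h hr, oodd_mq hm hq h,
    fun e r hr he h2 hd => ?_⟩
  have h1 : r ∣ q ^ (m ^ 2) * prB q m := dvd_num h hd
  rcases hr.prime.dvd_mul.1 h1 with h4 | h4
  · exact absurd h4 (hr.not_dvd_pow _)
  · exact out_prB hr h4

theorem oplus {m : ℕ} (hm : 4 ≤ m) (h : den (.oplus m q) * c = num (.oplus m q)) : FD c q wtS m 1 := by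
  refine ⟨fun e r hr he hw => oplus_prim (wtS e) (wtS_pos (by omega)) (by omega) dvd_two_wtS he h hr, oplus_mq hm h,
    fun e r hr he h2 hd => ?_⟩
  have h1 : r ∣ q ^ (m * (m - 1)) * ((q ^ m - 1) * prB q (m - 1)) := dvd_num h hd
  rcases hr.prime.dvd_mul.1 h1 with h4 | h4
  · exact absurd h4 (hr.not_dvd_pow _)
  · rcases hr.prime.dvd_mul.1 h4 with h5 | h5
    · exact wtS_le (by omega) (((hr.dvd_iff _).1 h5).mul_left 2)
    · exact (out_prB hr h5).trans (by omega)

theorem ominus {m : ℕ} (hm : 4 ≤ m) (h : den (.ominus m q) * c = num (.ominus m q)) : FD c q wtS m 1 := by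
  refine ⟨fun e r hr he hw => ominus_prim (wtS e) (wtS_pos (by omega)) (by omega) dvd_two_wtS he h hr, ominus_mq hm h,
    fun e r hr he h2 hd => ?_⟩
  have h1 : r ∣ q ^ (m * (m - 1)) * ((q ^ m + 1) * prB q (m - 1)) := dvd_num h hd
  rcases hr.prime.dvd_mul.1 h1 with h4 | h4
  · exact absurd h4 (hr.not_dvd_pow _)
  · rcases hr.prime.dvd_mul.1 h4 with h5 | h5
    · refine wtS_le (by omega) ?_
      by_contra h6
      exact hr.not_dvd_add h6 h5
    · exact (out_prB hr h5).trans (by omega)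

theorem fU_even {i : ℕ} (hi : i % 2 = 0) : fU q i = q ^ (i + 1) + 1 := by
  unfold fU
  rw [hi]
  rfl

theorem fU_odd {i : ℕ} (hi : i % 2 = 1) : fU q i = q ^ (i + 1) - 1 := by
  unfold fU
  rw [hi]
  rfl

theorem wtU_le_of_even {k : ℕ} (hk : k % 2 = 0) (hk0 : 0 < k) (h : e ∣ k) : wtU e ≤ k := by
  unfold wtU
  have h1 := Nat.le_of_dvd hk0 h
  split_ifs with h2 h3
  · have h4 : Nat.Coprime e 2 := Nat.coprime_two_right.2 (Nat.odd_iff.2 h2)
    obtain ⟨j, hj⟩ := Nat.dvd_of_mod_eq_zero hk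
    rw [hj] at h
    have h5 := Nat.le_of_dvd (by omega) (h4.dvd_of_dvd_mul_left h)
    omega
  · omega
  · exact h1

theorem wtU_le_of_odd {k : ℕ} (hk : k % 2 = 1) (h : e ∣ 2 * k) (h' : ¬ e ∣ k) : wtU e ≤ k := by
  have h1 := Nat.le_of_dvd (by omega) h
  have h2 : e % 2 = 0 := by
    by_contra h3
    have h4 : Nat.Coprime e 2 := Nat.coprime_two_right.2 (Nat.odd_iff.2 (by omega))
    exact h' (h4.dvd_of_dvd_mul_left h)
  obtain ⟨j, hj⟩ := Nat.dvd_of_mod_eq_zero h2
  have h3 : j ∣ k := by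
    rw [hj] at h
    exact Nat.dvd_of_mul_dvd_mul_left (by norm_num) h
  have h4 : j % 2 = 1 := by
    by_contra h5
    have h6 : 2 ∣ k := (Nat.dvd_of_mod_eq_zero (by omega)).trans h3
    omega
  unfold wtU
  rw [if_neg (by omega), if_pos (by omega)]
  omega

theorem psu {n : ℕ} (hn : 3 ≤ n) (h : den (.psu n q) * c = num (.psu n q)) : FD c q wtU n 0 := by
  refine ⟨fun e r hr he hw => ?_, psu_mq hn h, fun e r hr he h2 hd => ?_⟩
  · have hw1 : 1 ≤ wtU e := by unfold wtU; split_ifs <;> omega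
    refine psu_prim_aux (i := wtU e - 1) (by omega) he h hr ?_
    rcases Nat.mod_two_eq_zero_or_one e with h1 | h1
    · by_cases h3 : e % 4 = 2
      · have h4 : wtU e = e / 2 := by unfold wtU; rw [if_neg (by omega), if_pos h3]
        rw [h4, fU_even (by omega), Nat.sub_add_cancel (by omega)]
        refine hr.dvd_add ⟨1, by omega⟩ ?_
        intro h5
        have := Nat.le_of_dvd (by omega) h5
        omega
      · have h4 : wtU e = e := by unfold wtU; rw [if_neg (by omega), if_neg h3]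
        rw [h4, fU_odd (by omega), Nat.sub_add_cancel (by omega)]
        exact hr.dvd dvd_rfl
    · have h4 : wtU e = 2 * e := by unfold wtU; rw [if_pos h1]
      rw [h4, fU_odd (by omega), Nat.sub_add_cancel (by omega)]
      exact hr.dvd (Dvd.intro_left 2 rfl)
  · have h1 : r ∣ q ^ (n * (n - 1) / 2) * prU q n := dvd_num h hd
    rcases hr.prime.dvd_mul.1 h1 with h4 | h4
    · exact absurd h4 (hr.not_dvd_pow _)
    · obtain ⟨i, hi, h5⟩ := dvd_map_prod (f := fU q) hr.prime h4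
      rcases Nat.mod_two_eq_zero_or_one i with h6 | h6
      · rw [fU_even h6] at h5
        have h7 : e ∣ 2 * (i + 1) := by
          by_contra h8
          exact hr.not_dvd_add h8 h5
        refine (wtU_le_of_odd (k := i + 1) (by omega) h7 ?_).trans (by omega)
        intro h8
        have h9 := hr.dvd h8
        have h10 : 1 ≤ q ^ (i + 1) := by
          by_contra h0
          exact hr.not_dvd_pow (i + 1) ((show q ^ (i + 1) = 0 by omega) ▸ dvd_zero r)
        have h11 : r ∣ 2 := by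
          have := Nat.dvd_sub h5 h9
          rwa [show q ^ (i + 1) + 1 - (q ^ (i + 1) - 1) = 2 by omega] at this
        exact h2 ((Nat.prime_dvd_prime_iff_eq hr.prime Nat.prime_two).1 h11)
      · rw [fU_odd h6] at h5
        exact (wtU_le_of_even (k := i + 1) (by omega) (by omega) ((hr.dvd_iff _).1 h5)).trans (by omega)

/-! ### the engine for the classical families -/

/-- lower bound for the rank: `m0`, and the weights of the labels of the primes `rs` -/
def lowB (wt : ℕ → ℕ) (m0 : ℕ) (RS : List ℕ) (p f : ℕ) : ℕ :=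
  RS.foldr (fun rs a => if p = rs then a else max a (if odd p f rs = 0 then 31 else wt (odd p f rs))) m0

def inB (wt : ℕ → ℕ) (m0 c : ℕ) (RS : List ℕ) (p f e : ℕ) : Bool :=
  decide (e ≤ 2) || decide (wt e + c ≤ lowB wt m0 RS p f)

theorem exists_order {p f r : ℕ} (hr : r.Prime) (hp : p.Prime) (h : p ≠ r) : ∃ e, 1 ≤ e ∧ Prim (p ^ f) e r := by
  have : Fact r.Prime := ⟨hr⟩
  have h1 : ((p ^ f : ℕ) : ZMod r) ≠ 0 := by
    intro h2
    exact h ((Nat.prime_dvd_prime_iff_eq hr hp).1 (hr.dvd_of_dvd_pow ((ZMod.natCast_eq_zero_iff _ r).1 h2))).symm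
  have hfin : IsOfFinOrder ((p ^ f : ℕ) : ZMod r) := by
    rw [isOfFinOrder_iff_pow_eq_one]
    refine ⟨r - 1, ?_, ZMod.pow_card_sub_one_eq_one h1⟩
    have := hr.two_le
    omega
  refine ⟨orderOf ((p ^ f : ℕ) : ZMod r), orderOf_pos_iff.2 hfin, hr, fun m => ?_, fun hd => ?_⟩
  · rw [orderOf_dvd_iff_pow_eq_one, ← ZMod.natCast_eq_zero_iff,
      Nat.cast_sub (Nat.one_le_pow _ _ (pow_pos hp.pos f)), Nat.cast_pow, Nat.cast_one, sub_eq_zero]
  · exact h1 ((ZMod.natCast_eq_zero_iff _ r).2 hd)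

theorem lowB_le {wt : ℕ → ℕ} (hwt : ∀ e, 60 < e → 31 ≤ wt e) {m0 : ℕ} {N p f m c : ℕ} (hp : p.Prime)
    (hFD : FD N (p ^ f) wt m c) (hm : m0 ≤ m) :
    ∀ RS : List ℕ, (∀ rs ∈ RS, rs.Prime ∧ rs ≠ 2 ∧ rs ∣ N) → lowB wt m0 RS p f ≤ m
  | [], _ => hm
  | rs :: RS, h => by
    have ih := lowB_le hwt hp hFD hm RS fun x hx => h x (List.mem_cons_of_mem _ hx)
    obtain ⟨h1, h2, h3⟩ := h rs List.mem_cons_self
    change (if p = rs then lowB wt m0 RS p f else max (lowB wt m0 RS p f)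
      (if odd p f rs = 0 then 31 else wt (odd p f rs))) ≤ m
    split_ifs with h4 h5
    · exact ih
    · refine max_le ih ?_
      obtain ⟨e, he, hpr⟩ := exists_order (f := f) h1 hp h4
      exact (hwt e (lt_of_odd h5 hpr he)).trans (hFD.out e rs hpr he h2 h3)
    · exact max_le ih (hFD.out _ rs (prim_odd h1 hp.one_lt.le h5) (Nat.pos_of_ne_zero h5) h2 h3)

/-- **The engine for the classical families.** -/
theorem cl {wt : ℕ → ℕ} (hwt : ∀ e, 60 < e → 31 ≤ wt e) {P Q L X RS : List ℕ} {m0 c : ℕ}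
    (hchk : chk P Q L X [] (inB wt m0 c RS) = true) (hL : (L.all fun e => decide (3 ≤ e) && decide (wt e + c ≤ m0)) = true)
    (hLn : L.Nodup) (hX : ∀ x ∈ X, x.Prime) {N p f m : ℕ} (hp : p.Prime) (hf : f ≠ 0) (hFD : FD N (p ^ f) wt m c)
    (hm : m0 ≤ m) (hP : ∀ r, r.Prime → r ∣ N → r ∈ P) (hPQ : p ∈ P → p ∈ Q) (hRS : ∀ rs ∈ RS, rs.Prime ∧ rs ≠ 2 ∧ rs ∣ N) :
    False := by
  have hL' : ∀ e ∈ L, 3 ≤ e ∧ wt e + c ≤ m0 := by
    intro e he
    have := List.all_eq_true.1 hL e he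
    rwa [Bool.and_eq_true, decide_eq_true_eq, decide_eq_true_eq] at this
  have hpN : p ∣ N := by
    refine Dvd.dvd.trans ?_ hFD.inc2
    exact Dvd.dvd.mul_right (dvd_pow_self p hf) _
  have h := main hchk (fun e he => (hL' e he).1) hLn hX hp hf (hPQ (hP p hp hpN)) (N := N)
    (fun e he r hr => hFD.inc e r hr (hL' e he).1 ((hL' e he).2.trans hm)) hP ?_
  · simp at h
  · intro e x he hB hx hpr
    unfold inB at hB
    rw [Bool.or_eq_true, decide_eq_true_eq, decide_eq_true_eq] at hB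
    by_cases h2 : e ≤ 2
    · have h3 : x ∣ (p ^ f) ^ 2 - 1 := hpr.dvd (by interval_cases e <;> norm_num)
      exact (h3.mul_left _).trans hFD.inc2
    · exact hFD.inc e x hpr (by omega) ((hB.resolve_left h2).trans (lowB_le hwt hp hFD hm RS hRS))

theorem wtL_lt (e : ℕ) (he : 60 < e) : 31 ≤ wtL e := by unfold wtL; omega
theorem wtU_lt (e : ℕ) (he : 60 < e) : 31 ≤ wtU e := by unfold wtU; split_ifs <;> omega
theorem wtS_lt (e : ℕ) (he : 60 < e) : 31 ≤ wtS e := by unfold wtS; split_ifs <;> omega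

end Cfsg.Agent.H407.Fam
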