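import Cfsg.Agent.H407.Radical
import Cfsg.Agent.H407.Eleven
import Cfsg.Agent.H407.Frob
import Cfsg.Agent.Solvable.FpfComplement
import Cfsg.Agent.H421.Coclique

/-!
# The solvable radical: nilpotent, a 3-group (helper407)
-/

set_option autoImplicit false
set_option linter.unusedSectionVars false

namespace Cfsg.Agent.H407.Kernel

open Subgroup Cfsg
open scoped Pointwise
open Cfsg.Agent.H363.Frat (NonAdj)

universe u

/-- elements of order prime to the order of the kernel lift -/
theorem exists_lift_elem {X Y : Type*} [Group X] [Finite X] [Group Y] {p : ℕ} (hp : p.Prime) (f : X →* Y)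
    (hf : Function.Surjective f) (hk : ¬ p ∣ Nat.card f.ker) {y : Y} (hy : ∃ k, orderOf y = p ^ k) :
    ∃ x : X, f x = y ∧ orderOf x = orderOf y := by
  have : Fact p.Prime := ⟨hp⟩
  obtain ⟨k, hk'⟩ := hy
  have hfin : Finite Y := Finite.of_surjective f hf
  have hY : IsPGroup p (zpowers y) := IsPGroup.of_card (n := k) (by rw [Nat.card_zpowers, hk'])
  obtain ⟨P, hP, hPY⟩ := Cfsg.Agent.H407.Basic.exists_lift hp f hf hY
  have hyP : y ∈ P.map f := by rw [hPY]; exact mem_zpowers y
  obtain ⟨x, hxP, rfl⟩ := hyP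
  refine ⟨x, rfl, ?_⟩
  refine Nat.dvd_antisymm ?_ (orderOf_map_dvd f x)
  refine orderOf_dvd_of_pow_eq_one ?_
  -- `x ^ o(f x)` is a `p`-element of the kernel
  have h1 : x ^ orderOf (f x) ∈ f.ker := by
    rw [MonoidHom.mem_ker, map_pow, pow_orderOf_eq_one]
  obtain ⟨n, hn⟩ := hP ⟨x, hxP⟩
  have hn' : x ^ p ^ n = 1 := congrArg Subtype.val hn
  have h2 : orderOf (x ^ orderOf (f x)) ∣ p ^ n := by
    refine orderOf_dvd_of_pow_eq_one ?_
    rw [← pow_mul, mul_comm, pow_mul, hn', one_pow]
  have h3 : orderOf (x ^ orderOf (f x)) ∣ Nat.card f.ker := by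
    have := orderOf_dvd_natCard (⟨_, h1⟩ : f.ker)
    rwa [Subgroup.orderOf_mk] at this
  have h4 : Nat.Coprime (p ^ n) (Nat.card f.ker) := Nat.Coprime.pow_left n ((Nat.Prime.coprime_iff_not_dvd hp).2 hk)
  have h5 := Nat.eq_one_of_dvd_coprimes h4 h2 h3
  exact orderOf_eq_one_iff.1 h5

/-- a nilpotent normal subgroup contains a normal abelian `r`-subgroup -/
theorem exists_normal_abelian {G : Type*} [Group G] [Finite G] (K : Subgroup G) [K.Normal]
    (hK : Group.IsNilpotent K) {r : ℕ} (hr : r.Prime) (hrK : r ∣ Nat.card K) :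
    ∃ V : Subgroup G, V.Normal ∧ IsMulCommutative V ∧ IsPGroup r V ∧ V ≠ ⊥ ∧ V ≤ K := by
  have : Fact r.Prime := ⟨hr⟩
  obtain ⟨P⟩ : Nonempty (Sylow r K) := inferInstance
  have hPn : (P : Subgroup K).Normal := by
    have h := (Group.isNilpotent_of_finite_tfae (G := K)).out 0 3
    exact (h.1 hK) r this P
  have hPc : (P : Subgroup K).Characteristic := Sylow.characteristic_of_normal P hPn
  set R : Subgroup G := (P : Subgroup K).map K.subtype with hR
  have hRn : R.Normal := ConjAct.normal_of_characteristic_of_normal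
  have hRp : IsPGroup r R := P.isPGroup'.map _
  have hR1 : R ≠ ⊥ := by
    intro h1
    rw [hR, Subgroup.map_eq_bot_iff_of_injective _ K.subtype_injective] at h1
    have h3 := P.dvd_card_of_dvd_card hrK
    rw [h1, Subgroup.card_bot] at h3
    exact hr.one_lt.ne' (Nat.dvd_one.1 h3)
  have hRnt : Nontrivial R := (Subgroup.nontrivial_iff_ne_bot R).2 hR1
  have hZ : Nontrivial (center R) := hRp.center_nontrivial
  refine ⟨(center R).map R.subtype, ConjAct.normal_of_characteristic_of_normal, ?_, ?_, ?_, ?_⟩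
  · refine ⟨⟨?_⟩⟩
    rintro ⟨_, a, ha, rfl⟩ ⟨_, b, hb, rfl⟩
    apply Subtype.ext
    exact congrArg (fun z : R => (z : G)) (mem_center_iff.1 hb a)
  · exact (hRp.to_subgroup (center R)).map _
  · rw [Ne, Subgroup.map_eq_bot_iff_of_injective _ R.subtype_injective]
    exact (Subgroup.nontrivial_iff_ne_bot _).1 hZ
  · exact (map_subtype_le _).trans (map_subtype_le _)

section

variable {G : Type u} [Group G] [Finite G] (hG : Spec G) (K : Subgroup G) [K.Normal] (h11 : ¬ 11 ∣ Nat.card K)

include hG h11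

theorem hna : ∀ r : ℕ, r.Prime → r ≠ 11 → NonAdj G 11 r := fun _ hr h => Radical.nonAdj hG hr h

/-- the radical is nilpotent -/
theorem isNilpotent : Group.IsNilpotent K := by
  by_cases hK : K = ⊥
  · subst hK
    infer_instance
  have p11 : (11 : ℕ).Prime := by norm_num
  have : Fact (Nat.Prime 11) := ⟨p11⟩
  obtain ⟨x, hx⟩ := exists_prime_orderOf_dvd_card' (G := G) 11 ((hG.prime 11 p11).2 (by decide))
  set φ : MulAut K := MulAut.conjNormal x with hφ
  have hfix : MonoidHom.FixedPointFree (φ : K →* K) := by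
    intro s hs
    have h1 : x * s * x⁻¹ = s := congrArg Subtype.val hs
    rw [mul_inv_eq_iff_eq_mul] at h1
    by_contra hs1
    refine Eleven.comm_false (hna hG K h11) hx (s := s) (fun h => hs1 (Subtype.ext h)) ?_ h1
    rw [Subgroup.orderOf_coe]
    exact fun hd => h11 (hd.trans (orderOf_dvd_natCard s))
  have hord : orderOf φ = 11 := by
    refine orderOf_eq_prime ?_ ?_
    · rw [hφ, ← map_pow, ← hx, pow_orderOf_eq_one, map_one]
    · intro h1
      have hnt : Nontrivial K := (Subgroup.nontrivial_iff_ne_bot K).2 hK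
      obtain ⟨s, hs⟩ := exists_ne (1 : K)
      apply hs
      apply hfix
      rw [h1]
      rfl
  exact Cfsg.Agent.S0033.result φ hfix 11 p11 hord

theorem ker_mk : (QuotientGroup.mk' K).ker = K := QuotientGroup.ker_mk' K

/-- **a 3-subgroup of the simple group normalized by an element of order 11: the radical is a 3-group** -/
theorem kernel_three (S : Subgroup (G ⧸ K)) [S.Normal] [IsSimpleGroup S] (h11S : 11 ∣ Nat.card S)
    (W : Subgroup (G ⧸ K)) (hWS : W ≤ S) (hW1 : W ≠ ⊥) (hW3 : IsPGroup 3 W) {y : G ⧸ K} (hy : orderOf y = 11)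
    (hyW : ∀ w ∈ W, y * w * y⁻¹ ∈ W) : IsPGroup 3 K := by
  have p11 : (11 : ℕ).Prime := by norm_num
  have hc3 : Nat.card K = 3 ^ (Nat.card K).primeFactorsList.length := by
    refine Nat.eq_prime_pow_of_unique_prime_dvd Nat.card_pos.ne' ?_
    intro r hr hrK
    by_contra hr3
    have hr11 : r ≠ 11 := fun h => h11 (h ▸ hrK)
    obtain ⟨V, hVn, hVc, hVr, hV1, hVK⟩ := exists_normal_abelian K (isNilpotent hG K h11) hr hrK
    obtain ⟨x, hxy, hx⟩ := exists_lift_elem p11 (QuotientGroup.mk' K) (QuotientGroup.mk'_surjective K)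
      (by rw [QuotientGroup.ker_mk']; exact h11) (y := y) ⟨1, by rw [hy, pow_one]⟩
    rw [hy] at hx
    set A : Subgroup G := W.comap (QuotientGroup.mk' K) with hA
    have hAx : ∀ a ∈ A, x * a * x⁻¹ ∈ A := by
      intro a ha
      rw [hA, mem_comap, map_mul, map_mul, map_inv, hxy]
      exact hyW _ ha
    have hxn : x ∈ normalizer (A : Set G) := mem_normalizer_fintype fun n hn => hAx n hn
    -- the order of `A` is prime to 11
    have hcA : ¬ 11 ∣ Nat.card A := by
      rw [hA, Cfsg.Agent.H425.CharChief.card_comap_mk K W]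
      intro h
      rcases (p11.dvd_mul).1 h with h1 | h1
      · have : Fact (Nat.Prime 3) := ⟨Nat.prime_three⟩
        obtain ⟨n, hn⟩ := IsPGroup.iff_card.1 hW3
        rw [hn] at h1
        have := p11.dvd_of_dvd_pow h1
        norm_num at this
      · exact h11 h1
    have hfixA : ∀ a ∈ A, x * a = a * x → a = 1 := by
      intro a ha hxa
      by_contra ha1
      refine Eleven.comm_false (hna hG K h11) hx ha1 ?_ hxa
      intro hd
      apply hcA
      have := orderOf_dvd_natCard (⟨a, ha⟩ : A)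
      rw [Subgroup.orderOf_mk] at this
      exact hd.trans this
    have : Fact (Nat.Prime 3) := ⟨Nat.prime_three⟩
    -- an `x`-invariant Sylow 3-subgroup of `A`
    let φ : MulAut A := (A.normalizerMonoidHom ⟨x, hxn⟩ : MulAut A)
    have hφ : ∀ a : A, ((φ a : A) : G) = x * a * x⁻¹ := fun a => rfl
    obtain ⟨P, hP⟩ := Cfsg.Agent.Solvable.FpfComplement.exists_sylow_smul_eq 3 φ (by
      intro a ha
      have h1 := congrArg Subtype.val ha
      rw [hφ, mul_inv_eq_iff_eq_mul] at h1
      exact Subtype.ext (hfixA a a.2 h1))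
    have hPx : ∀ a : A, a ∈ (P : Subgroup A) → φ a ∈ (P : Subgroup A) := by
      intro a ha
      have h3 : φ a ∈ φ • P := by
        have : φ • a ∈ φ • (P : Subgroup A) := Subgroup.smul_mem_pointwise_smul _ _ _ ha
        exact this
      rwa [hP] at h3
    set P' : Subgroup G := (P : Subgroup A).map A.subtype with hP'
    have hP'A : P' ≤ A := map_subtype_le _
    have hxP : ∀ n ∈ P', x * n * x⁻¹ ∈ P' := by
      rintro _ ⟨a, ha, rfl⟩
      exact ⟨φ a, hPx a ha, rfl⟩
    have hP'3 : IsPGroup 3 P' := P.isPGroup'.map _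
    have hVfix : ∀ v ∈ V, x * v = v * x → v = 1 := by
      intro v hv hxv
      by_contra hv1
      refine Eleven.comm_false (hna hG K h11) hx hv1 ?_ hxv
      intro hd
      obtain ⟨n, hn⟩ := hVr ⟨v, hv⟩
      have hn' : v ^ r ^ n = 1 := congrArg Subtype.val hn
      have h5 := hd.trans (orderOf_dvd_of_pow_eq_one hn')
      exact hr11 ((Nat.prime_dvd_prime_iff_eq p11 hr).1 (p11.dvd_of_dvd_pow h5)).symm
    have hcop : (Nat.card P').Coprime (Nat.card V) := by
      have : Fact r.Prime := ⟨hr⟩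
      obtain ⟨a, ha⟩ := IsPGroup.iff_card.1 hP'3
      obtain ⟨b, hb⟩ := IsPGroup.iff_card.1 hVr
      rw [ha, hb]
      exact Nat.Coprime.pow _ _ ((Nat.coprime_primes Nat.prime_three hr).2 (Ne.symm hr3))
    have htriv := Frob.kernel_trivial V P' hVc p11 hx hxP (fun n hn => hfixA n (hP'A hn)) hVfix hcop
    -- the centralizer of `V`
    have hCn : (centralizer (V : Set G)).Normal := inferInstance
    set C : Subgroup (G ⧸ K) := (centralizer (V : Set G)).map (QuotientGroup.mk' K) with hC
    have hCqn : C.Normal := hCn.map _ (QuotientGroup.mk'_surjective K)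
    have hWC : W ≤ C := by
      let g : A →* W := (QuotientGroup.mk' K).subgroupComap W
      have hg : Function.Surjective g :=
        MonoidHom.subgroupComap_surjective_of_surjective _ W (QuotientGroup.mk'_surjective K)
      have h1 : (P.mapSurjective hg : Subgroup W) = ⊤ := by
        have hQ' : IsPGroup 3 (⊤ : Subgroup W) := hW3.of_equiv topEquiv.symm
        exact (P.mapSurjective hg).is_maximal' hQ' le_top |>.symm
      rw [Sylow.coe_mapSurjective] at h1
      intro w hw
      have h2 : (⟨w, hw⟩ : W) ∈ (P : Subgroup A).map g := by rw [h1]; trivial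
      obtain ⟨a, ha, hga⟩ := h2
      refine ⟨a, ?_, congrArg Subtype.val hga⟩
      change (a : G) ∈ centralizer (V : Set G)
      rw [mem_centralizer_iff]
      intro v hv
      exact (htriv a ⟨a, ha, rfl⟩ v hv).symm
    have hSC : S ≤ C := by
      rcases IsSimpleGroup.eq_bot_or_eq_top_of_normal (C.subgroupOf S) inferInstance with h | h
      · exfalso
        apply hW1
        rw [eq_bot_iff]
        intro w hw
        have h1 : (⟨w, hWS hw⟩ : S) ∈ C.subgroupOf S := mem_subgroupOf.2 (hWC hw)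
        rw [h, Subgroup.mem_bot] at h1
        rw [Subgroup.mem_bot]
        exact congrArg Subtype.val h1
      · exact subgroupOf_eq_top.1 h
    have hcC : 11 ∣ Nat.card (centralizer (V : Set G)) :=
      h11S.trans ((card_dvd_of_le hSC).trans (card_map_dvd _ _))
    have : Fact (Nat.Prime 11) := ⟨p11⟩
    obtain ⟨c, hc⟩ := exists_prime_orderOf_dvd_card' 11 hcC
    have hc' : orderOf (c : G) = 11 := by rw [Subgroup.orderOf_coe, hc]
    have hVnt : Nontrivial V := (Subgroup.nontrivial_iff_ne_bot V).2 hV1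
    obtain ⟨v, hv⟩ := exists_ne (1 : V)
    refine Eleven.comm_false (hna hG K h11) hc' (s := (v : G)) (fun h => hv (Subtype.ext h)) ?_
      (mem_centralizer_iff.1 c.2 v v.2).symm
    intro hd
    obtain ⟨n, hn⟩ := hVr v
    have hn' : (v : G) ^ r ^ n = 1 := congrArg Subtype.val hn
    have h5 := hd.trans (orderOf_dvd_of_pow_eq_one hn')
    exact hr11 ((Nat.prime_dvd_prime_iff_eq p11 hr).1 (p11.dvd_of_dvd_pow h5)).symm
  exact IsPGroup.of_card hc3

omit h11 in
/-- a Frobenius group of order 55 in the quotient: 7 does not divide the order of the radical -/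
theorem frob_false (hK : Group.IsSolvable K) (h7 : 7 ∣ Nat.card K) {x e : G ⧸ K} (hx : orderOf x = 11)
    (he : orderOf e = 5) (hex : e * x * e⁻¹ ∈ zpowers x) : False := by
  set D : Subgroup (G ⧸ K) := zpowers x ⊔ zpowers e with hD
  have hn : zpowers e ≤ normalizer ((zpowers x : Subgroup (G ⧸ K)) : Set (G ⧸ K)) := by
    rw [zpowers_le]
    refine mem_normalizer_fintype ?_
    rintro _ ⟨k, rfl⟩
    have h1 : e * x ^ k * e⁻¹ = (e * x * e⁻¹) ^ k := (conj_zpow).symm
    change e * x ^ k * e⁻¹ ∈ zpowers x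
    rw [h1]
    exact zpow_mem hex k
  have hDs : Group.IsSolvable D := by
    refine Cfsg.Agent.SignalizersComponents.CoprimeBasic.isSolvable_sup hn ?_ ?_
    · exact Group.isSolvable_of_comm fun a b => (inferInstance : IsMulCommutative (zpowers x)).is_comm.comm a b
    · exact Group.isSolvable_of_comm fun a b => (inferInstance : IsMulCommutative (zpowers e)).is_comm.comm a b
  have h2 : Group.IsSolvable ↥(D.comap (QuotientGroup.mk' K)) := by
    have hle : K ≤ D.comap (QuotientGroup.mk' K) := by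
      intro x hx
      rw [mem_comap, QuotientGroup.mk'_apply, (QuotientGroup.eq_one_iff x).2 hx]
      exact D.one_mem
    let f : ↥K →* ↥(D.comap (QuotientGroup.mk' K)) := Subgroup.inclusion hle
    let g : ↥(D.comap (QuotientGroup.mk' K)) →* ↥D := (QuotientGroup.mk' K).subgroupComap D
    refine Group.isSolvable_of_ker_le_range f g ?_
    rintro ⟨x, hx⟩ hxk
    rw [MonoidHom.mem_ker] at hxk
    have h3 : (QuotientGroup.mk' K) x = 1 := congrArg Subtype.val hxk
    rw [QuotientGroup.mk'_apply, QuotientGroup.eq_one_iff] at h3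
    exact ⟨⟨x, h3⟩, rfl⟩
  have hc := Cfsg.Agent.H425.CharChief.card_comap_mk K D
  have hxD : orderOf x ∣ Nat.card D := by
    have := orderOf_dvd_natCard (⟨x, le_sup_left (a := zpowers x) (mem_zpowers x)⟩ : D)
    rwa [Subgroup.orderOf_mk] at this
  have heD : orderOf e ∣ Nat.card D := by
    have := orderOf_dvd_natCard (⟨e, le_sup_right (a := zpowers x) (mem_zpowers e)⟩ : D)
    rwa [Subgroup.orderOf_mk] at this
  rw [hx] at hxD
  rw [he] at heD
  have no : ∀ n : ℕ, (∀ g : G, orderOf g ≠ n) → ¬ ∃ z : ↥(D.comap (QuotientGroup.mk' K)), orderOf z = n := by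
    rintro n hn ⟨z, hz⟩
    exact hn z (by rw [Subgroup.orderOf_coe, hz])
  exact Cfsg.Agent.H421.Coclique.solvable_no_three h2 (r := 7) (s := 5) (t := 11) (by norm_num) (by norm_num)
    (by norm_num) (by norm_num) (by norm_num) (by norm_num) (by rw [hc]; exact h7.mul_left _)
    (by rw [hc]; exact heD.mul_right _) (by rw [hc]; exact hxD.mul_right _) (no _ hG.no35)
    (no _ (fun g hg => hG.no11 7 (by decide) g hg)) (no _ (fun g hg => hG.no11 5 (by decide) g hg))

/-- if `|S|₁₁ = 121` and `7 ∤ |S|` then `7 ∤ |G / K|` -/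
theorem seven_not_dvd (S : Subgroup (G ⧸ K)) [S.Normal] (h121 : 121 ∣ Nat.card S) (h1331 : ¬ 1331 ∣ Nat.card S)
    (h7S : ¬ 7 ∣ Nat.card S) : ¬ 7 ∣ Nat.card (G ⧸ K) := by
  intro h7
  have p11 : (11 : ℕ).Prime := by norm_num
  have p7 : (7 : ℕ).Prime := by norm_num
  have : Fact (Nat.Prime 11) := ⟨p11⟩
  have : Fact (Nat.Prime 7) := ⟨p7⟩
  have hnaQ : ∀ r : ℕ, r.Prime → r ≠ 11 → NonAdj (G ⧸ K) 11 r := fun r hr h =>
    Cfsg.Agent.H363.Frat.NonAdj.quotient (hna hG K h11 r hr h) K
  obtain ⟨P⟩ : Nonempty (Sylow 11 S) := inferInstance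
  have hPc : Nat.card P = 121 := by
    obtain ⟨k, hk⟩ := IsPGroup.iff_card.1 P.isPGroup'
    have h1 : 11 ^ 2 ∣ Nat.card P := P.pow_dvd_card_of_pow_dvd_card h121
    rw [hk] at h1
    have h2 : 2 ≤ k := (Nat.pow_dvd_pow_iff_le_right (by norm_num)).1 h1
    have h3 : k < 3 := by
      by_contra h
      apply h1331
      have h4 : 11 ^ 3 ∣ 11 ^ k := pow_dvd_pow 11 (by omega)
      rw [← hk] at h4
      exact h4.trans (card_subgroup_dvd_card _)
    have : k = 2 := by omega
    rw [hk, this]
    norm_num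
  set W : Subgroup (G ⧸ K) := (P : Subgroup S).map S.subtype with hW
  have hWc : Nat.card W = 121 := by
    rw [← hPc]
    exact (Nat.card_congr ((P : Subgroup S).equivMapOfInjective S.subtype S.subtype_injective).toEquiv).symm
  have hfrat : normalizer (W : Set (G ⧸ K)) ⊔ S = ⊤ := Sylow.normalizer_sup_eq_top P
  have h7N : 7 ∣ Nat.card (normalizer (W : Set (G ⧸ K))) := by
    have h1 := Subgroup.card_mul_index (normalizer (W : Set (G ⧸ K)))
    rw [← h1] at h7
    rcases (p7.dvd_mul).1 h7 with h | h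
    · exact h
    · exfalso
      apply h7S
      have h2 : (normalizer (W : Set (G ⧸ K))).index = (normalizer (W : Set (G ⧸ K))).relIndex S := by
        rw [← Cfsg.Agent.Lib.SylowNormalInf.relIndex_sup_of_normal, hfrat, relIndex_top_right]
      rw [h2] at h
      exact h.trans (relIndex_dvd_card _ _)
  obtain ⟨z, hz⟩ := exists_prime_orderOf_dvd_card' 7 h7N
  have hz' : orderOf (z : G ⧸ K) = 7 := by rw [Subgroup.orderOf_coe, hz]
  have hmem : ∀ n ∈ zpowers (z : G ⧸ K), ∀ w ∈ W, n * w * n⁻¹ ∈ W := fun n hn w hw =>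
    (mem_normalizer_iff.1 ((zpowers_le.2 z.2) hn) w).1 hw
  let _ : MulAction (zpowers (z : G ⧸ K)) W :=
    { smul := fun n w => ⟨n * w * (n : G ⧸ K)⁻¹, hmem n n.2 w w.2⟩
      one_smul := fun w => Subtype.ext (by change (1 : G ⧸ K) * w * (1 : G ⧸ K)⁻¹ = w; simp)
      mul_smul := fun a b w => Subtype.ext (by
        change ((a * b : zpowers (z : G ⧸ K)) : G ⧸ K) * w * ((a * b : zpowers (z : G ⧸ K)) : G ⧸ K)⁻¹ =
          (a : G ⧸ K) * ((b : G ⧸ K) * w * (b : G ⧸ K)⁻¹) * (a : G ⧸ K)⁻¹
        rw [Subgroup.coe_mul]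
        group) }
  have hE : IsPGroup 7 (zpowers (z : G ⧸ K)) :=
    IsPGroup.of_card (n := 1) (by rw [Nat.card_zpowers, hz', pow_one])
  have h1 := hE.card_modEq_card_fixedPoints W
  rw [hWc] at h1
  obtain ⟨w, hw1, hwz⟩ : ∃ w : W, w ≠ 1 ∧ (z : G ⧸ K) * w = w * z := by
    by_contra hcon
    push Not at hcon
    have h2 : Nat.card (MulAction.fixedPoints (zpowers (z : G ⧸ K)) W) ≤ 1 := by
      rw [Finite.card_le_one_iff_subsingleton]
      refine ⟨fun a b => ?_⟩
      have key : ∀ a : MulAction.fixedPoints (zpowers (z : G ⧸ K)) W, (a : W) = 1 := by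
        intro a
        by_contra ha
        apply hcon a ha
        have := congrArg Subtype.val (a.2 ⟨z, mem_zpowers _⟩)
        change (z : G ⧸ K) * (a : W) * (z : G ⧸ K)⁻¹ = (a : W) at this
        rwa [mul_inv_eq_iff_eq_mul] at this
      exact Subtype.ext ((key a).trans (key b).symm)
    have h3 : Nat.card (MulAction.fixedPoints (zpowers (z : G ⧸ K)) W) = 0 ∨
        Nat.card (MulAction.fixedPoints (zpowers (z : G ⧸ K)) W) = 1 := by omega
    rcases h3 with h3 | h3 <;> rw [h3] at h1 <;> exact absurd h1 (by decide)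
  have hWp : IsPGroup 11 W := IsPGroup.of_card (n := 2) hWc
  obtain ⟨k, hk⟩ := Cfsg.Agent.H395.Coclique.exists_orderOf_eq p11 hWp w.2 (fun h => hw1 (Subtype.ext h))
  refine Eleven.comm_false hnaQ hk (s := (z : G ⧸ K)) ?_ ?_ ((show Commute (z : G ⧸ K) w from hwz).pow_right k).symm
  · intro h
    rw [h, orderOf_one] at hz'
    omega
  · rw [hz']
    norm_num

end

end Cfsg.Agent.H407.Kernel
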