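import Cfsg.Agent.H376.SpEmb
import Cfsg.Agent.H376.PrimeOrd
import Cfsg.Agent.S2474

/-!
# 2 and the primitive prime divisors of `5 ^ (2 n) - 1` are not adjacent in `PSp(2n,5)`, `PΩ(2n+1,5)` (helper407)
-/

set_option autoImplicit false

namespace Cfsg.Agent.H407.TwoSp

open Module Cfsg Cfsg.Agent.H376.PrimeOrd

/-- an endomorphism of prime order `r`, `e(r,q)` the dimension, acts irreducibly -/
theorem irred {F V : Type*} [Field F] [Finite F] [AddCommGroup V] [Module F V] [FiniteDimensional F V]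
    {X : Module.End F V} {r : ℕ} (hr : r.Prime) (hrF : (r : F) ≠ 0) (hX : X ^ r = 1) (hX1 : X ≠ 1)
    (he : orderOf ((Nat.card F : ℕ) : ZMod r) = finrank F V) (W : Submodule F V) (hW : ∀ w ∈ W, X w ∈ W) :
    W = ⊥ ∨ W = ⊤ := by
  have h3 := ord_dvd hr hX hrF _ (range_mem (A := X) (B := X) rfl) le_rfl
  have h5 : 0 < finrank F (LinearMap.range (X - 1)) :=
    Module.finrank_pos_iff.2 (Submodule.nontrivial_iff_ne_bot.2 (range_ne_bot hX1))
  have h6 := Nat.le_of_dvd h5 h3
  have h7 : LinearMap.range (X - 1) = ⊤ :=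
    Submodule.eq_top_of_finrank_eq (le_antisymm (Submodule.finrank_le _) (by omega))
  have h8 := ord_dvd hr hX hrF W hW (by rw [h7]; exact le_top)
  by_cases h0 : W = ⊥
  · exact Or.inl h0
  · right
    have h9 : 0 < finrank F W := Module.finrank_pos_iff.2 (Submodule.nontrivial_iff_ne_bot.2 h0)
    have h10 := Nat.le_of_dvd h9 h8
    exact Submodule.eq_top_of_finrank_eq (le_antisymm (Submodule.finrank_le _) (by omega))

/-- an endomorphism commuting with `X` whose square is a square scalar is a scalar -/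
theorem scalar_of_sq {F V : Type*} [Field F] [Finite F] [AddCommGroup V] [Module F V] [FiniteDimensional F V]
    {X U : Module.End F V} {r : ℕ} (hr : r.Prime) (hrF : (r : F) ≠ 0) (hX : X ^ r = 1) (hX1 : X ≠ 1)
    (he : orderOf ((Nat.card F : ℕ) : ZMod r) = finrank F V) (hXU : X * U = U * X) {c : F}
    (hU : U * U = (c * c) • (1 : Module.End F V)) : ∃ d : F, U = d • (1 : Module.End F V) := by
  have hinv : ∀ w ∈ LinearMap.ker (U - c • (1 : Module.End F V)), X w ∈ LinearMap.ker (U - c • (1 : Module.End F V)) := by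
    intro w hw
    rw [LinearMap.mem_ker] at hw ⊢
    have h1 : (U - c • (1 : Module.End F V)) * X = X * (U - c • (1 : Module.End F V)) := by
      rw [sub_mul, mul_sub, hXU, smul_mul_assoc, one_mul, mul_smul_comm, mul_one]
    have h2 := congrArg (fun f : Module.End F V => f w) h1
    simp only [Module.End.mul_apply] at h2
    rw [h2, hw, map_zero]
  rcases irred hr hrF hX hX1 he (LinearMap.ker (U - c • (1 : Module.End F V))) hinv with h | h
  · refine ⟨-c, ?_⟩
    have h1 : (U - c • (1 : Module.End F V)) * (U + c • (1 : Module.End F V)) = 0 := by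
      rw [sub_mul, mul_add, mul_add, hU, smul_mul_smul_comm, one_mul]
      simp only [mul_smul_comm, smul_mul_assoc, mul_one, one_mul]
      abel
    have h2 : U + c • (1 : Module.End F V) = 0 := by
      ext v
      have h3 : (U + c • (1 : Module.End F V)) v ∈ LinearMap.ker (U - c • (1 : Module.End F V)) := by
        rw [LinearMap.mem_ker]
        exact congrArg (fun f : Module.End F V => f v) h1
      rw [h, Submodule.mem_bot] at h3
      exact h3
    rw [neg_smul]
    exact eq_neg_of_add_eq_zero_left h2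
  · refine ⟨c, ?_⟩
    ext v
    have h3 : v ∈ LinearMap.ker (U - c • (1 : Module.End F V)) := h ▸ Submodule.mem_top
    rw [LinearMap.mem_ker, LinearMap.sub_apply, sub_eq_zero] at h3
    exact h3

/-- **`2` and `r` are not adjacent in `PSp(2n,5)` if the order of 5 modulo `r` is `2n`.** -/
theorem psp {F : Type*} [Field F] [Fintype F] (hF : Fintype.card F = 5) {n : ℕ} (hn : 2 ≤ n)
    {r : ℕ} (hr : r.Prime) (he : orderOf ((5 : ℕ) : ZMod r) = 2 * n) : ¬ ∃ g : PSp n F, orderOf g = 2 * r := by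
  have hr2 : r ≠ 2 := by
    rintro rfl
    have h : ((5 : ℕ) : ZMod 2) = 1 := by decide
    rw [h, orderOf_one] at he
    omega
  have hr5 : r ≠ 5 := by
    rintro rfl
    have : Fact (Nat.Prime 5) := ⟨Nat.prime_five⟩
    have h : ((5 : ℕ) : ZMod 5) = 0 := CharP.cast_eq_zero (ZMod 5) 5
    rw [h, orderOf_zero] at he
    omega
  have h5 : ((5 : ℕ) : F) = 0 := by rw [← hF]; exact FiniteField.cast_card_eq_zero F
  have hrF : (r : F) ≠ 0 := by
    obtain ⟨p, hp⟩ := CharP.exists F
    have hpp := CharP.char_is_prime F p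
    have h1 : p = 5 := (Nat.prime_dvd_prime_iff_eq hpp Nat.prime_five).1 ((CharP.cast_eq_zero_iff F p 5).1 h5)
    subst h1
    intro h
    exact hr5 ((Nat.prime_dvd_prime_iff_eq Nat.prime_five hr).1 ((CharP.cast_eq_zero_iff F 5 r).1 h)).symm
  rintro ⟨x, hx⟩
  obtain ⟨g, rfl⟩ := QuotientGroup.mk_surjective x
  have hodd : r % 2 = 1 := hr.eq_two_or_odd.resolve_left hr2
  set Z := Subgroup.center (Matrix.symplecticGroup (Fin n) F) with hZ
  have hc : g ^ (2 * r) ∈ Z := by
    rw [← QuotientGroup.eq_one_iff, QuotientGroup.mk_pow, ← hx, pow_orderOf_eq_one]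
  have hu : g ^ r ∉ Z := by
    intro h
    rw [← QuotientGroup.eq_one_iff, QuotientGroup.mk_pow] at h
    have h1 := orderOf_dvd_of_pow_eq_one h
    rw [hx] at h1
    have := Nat.le_of_dvd hr.pos h1
    omega
  have hv1 : g ^ 4 ≠ 1 := by
    intro h
    have h1 : (QuotientGroup.mk g : PSp n F) ^ 4 = 1 := by rw [← QuotientGroup.mk_pow, h]; rfl
    have h2 := orderOf_dvd_of_pow_eq_one h1
    rw [hx] at h2
    have h3 : r ∣ 2 := Nat.dvd_of_mul_dvd_mul_left (by norm_num) (show 2 * r ∣ 2 * 2 from h2)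
    exact hr2 ((Nat.prime_dvd_prime_iff_eq hr Nat.prime_two).1 h3)
  have hvr : (g ^ 4) ^ r = 1 := by
    rw [← pow_mul, show 4 * r = 2 * r * 2 by ring, pow_mul]
    exact H376.SpEmb.center_pow _ hc
  -- the endomorphisms
  let A : Matrix (Fin n ⊕ Fin n) (Fin n ⊕ Fin n) F := (g : Matrix (Fin n ⊕ Fin n) (Fin n ⊕ Fin n) F)
  let φ : Matrix (Fin n ⊕ Fin n) (Fin n ⊕ Fin n) F ≃ₐ[F] Module.End F (Fin n ⊕ Fin n → F) := Matrix.toLinAlgEquiv'
  have hgA : ∀ k : ℕ, ((g ^ k : Matrix.symplecticGroup (Fin n) F) : Matrix (Fin n ⊕ Fin n) (Fin n ⊕ Fin n) F) =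
      A ^ k := fun k => rfl
  have hX : (φ (A ^ 4)) ^ r = 1 := by
    rw [← map_pow, ← hgA, ← map_one φ]
    exact congrArg φ (congrArg Subtype.val hvr)
  have hX1 : φ (A ^ 4) ≠ 1 := by
    intro h
    rw [← map_one φ] at h
    have h1 := φ.injective h
    exact hv1 (Subtype.ext h1)
  have hXU : φ (A ^ 4) * φ (A ^ r) = φ (A ^ r) * φ (A ^ 4) := by
    rw [← map_mul, ← map_mul, ← pow_add, ← pow_add, add_comm]
  have hd : finrank F (Fin n ⊕ Fin n → F) = 2 * n := by
    rw [Module.finrank_fintype_fun_eq_card, Fintype.card_sum, Fintype.card_fin]; ring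
  have he' : orderOf ((Nat.card F : ℕ) : ZMod r) = finrank F (Fin n ⊕ Fin n → F) := by
    rw [Nat.card_eq_fintype_card, hF, hd, he]
  obtain ⟨c, hU⟩ : ∃ c : F, φ (A ^ r) * φ (A ^ r) = (c * c) • (1 : Module.End F (Fin n ⊕ Fin n → F)) := by
    have h1 : φ (A ^ r) * φ (A ^ r) = φ (A ^ (2 * r)) := by rw [← map_mul, ← pow_add, two_mul]
    rw [h1]
    rcases ClassicalGeometry.SympInvolutions.center_eq hc with h | h
    · refine ⟨1, ?_⟩
      rw [one_mul, one_smul, ← map_one φ]
      exact congrArg φ h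
    · refine ⟨2, ?_⟩
      have h2 : (2 : F) * 2 = -1 := by
        have : (5 : F) = 0 := by exact_mod_cast h5
        linear_combination this
      have h3 : ((2 : F) * 2) • (1 : Module.End F (Fin n ⊕ Fin n → F)) = φ (-1) := by
        rw [h2, map_neg, map_one]
        ext v
        simp
      rw [h3]
      exact congrArg φ h
  obtain ⟨d, hd'⟩ := scalar_of_sq hr hrF hX hX1 he' hXU hU
  apply hu
  rw [hZ, Subgroup.mem_center_iff]
  intro h
  apply Subtype.ext
  change (h : Matrix (Fin n ⊕ Fin n) (Fin n ⊕ Fin n) F) * A ^ r = A ^ r * (h : Matrix (Fin n ⊕ Fin n) (Fin n ⊕ Fin n) F)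
  have h1 : A ^ r = d • (1 : Matrix (Fin n ⊕ Fin n) (Fin n ⊕ Fin n) F) := by
    apply φ.injective
    rw [hd', map_smul, map_one]
  rw [h1, Matrix.mul_smul, Matrix.smul_mul, mul_one, one_mul]

/-- **The same for `PΩ(2n+1,5)`.** -/
theorem oodd {F : Type*} [Field F] [Fintype F] (hF : Fintype.card F = 5) {n : ℕ} (hn : 3 ≤ n)
    {r : ℕ} (hr : r.Prime) (he : orderOf ((5 : ℕ) : ZMod r) = 2 * n) :
    ¬ ∃ g : POmega F (quadFormOdd n F), orderOf g = 2 * r := by
  intro h
  have hr2 : (2 : ℕ) ≠ r := by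
    rintro rfl
    have h : ((5 : ℕ) : ZMod 2) = 1 := by decide
    rw [h, orderOf_one] at he
    omega
  have h1 := (S2474.result (F := F) (by rw [hF]; decide) n hn 2 r Nat.prime_two hr hr2).1 h
  exact psp hF (by omega) hr he h1

end Cfsg.Agent.H407.TwoSp
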