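import Cfsg.Agent.H425.ChrAd2
import Cfsg.Agent.H420.CrossL
import Cfsg.Agent.H407.TwoSp

/-!
# The prime graph of `PΩ(2n+1,5)`: classes of primes and cocliques (helper407)

* `OkB n k` : the classes of the primes of the order; `dvd_iff`;
* `coq0`, `coqx` : cocliques of `S`, `SHyp PΩ(2n+1,5) S`;
* `TB n`, `TKB n K` : a coclique of classes and its part far from the class `K`; lower bounds.
-/

set_option autoImplicit false

namespace Cfsg.Agent.H407.B5

open Cfsg Cfsg.Agent.H436 Cfsg.Agent.OrdDiv Cfsg.Agent.H72 Cfsg.Agent.H420.QR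

universe u v

/-! ### classes -/

/-- the class of a prime over five -/
noncomputable abbrev e5 (r : ℕ) : ℕ := AdjOrth.ee 5 r

theorem not_dvd_five {r : ℕ} (h : 5 < r) : ¬ r ∣ 5 := fun hd => by
  have := Nat.le_of_dvd (by norm_num) hd
  omega

theorem three_le_e5 {r : ℕ} (hr : r.Prime) (h : 5 < r) : 3 ≤ e5 r := by
  have h1 := prim_ee (q := 5) (by norm_num) hr (not_dvd_five h)
  have h0 : 1 ≤ e5 r := AdjOrth.ee_pos hr (not_dvd_five h)
  by_contra hlt
  have h2 : e5 r = 1 ∨ e5 r = 2 := by omega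
  have h3 : r ∣ 5 ^ 2 - 1 := by
    refine h1.dvd ?_
    change e5 r ∣ 2
    rcases h2 with h2 | h2
    · rw [h2]
      exact one_dvd _
    · rw [h2]
  have h4 : r ∣ 2 ^ 3 * 3 := by simpa using h3
  rcases hr.dvd_mul.1 h4 with h5 | h5
  · have := Nat.le_of_dvd (by norm_num) (hr.dvd_of_dvd_pow h5)
    omega
  · have := Nat.le_of_dvd (by norm_num) h5
    omega

theorem exists_e5 {l : ℕ} (hl : 3 ≤ l) : ∃ r : ℕ, r.Prime ∧ 5 < r ∧ e5 r = l := by
  obtain ⟨r, hr⟩ := exists_prim (q := 5) (by norm_num) hl (by omega)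
  have h1 := ee_eq_of_prim (by norm_num) hr
  refine ⟨r, hr.prime, ?_, h1⟩
  have h2 := hr.prime.two_le
  by_contra hlt
  have h3 : r = 2 ∨ r = 3 ∨ r = 4 ∨ r = 5 := by omega
  rcases h3 with rfl | rfl | rfl | rfl
  · have := Nat.le_of_dvd one_pos ((hr.dvd_iff 1).1 (by norm_num))
    omega
  · have := Nat.le_of_dvd two_pos ((hr.dvd_iff 2).1 (by norm_num))
    omega
  · exact absurd hr.prime (by norm_num)
  · exact hr.not_dvd dvd_rfl

/-- the classes of the primes of `|PΩ(2n+1,5)|` -/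
def OkB (n k : ℕ) : Prop := (k % 2 = 0 ∧ k ≤ 2 * n) ∨ (k % 2 = 1 ∧ k ≤ n)

instance decOkB (n k : ℕ) : Decidable (OkB n k) := by unfold OkB; infer_instance

section L

variable {F : Type v} [Field F] [Fintype F] {n : ℕ}

theorem dvd_iff (hF : Fintype.card F = 5) (hn : 3 ≤ n) {r : ℕ} (hr : r.Prime) (h5 : 5 < r) :
    r ∣ Nat.card (POmega F (quadFormOdd n F)) ↔ OkB n (e5 r) :=
  H425.Chr.odd_dvd (by norm_num) (by norm_num) hF hn (three_le_e5 hr h5)
    (prim_ee (q := 5) (by norm_num) hr (not_dvd_five h5))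

theorem nonadj_of_far (hF : Fintype.card F = 5) (hn : 3 ≤ n) {r s : ℕ} (hr : r.Prime) (hs : s.Prime) (h5 : 5 < r)
    (h6 : 5 < s) (hrs : e5 r ≠ e5 s) (h : Far n (e5 r) (e5 s)) :
    ¬ ∃ g : POmega F (quadFormOdd n F), orderOf g = r * s := by
  have hr3 := three_le_e5 hr h5
  have hs3 := three_le_e5 hs h6
  exact H425.Chr.odd_cls (by norm_num) (by norm_num) hF hn hr3 hs3 hrs h.1
    (fun ho => h.2 (ho.oddD (by omega) (by omega))) r s (prim_ee (q := 5) (by norm_num) hr (not_dvd_five h5))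
    (prim_ee (q := 5) (by norm_num) hs (not_dvd_five h6))

theorem far_ne {n k l : ℕ} (hk : 0 < k) (h : Far n k l) : k ≠ l := by
  rintro rfl
  exact h.2 (Or.inl ⟨Nat.mod_self _, by rw [Nat.div_self hk]⟩)

/-- primes chosen in pairwise far classes form a coclique -/
theorem isCoq_image (hF : Fintype.card F = 5) (hn : 3 ≤ n) (C : Finset ℕ) (f : ℕ → ℕ)
    (hf : ∀ l ∈ C, (f l).Prime ∧ 5 < f l ∧ e5 (f l) = l) (hok : ∀ l ∈ C, OkB n l)
    (hfar : ∀ k ∈ C, ∀ l ∈ C, k ≠ l → Far n k l) :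
    IsCoq (POmega F (quadFormOdd n F)) (C.image f) ∧ (C.image f).card = C.card := by
  refine ⟨⟨?_, ?_, ?_⟩, ?_⟩
  · intro r hr
    obtain ⟨l, hl, rfl⟩ := Finset.mem_image.1 hr
    exact (hf l hl).1
  · intro r hr
    obtain ⟨l, hl, rfl⟩ := Finset.mem_image.1 hr
    rw [dvd_iff hF hn (hf l hl).1 (hf l hl).2.1, (hf l hl).2.2]
    exact hok l hl
  · intro r hr s hs hrs
    obtain ⟨k, hk, rfl⟩ := Finset.mem_image.1 hr
    obtain ⟨l, hl, rfl⟩ := Finset.mem_image.1 hs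
    have hkl : k ≠ l := fun e => hrs (e ▸ rfl)
    refine nonadj_of_far hF hn (hf k hk).1 (hf l hl).1 (hf k hk).2.1 (hf l hl).2.1 ?_ ?_
    · rw [(hf k hk).2.2, (hf l hl).2.2]
      exact hkl
    · rw [(hf k hk).2.2, (hf l hl).2.2]
      exact hfar k hk l hl hkl
  · refine Finset.card_image_of_injOn fun k hk l hl hkl => ?_
    rw [← (hf k hk).2.2, ← (hf l hl).2.2]
    exact congrArg e5 hkl

variable {S : Type u} [Group S]

theorem okB (h : SHyp (POmega F (quadFormOdd n F)) S) (hF : Fintype.card F = 5) (hn : 3 ≤ n) {r : ℕ}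
    (hr : r.Prime) (h5 : 5 < r) (hd : r ∣ Nat.card S) : OkB n (e5 r) :=
  (dvd_iff hF hn hr h5).1 (h.pi r hr hd)

/-- a coclique of `L` and one of `S` from pairwise far classes -/
theorem coq0 (h : SHyp (POmega F (quadFormOdd n F)) S) (hF : Fintype.card F = 5) (hn : 3 ≤ n) (C : Finset ℕ)
    (hC : ∀ l ∈ C, 3 ≤ l) (hok : ∀ l ∈ C, OkB n l) (hfar : ∀ k ∈ C, ∀ l ∈ C, k ≠ l → Far n k l) (h3 : 3 ≤ C.card) :
    ∃ ρ : Finset ℕ, IsCoq S ρ ∧ (∀ r ∈ ρ, 5 < r ∧ e5 r ∈ C) ∧ C.card ≤ ρ.card + 1 := by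
  have hex : ∀ l ∈ C, ∃ r : ℕ, r.Prime ∧ 5 < r ∧ e5 r = l := fun l hl => exists_e5 (hC l hl)
  choose! f hf using hex
  obtain ⟨h1, h2⟩ := isCoq_image hF hn C f hf hok hfar
  obtain ⟨h4, h5⟩ := h.filter h1 (h2 ▸ h3)
  refine ⟨_, h4, ?_, h2 ▸ h5⟩
  intro r hr
  obtain ⟨l, hl, rfl⟩ := Finset.mem_image.1 (Finset.mem_filter.1 hr).1
  exact ⟨(hf l hl).2.1, by rw [(hf l hl).2.2]; exact hl⟩

/-- a coclique of `S` through `x` -/
theorem coqx (h : SHyp (POmega F (quadFormOdd n F)) S) (hF : Fintype.card F = 5) (hn : 3 ≤ n) {x : ℕ}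
    (hx : x.Prime) (hx5 : 5 < x) (hxS : x ∣ Nat.card S) (C : Finset ℕ)
    (hC : ∀ l ∈ C, 3 ≤ l) (hok : ∀ l ∈ C, OkB n l) (hfar : ∀ k ∈ C, ∀ l ∈ C, k ≠ l → Far n k l)
    (hxC : ∀ l ∈ C, Far n (e5 x) l) (h2 : 2 ≤ C.card) :
    ∃ ρ : Finset ℕ, IsCoq S ρ ∧ (∀ r ∈ ρ, 5 < r) ∧ x ∈ ρ ∧ C.card ≤ ρ.card := by
  classical
  have hex : ∀ l ∈ C, ∃ r : ℕ, r.Prime ∧ 5 < r ∧ e5 r = l := fun l hl => exists_e5 (hC l hl)
  choose! f hf using hex
  have h0 := three_le_e5 hx hx5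
  have hxn : e5 x ∉ C := fun hm => far_ne (by omega) (hxC _ hm) rfl
  have hf' : ∀ l ∈ insert (e5 x) C, ((fun l => if l = e5 x then x else f l) l).Prime ∧
      5 < (fun l => if l = e5 x then x else f l) l ∧ e5 ((fun l => if l = e5 x then x else f l) l) = l := by
    intro l hl
    dsimp only
    split_ifs with hlx
    · exact ⟨hx, hx5, hlx.symm⟩
    · exact hf l ((Finset.mem_insert.1 hl).resolve_left hlx)
  obtain ⟨h1, h3⟩ := isCoq_image hF hn (insert (e5 x) C) (fun l => if l = e5 x then x else f l) hf' (by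
      intro l hl
      rcases Finset.mem_insert.1 hl with rfl | hl
      · exact okB h hF hn hx hx5 hxS
      · exact hok l hl) (by
      intro k hk l hl hkl
      rcases Finset.mem_insert.1 hk with rfl | hk <;> rcases Finset.mem_insert.1 hl with rfl | hl
      · exact absurd rfl hkl
      · exact hxC l hl
      · exact (hxC k hk).symm
      · exact hfar k hk l hl hkl)
  rw [Finset.card_insert_of_notMem hxn] at h3
  obtain ⟨h4, h5⟩ := h.filter h1 (by omega)
  refine ⟨_, h4, ?_, ?_, by omega⟩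
  · intro r hr
    obtain ⟨l, hl, rfl⟩ := Finset.mem_image.1 (Finset.mem_filter.1 hr).1
    exact (hf' l hl).2.1
  · rw [Finset.mem_filter, Finset.mem_image]
    exact ⟨⟨e5 x, Finset.mem_insert_self _ _, if_pos rfl⟩, hxS⟩

end L

/-! ### the classes `TB n` -/

/-- the classes `l` with `2 eta l > n`, and `n` for even `n` -/
def TB (n : ℕ) : Finset ℕ := (Finset.range (2 * n + 1)).filter fun l => 3 ≤ l ∧ OkB n l ∧
  (n < 2 * eta l ∨ (l = n ∧ n % 2 = 0))

/-- its part far from `K` -/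
def TKB (n K : ℕ) : Finset ℕ := (TB n).filter fun l => Far n K l

theorem OkB.eta_le {n k : ℕ} (h : OkB n k) : eta k ≤ n := by
  unfold OkB at h
  have := eta_cases k
  omega

theorem mem_TB {n l : ℕ} : l ∈ TB n ↔ 3 ≤ l ∧ OkB n l ∧ (n < 2 * eta l ∨ (l = n ∧ n % 2 = 0)) := by
  rw [TB, Finset.mem_filter, Finset.mem_range]
  refine ⟨fun h => h.2, fun h => ⟨?_, h⟩⟩
  obtain ⟨h1, h2, -⟩ := h
  unfold OkB at h2
  omega

theorem far_TB {n k l : ℕ} (hk : k ∈ TB n) (hl : l ∈ TB n) (hkl : k ≠ l) : Far n k l := by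
  obtain ⟨h1, h2, h3⟩ := mem_TB.1 hk
  obtain ⟨h4, h5, h6⟩ := mem_TB.1 hl
  have h7 := h2.eta_le
  have h8 := h5.eta_le
  have ek := eta_cases k
  have el := eta_cases l
  refine ⟨by omega, fun h => ?_⟩
  rcases oddD_cases h (by omega) (by omega) with h9 | h9 | h9
  · exact hkl h9
  · unfold OkB at h2 h5
    omega
  · unfold OkB at h2 h5
    omega

/-- the classes of the top `t` -/
def WB (n t : ℕ) : Finset ℕ := (Finset.range (t + 1)).image (fun j => 2 * (n - j)) ∪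
  (Finset.Ico ((n - t) / 2) ((n + 1) / 2)).image (fun i => 2 * i + 1)

theorem mem_WB {n t l : ℕ} (ht : 2 * t < n) (hn : 5 ≤ n) (h : l ∈ WB n t) : OkB n l ∧ n - t ≤ eta l ∧ 3 ≤ l := by
  rw [WB, Finset.mem_union, Finset.mem_image, Finset.mem_image] at h
  unfold OkB
  rcases h with ⟨j, hj, rfl⟩ | ⟨j, hj, rfl⟩
  · rw [Finset.mem_range] at hj
    rw [eta_even (by omega)]
    omega
  · rw [Finset.mem_Ico] at hj
    rw [eta_odd (by omega)]
    omega

theorem card_WB {n t : ℕ} (ht : 2 * t < n) : t + 1 + (t + 1) / 2 ≤ (WB n t).card := by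
  rw [WB, Finset.card_union_of_disjoint]
  · rw [Finset.card_image_of_injOn, Finset.card_image_of_injective, Finset.card_range, Nat.card_Ico]
    · omega
    · intro a b hab
      dsimp only at hab
      omega
    · intro a ha b hb hab
      have ha' := Finset.mem_range.1 ha
      have hb' := Finset.mem_range.1 hb
      dsimp only at hab
      omega
  · rw [Finset.disjoint_left]
    intro x hx hx'
    obtain ⟨a, -, ha⟩ := Finset.mem_image.1 hx
    obtain ⟨b, -, hb⟩ := Finset.mem_image.1 hx'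
    omega

theorem card_TB {n t : ℕ} (ht : 2 * t < n) (hn : 5 ≤ n) : t + 1 + (t + 1) / 2 ≤ (TB n).card := by
  refine (card_WB ht).trans (Finset.card_le_card fun l hl => ?_)
  obtain ⟨h1, h2, h3⟩ := mem_WB ht hn hl
  exact mem_TB.2 ⟨h3, h1, by omega⟩

theorem card_TKB {n t K : ℕ} (ht : 2 * t < n) (hn : 5 ≤ n) (hK : OkB n K) (htK : t + 1 ≤ eta K) :
    t + (t + 1) / 2 ≤ (TKB n K).card := by
  have h1 := card_WB ht
  have hK3 : 0 < K := by
    rcases Nat.eq_zero_or_pos K with rfl | h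
    · rw [eta_even (by norm_num)] at htK
      omega
    · exact h
  have h2 := Finset.card_filter_add_card_filter_not (s := WB n t) (fun l => OddD K l)
  have h3 : ((WB n t).filter fun l => OddD K l).card ≤ 1 := by
    rw [Finset.card_le_one]
    intro a ha b hb
    rw [Finset.mem_filter] at ha hb
    obtain ⟨ha, ha'⟩ := ha
    obtain ⟨hb, hb'⟩ := hb
    obtain ⟨a1, a2, a3⟩ := mem_WB ht hn ha
    obtain ⟨b1, b2, b3⟩ := mem_WB ht hn hb
    have hKn := hK.eta_le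
    have key : ∀ {l : ℕ}, 3 ≤ l → n - t ≤ eta l → OddD K l → l % 2 = K % 2 ∧ K ∣ l := by
      intro l h1 h2 h3
      rcases oddD_cases h3 hK3 (by omega) with h4 | h4 | h4
      · exact ⟨by rw [h4], h4 ▸ dvd_rfl⟩
      · exact ⟨h4.1, h4.2.2⟩
      · omega
    obtain ⟨a4, a5⟩ := key a3 a2 ha'
    obtain ⟨b4, b5⟩ := key b3 b2 hb'
    have key2 : ∀ {a b : ℕ}, OkB n a → OkB n b → n - t ≤ eta a → n - t ≤ eta b → a % 2 = K % 2 → b % 2 = K % 2 →
        K ∣ a → K ∣ b → a ≤ b → a = b := by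
      intro a b a1 b1 a2 b2 a4 b4 a5 b5 hab
      have h5 := Nat.dvd_sub b5 a5
      by_contra hne
      have h6 := Nat.le_of_dvd (by omega) h5
      have e1 := eta_cases a
      have e2 := eta_cases b
      have e3 := eta_cases K
      unfold OkB at a1 b1
      omega
    rcases Nat.le_total a b with hab | hab
    · exact key2 a1 b1 a2 b2 a4 b4 a5 b5 hab
    · exact (key2 b1 a1 b2 a2 b4 a4 b5 a5 hab).symm
  have h4 : ((WB n t).filter fun l => ¬ OddD K l) ⊆ TKB n K := by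
    intro l hl
    obtain ⟨hl1, hl2⟩ := Finset.mem_filter.1 hl
    obtain ⟨h5, h6, h7⟩ := mem_WB ht hn hl1
    exact Finset.mem_filter.2 ⟨mem_TB.2 ⟨h7, h5, by omega⟩, by omega, hl2⟩
  have h5 := Finset.card_le_card h4
  omega

/-- lower bounds of the independence number -/
theorem TB_6 : (TB 6).card = 5 := by decide +kernel
theorem TB_7 : (TB 7).card = 6 := by decide +kernel
theorem TB_8 : (TB 8).card = 7 := by decide +kernel
theorem TB_9 : (TB 9).card = 8 := by decide +kernel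
theorem TB_10 : (TB 10).card = 8 := by decide +kernel
theorem TB_11 : (TB 11).card = 9 := by decide +kernel
theorem TB_12 : (TB 12).card = 10 := by decide +kernel
theorem TB_13 : (TB 13).card = 11 := by decide +kernel
theorem TB_14 : (TB 14).card = 11 := by decide +kernel

/-! ### cocliques of `S` -/

section S

variable {F : Type v} [Field F] [Fintype F] {n : ℕ} {S : Type u} [Group S]

theorem max0 (h : SHyp (POmega F (quadFormOdd n F)) S) (hF : Fintype.card F = 5) (hn : 3 ≤ n)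
    (h3 : 3 ≤ (TB n).card) : ∃ ρ : Finset ℕ, IsCoq S ρ ∧ (∀ r ∈ ρ, 5 < r ∧ e5 r ∈ TB n) ∧
      (TB n).card ≤ ρ.card + 1 :=
  coq0 h hF hn (TB n) (fun _ hl => (mem_TB.1 hl).1) (fun _ hl => (mem_TB.1 hl).2.1)
    (fun _ hk _ hl hkl => far_TB hk hl hkl) h3

theorem maxx (h : SHyp (POmega F (quadFormOdd n F)) S) (hF : Fintype.card F = 5) (hn : 3 ≤ n) {x : ℕ}
    (hx : x.Prime) (hx5 : 5 < x) (hxS : x ∣ Nat.card S) (h2 : 2 ≤ (TKB n (e5 x)).card) :
    ∃ ρ : Finset ℕ, IsCoq S ρ ∧ (∀ r ∈ ρ, 5 < r) ∧ x ∈ ρ ∧ (TKB n (e5 x)).card ≤ ρ.card := by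
  have hs : ∀ l ∈ TKB n (e5 x), l ∈ TB n := fun l hl => (Finset.mem_filter.1 hl).1
  exact coqx h hF hn hx hx5 hxS (TKB n (e5 x)) (fun l hl => (mem_TB.1 (hs l hl)).1)
    (fun l hl => (mem_TB.1 (hs l hl)).2.1) (fun k hk l hl hkl => far_TB (hs k hk) (hs l hl) hkl)
    (fun l hl => (Finset.mem_filter.1 hl).2) h2

end S

end Cfsg.Agent.H407.B5
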