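import Cfsg.Agent.H407.MFrob
import Cfsg.Agent.H425.MovFix
import Cfsg.Agent.H390.FactsOrth
import Cfsg.Agent.H377.Elt

/-!
# Frobenius subgroups of `PΩ⁻_{2n}(q)` (helper407)

* `frob_iso` : an isometry of order `l ^ b` with a fixed nonzero singular vector;
* `frob_pomega` : descent to `PΩ`;
* `frob_minus` : `q` odd, `1 ≤ c ≤ n - 1`, `l ^ b ∣ q ^ c + 1`: `FrobAt p (l ^ b)` in `PΩ⁻_{2n}(q)`;
* `dvd_of_order` : an element of order `l ^ b` of `PΩ⁻_{2n}(q)`: `l ^ b ∣ q ^ d - 1` with `1 ≤ d ≤ 2n`.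
-/

set_option autoImplicit false
set_option linter.unusedSectionVars false

namespace Cfsg.Agent.H407.MF

open Cfsg QuadraticMap LinearMap Module Subgroup
open Cfsg.Agent.ClassicalGeometry.OrthCharTwo Cfsg.Agent.H404.Siegel Cfsg.Agent.H425.MinusBd Cfsg.Agent.H425.Fix Cfsg.Agent.H150
open Cfsg.Agent.LieClassical.OrthCore Cfsg.Agent.LieClassical.OrthCount Cfsg.Agent.LieClassical.OmegaReindex

/-! ### subgroups and quotients -/

section descent

variable {O : Type*} [Group O] [Finite O] {p M : ℕ}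

theorem frob_sub (N : Subgroup O) (hN : ∀ (g : O) (m : ℕ), Odd m → g ^ m = 1 → g ∈ N)
    (hp : p.Prime) (hp2 : p ≠ 2) (hM : Odd M) {A : Subgroup O} {y : O} (h : FrobAt p M A y) :
    ∃ (A' : Subgroup N) (y' : N), FrobAt p M A' y' := by
  have hAN : A ≤ N := by
    intro g hg
    obtain ⟨k, hk⟩ := h.pgrp ⟨g, hg⟩
    exact hN g (p ^ k) (hp.odd_of_ne_two hp2).pow (congrArg Subtype.val hk)
  have hyN : y ∈ N := hN y M hM (by rw [← h.ord, pow_orderOf_eq_one])
  refine ⟨A.subgroupOf N, ⟨y, hyN⟩, ?_, ?_, by rw [Subgroup.orderOf_mk, h.ord], h.pos, fun b hb => h.nrm b hb, ?_⟩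
  · exact h.pgrp.of_injective (subgroupOfEquivOfLe hAN).toMonoidHom (subgroupOfEquivOfLe hAN).injective
  · intro hc
    apply h.ne
    rw [eq_bot_iff]
    intro g hg
    have h1 : (⟨g, hAN hg⟩ : N) ∈ A.subgroupOf N := hg
    rw [hc, Subgroup.mem_bot] at h1
    rw [Subgroup.mem_bot]
    exact congrArg Subtype.val h1
  · intro j hj hjM a ha hc
    exact Subtype.ext (h.fpf j hj hjM a ha (congrArg Subtype.val hc))

theorem frob_quot (Z : Subgroup O) [Z.Normal] (hZ : ¬ p ∣ Nat.card Z) (hZM : (Nat.card Z).Coprime M)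
    (hp : p.Prime) {A : Subgroup O} {y : O} (h : FrobAt p M A y) :
    ∃ (A' : Subgroup (O ⧸ Z)) (y' : O ⧸ Z), FrobAt p M A' y' := by
  have hAZ : ∀ a ∈ A, a ∈ Z → a = 1 := by
    intro a ha haZ
    obtain ⟨k, hk⟩ := h.pgrp ⟨a, ha⟩
    have h3 : orderOf a ∣ Nat.card Z := by
      rw [← Subgroup.orderOf_mk _ haZ]
      exact orderOf_dvd_natCard _
    have h4 : orderOf a ∣ p ^ k := orderOf_dvd_of_pow_eq_one (congrArg Subtype.val hk)
    have h5 : Nat.Coprime (Nat.card Z) (p ^ k) :=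
      Nat.Coprime.pow_right _ ((Nat.Prime.coprime_iff_not_dvd hp).2 hZ).symm
    exact orderOf_eq_one_iff.1 (Nat.eq_one_of_dvd_coprimes h5 h3 h4)
  refine ⟨A.map (QuotientGroup.mk' Z), QuotientGroup.mk' Z y, h.pgrp.map _, ?_, ?_, h.pos, ?_, ?_⟩
  · intro hc
    apply h.ne
    rw [eq_bot_iff]
    intro g hg
    have h1 : QuotientGroup.mk' Z g ∈ A.map (QuotientGroup.mk' Z) := ⟨g, hg, rfl⟩
    rw [hc, Subgroup.mem_bot] at h1
    rw [Subgroup.mem_bot]
    exact hAZ g hg ((QuotientGroup.eq_one_iff g).1 h1)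
  · apply Nat.dvd_antisymm
    · rw [← h.ord]
      exact orderOf_map_dvd _ _
    · have h1 : y ^ orderOf (QuotientGroup.mk' Z y) ∈ Z := by
        rw [← QuotientGroup.eq_one_iff]
        change (QuotientGroup.mk' Z) (y ^ _) = 1
        rw [map_pow, pow_orderOf_eq_one]
      have h2 : orderOf (y ^ orderOf (QuotientGroup.mk' Z y)) ∣ Nat.card Z := by
        rw [← Subgroup.orderOf_mk _ h1]
        exact orderOf_dvd_natCard _
      have h3 : orderOf (y ^ orderOf (QuotientGroup.mk' Z y)) ∣ M := by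
        rw [← h.ord]
        exact orderOf_pow_dvd _
      have h4 := orderOf_eq_one_iff.1 (Nat.eq_one_of_dvd_coprimes hZM h2 h3)
      rw [← h.ord]
      exact orderOf_dvd_of_pow_eq_one h4
  · rintro _ ⟨b, hb, rfl⟩
    exact ⟨y * b * y⁻¹, h.nrm b hb, by rw [map_mul, map_mul, map_inv]⟩
  · rintro j hj hjM _ ⟨a, ha, rfl⟩ hc
    have h1 : (y ^ j * a * (y ^ j)⁻¹) * a⁻¹ ∈ Z := by
      rw [← QuotientGroup.eq_one_iff]
      change QuotientGroup.mk' Z ((y ^ j * a * (y ^ j)⁻¹) * a⁻¹) = 1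
      rw [map_mul, map_mul, map_mul, map_inv, map_inv, map_pow, hc, mul_inv_cancel]
    have h2 := hAZ _ (A.mul_mem (h.pow_nrm j ha) (A.inv_mem ha)) h1
    rw [mul_inv_eq_one] at h2
    rw [h.fpf j hj hjM a ha h2, map_one]

end descent

/-! ### isometries with a fixed singular vector -/

section fixed

variable {F : Type*} [Field F] {ι : Type} [Fintype ι] [DecidableEq ι] {Q : QuadraticForm F (ι → F)}

theorem act_fix_zpow {X : Cfsg.isometryGroup F (⇑Q)} {u : ι → F} (h : act X u = u) (k : ℤ) : act (X ^ k) u = u := by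
  let S : Subgroup (Cfsg.isometryGroup F (⇑Q)) :=
    { carrier := {g | act g u = u}
      one_mem' := act_one u
      mul_mem' := fun {a b} ha hb => by
        change act (a * b) u = u
        rw [act_mul, show act b u = u from hb, show act a u = u from ha]
      inv_mem' := fun {a} ha => by
        change act a⁻¹ u = u
        conv_lhs => rw [← show act a u = u from ha]
        rw [act_inv_act] }
  exact S.zpow_mem (show X ∈ S from h) k

theorem frob_iso {p l b : ℕ} [CharP F p] (hQ : ∀ x, (∀ y, polar Q x y = 0) → x = 0)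
    (X : Cfsg.isometryGroup F (⇑Q)) (hl : l.Prime) (hb : 0 < b) (hX : orderOf X = l ^ b) (hlF : (l : F) ≠ 0)
    {e : ι → F} (he0 : e ≠ 0) (he : Q e = 0) (hXe : act X e = e) :
    ∃ A : Subgroup (Cfsg.isometryGroup F (⇑Q)), FrobAt p (l ^ b) A X := by
  set z := X ^ (l ^ (b - 1)) with hz
  have hzl : z ^ l = 1 := by
    rw [hz, ← pow_mul, ← pow_succ, show b - 1 + 1 = b by omega, ← hX, pow_orderOf_eq_one]
  have hlin : lin z ^ l = 1 := by
    apply LinearMap.ext
    intro w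
    rw [lin_pow, hzl, act_one]
    rfl
  have hz1 : z ≠ 1 := by
    intro h
    have h1 := orderOf_dvd_of_pow_eq_one h
    rw [hX] at h1
    have h2 := (Nat.pow_dvd_pow_iff_le_right hl.one_lt).1 h1
    omega
  have hXe' : ∀ j : ℕ, act (X ^ j) e = e := fun j => by
    rw [← zpow_natCast]
    exact act_fix_zpow hXe j
  set U := LinearMap.range (lin z - 1) with hU
  have hUe : ∀ u ∈ U, polar Q e u = 0 := by
    rintro _ ⟨v, rfl⟩
    change polar Q e (act z v - v) = 0
    rw [polar_sub_right, sub_eq_zero]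
    conv_lhs => rw [← hXe' (l ^ (b - 1))]
    exact polar_act z e v
  have hUX : ∀ j : ℕ, ∀ u ∈ U, act (X ^ j) u ∈ U := by
    rintro j _ ⟨v, rfl⟩
    refine ⟨act (X ^ j) v, ?_⟩
    change act z (act (X ^ j) v) - act (X ^ j) v = act (X ^ j) (act z v - v)
    rw [act_sub, ← act_mul, ← act_mul, hz, ← pow_add, ← pow_add, add_comm]
  let A : Subgroup (Cfsg.isometryGroup F (⇑Q)) :=
    { carrier := {g | ∃ u ∈ U, IsE e u g}
      one_mem' := ⟨0, U.zero_mem, fun z => by rw [act_one]; simp⟩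
      mul_mem' := by
        rintro a b ⟨u, hu, ha⟩ ⟨u', hu', hb⟩
        exact ⟨u + u', U.add_mem hu hu', isE_mul he (hUe u hu) (hUe u' hu') ha hb⟩
      inv_mem' := by
        rintro a ⟨u, hu, ha⟩
        exact ⟨-u, U.neg_mem hu, isE_inv he (hUe u hu) ha⟩ }
  have hmem : ∀ g, g ∈ A ↔ ∃ u ∈ U, IsE e u g := fun g => Iff.rfl
  -- a power of `X ^ j`
  have hpow : ∀ j, 0 < j → j < l ^ b → ∃ k : ℤ, z = (X ^ j) ^ k := by
    intro j hj hjb
    obtain ⟨i, hi, hgcd⟩ := (Nat.dvd_prime_pow hl).1 (Nat.gcd_dvd_right j (l ^ b))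
    have hib : i < b := by
      rcases Nat.lt_or_ge i b with h | h
      · exact h
      · exfalso
        have h1 : i = b := le_antisymm hi h
        rw [h1] at hgcd
        have h2 := Nat.le_of_dvd hj (Nat.gcd_dvd_left j (l ^ b))
        rw [hgcd] at h2
        omega
    have h1 : X ^ (l ^ i) = (X ^ j) ^ (Nat.gcdA j (l ^ b)) := by
      have h2 := Nat.gcd_eq_gcd_ab j (l ^ b)
      rw [hgcd] at h2
      rw [← zpow_natCast X (l ^ i), h2, zpow_add, zpow_mul, zpow_mul, zpow_natCast, zpow_natCast, ← hX,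
        pow_orderOf_eq_one, one_zpow, mul_one]
    refine ⟨Nat.gcdA j (l ^ b) * ((l ^ (b - 1 - i) : ℕ) : ℤ), ?_⟩
    rw [zpow_mul, ← h1, zpow_natCast, ← pow_mul, ← pow_add, show i + (b - 1 - i) = b - 1 by omega]
  refine ⟨A, ?_, ?_, hX, pow_pos hl.pos b, ?_, ?_⟩
  · rintro ⟨g, u, hu, hg⟩
    refine ⟨1, Subtype.ext ?_⟩
    change g ^ p ^ 1 = 1
    have h1 := isE_pow he (hUe u hu) hg p
    rw [CharP.cast_eq_zero, zero_smul] at h1
    rw [pow_one]
    exact isE_zero_iff h1
  · -- `A ≠ 1`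
    intro hc
    obtain ⟨v, hv⟩ : ∃ v, act z v ≠ v := by
      by_contra hcon
      push Not at hcon
      exact hz1 (act_ext fun v => by rw [hcon v, act_one])
    set w := act z v - v with hw
    have hw0 : w ≠ 0 := sub_ne_zero.2 hv
    have hwU : w ∈ U := ⟨v, rfl⟩
    obtain ⟨E, hE⟩ := exists_E (Q := Q) e w he (hUe w hwU)
    have hEA : E ∈ A := ⟨w, hwU, hE⟩
    rw [hc, Subgroup.mem_bot] at hEA
    subst hEA
    obtain ⟨f, hf⟩ : ∃ f, polar Q e f ≠ 0 := by
      by_contra hcon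
      push Not at hcon
      exact he0 (hQ e hcon)
    have h1 := hE f
    rw [act_one] at h1
    -- `w` is a multiple of `e`
    set c := (polar Q e f)⁻¹ * (polar Q w f + Q w * polar Q e f) with hc'
    have h3 : w = c • e := by
      have h4 : polar Q e f • w = (polar Q w f + Q w * polar Q e f) • e := by
        linear_combination (norm := module) (-1 : F) • h1
      rw [hc', mul_smul, ← h4, smul_smul, inv_mul_cancel₀ hf, one_smul]
    have h4 : lin z w = w := by rw [h3, lin_apply, act_smul, hXe']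
    exact hw0 (range_fix hlF hlin w hwU h4)
  · rintro g ⟨u, hu, hg⟩
    have h1 := isE_conj hg X
    rw [hXe] at h1
    have h2 := hUX 1 u hu
    rw [pow_one] at h2
    exact ⟨act X u, h2, h1⟩
  · rintro j hj hjb E ⟨u, hu, hE⟩ hc
    have h1 := isE_conj hE (X ^ j)
    rw [hXe', hc] at h1
    obtain ⟨f, hf⟩ : ∃ f, polar Q e f ≠ 0 := by
      by_contra hcon
      push Not at hcon
      exact he0 (hQ e hcon)
    have h2 := (hE f).symm.trans (h1 f)
    set u' := act (X ^ j) u with hu'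
    set c := (polar Q e f)⁻¹ * (polar Q u' f + Q u' * polar Q e f - polar Q u f - Q u * polar Q e f) with hc'
    have h3 : u' - u = c • e := by
      have h4 : polar Q e f • (u' - u) =
          (polar Q u' f + Q u' * polar Q e f - polar Q u f - Q u * polar Q e f) • e := by
        linear_combination (norm := module) (-1 : F) • h2
      rw [hc', mul_smul, ← h4, smul_smul, inv_mul_cancel₀ hf, one_smul]
    have h4 : lin z (c • e) = c • e := by rw [lin_apply, act_smul, hXe']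
    have h5 : c • e ∈ U := by rw [← h3]; exact U.sub_mem (hUX j u hu) hu
    have h6 := range_fix hlF hlin _ h5 h4
    rw [h6, sub_eq_zero] at h3
    obtain ⟨k, hk⟩ := hpow j hj hjb
    have h7 : act z u = u := by
      rw [hk]
      exact act_fix_zpow h3 k
    have h8 := range_fix hlF hlin u hu h7
    rw [h8] at hE
    exact isE_zero_iff hE

end fixed

/-! ### `PΩ` -/

section pomega

variable {F : Type*} [Field F] [Finite F] {ι : Type} [Fintype ι] [DecidableEq ι] {Q : QuadraticForm F (ι → F)}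

theorem coprime_card_center (hD : Cfsg.Agent.H390.Lift.Data Q) {M : ℕ} (hM : Odd M) :
    (Nat.card (center (Cfsg.Omega F (⇑Q)))).Coprime M := by
  rw [Nat.coprime_comm]
  apply Nat.Coprime.symm
  rw [Nat.coprime_iff_gcd_eq_one]
  by_contra hcon
  obtain ⟨t, ht, htd⟩ := Nat.exists_prime_and_dvd hcon
  have h1 : t ∣ Nat.card (center (Cfsg.Omega F (⇑Q))) := htd.trans (Nat.gcd_dvd_left _ _)
  have h2 : t ∣ M := htd.trans (Nat.gcd_dvd_right _ _)
  have ht2 : t ≠ 2 := by
    rintro rfl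
    rw [Nat.odd_iff] at hM
    omega
  exact Cfsg.Agent.H425.Siegel.not_dvd_card_of_sq (Z := center (Cfsg.Omega F (⇑Q))) ht ht2
    (fun z => Subtype.ext (Cfsg.Agent.H390.Lift.center_sq hD z.1 z.2)) h1

theorem frob_pomega (hD : Cfsg.Agent.H390.Lift.Data Q) {p M : ℕ} (hp : p.Prime) (hp2 : p ≠ 2) (hM : Odd M)
    {A : Subgroup (Cfsg.isometryGroup F (⇑Q))} {y : Cfsg.isometryGroup F (⇑Q)} (h : FrobAt p M A y) :
    ∃ (A' : Subgroup (Cfsg.POmega F (⇑Q))) (y' : Cfsg.POmega F (⇑Q)), FrobAt p M A' y' := by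
  obtain ⟨A1, y1, h1⟩ := frob_sub (Cfsg.Omega F ⇑Q) (fun _ _ hm hg => Cfsg.Agent.H390.Lift.mem_of_odd _ hD.idx hm hg)
    hp hp2 hM h
  exact frob_quot _ (Cfsg.Agent.H425.Siegel.not_dvd_card_of_sq hp hp2
    fun z => Subtype.ext (Cfsg.Agent.H390.Lift.center_sq hD z z.2)) (coprime_card_center hD hM) hp h1

/-- an isometry of finite order as an element of the isometry group -/
theorem exists_iso (hQ : Cfsg.Agent.H150.ND Q) (T : Module.End F (ι → F)) (hT : ∀ v, Q (T v) = Q v) {N : ℕ}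
    (hN : 0 < N) (hTN : orderOf T = N) : ∃ X : Cfsg.isometryGroup F (⇑Q), orderOf X = N ∧ ∀ v, act X v = T v := by
  obtain ⟨g, hg⟩ := exists_og Q T hN (by rw [← hTN, pow_orderOf_eq_one]) hT
  refine ⟨(isometryGroupEquiv Q).symm g, ?_, ?_⟩
  · rw [MulEquiv.orderOf_eq, ← hTN, orderOf_eq_orderOf_iff]
    exact fun j => og_pow_eq_one_iff g T hg j
  · intro v
    have h1 : act ((isometryGroupEquiv Q).symm g) v =
        ((isometryGroupEquiv Q ((isometryGroupEquiv Q).symm g) : OG Q) : (ι → F) ≃ₗ[F] (ι → F)) v := rfl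
    rw [h1, MulEquiv.apply_symm_apply]
    exact hg v

end pomega

/-! ### `PΩ⁻` -/

section minus

variable {F : Type*} [Field F] [Fintype F] {n : ℕ} {a b : F}

theorem data_minus (hn : 3 ≤ n) (hab : ∀ z₁ z₂ : F, z₁ ^ 2 + a * z₁ * z₂ + b * z₂ ^ 2 = 0 → z₁ = 0 ∧ z₂ = 0) :
    Cfsg.Agent.H390.Lift.Data (quadMinus (n - 1) F a b) := by
  have hcard : Fintype.card ((Fin (n - 1) ⊕ Fin (n - 1)) ⊕ Fin 2) = 2 * n := by simp; omega
  exact Cfsg.Agent.H390.data_of _ (quadMinus_nondegenerate hab) (by rw [hcard]; omega)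
    (quadMinus_isotropic (by omega) a b) (Or.inr (by rw [hcard]; omega))

theorem frob_minus {p : ℕ} [CharP F p] (hp : p.Prime) (hp2 : p ≠ 2) (hn : 3 ≤ n)
    (hab : ∀ z₁ z₂ : F, z₁ ^ 2 + a * z₁ * z₂ + b * z₂ ^ 2 = 0 → z₁ = 0 ∧ z₂ = 0)
    {l c d : ℕ} (hl : l.Prime) (hl2 : l ≠ 2) (hc1 : 1 ≤ c) (hcn : c ≤ n - 1) (hd : 0 < d)
    (hdiv : l ^ d ∣ Nat.card F ^ c + 1) :
    ∃ (A : Subgroup (POmega F (quadFormMinus (n - 1) F a b))) (y : POmega F (quadFormMinus (n - 1) F a b)),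
      FrobAt p (l ^ d) A y := by
  have hD := data_minus (F := F) hn hab
  obtain ⟨m, hm⟩ : ∃ m, n = c + (m + 1) := ⟨n - 1 - c, by omega⟩
  obtain ⟨hN, Q1, g1, hQ1, hs1, hg1, ho1⟩ := Cfsg.Agent.H377.elt_tor_minus (F := F) hc1 hdiv
  have hlF : (l : F) ≠ 0 := by
    intro h
    have h1 : (((Nat.card F ^ c + 1 : ℕ)) : F) = 0 := by
      obtain ⟨t, ht⟩ := (dvd_pow_self l hd.ne').trans hdiv
      rw [ht, Nat.cast_mul, h, zero_mul]
    have h2 : ((Nat.card F : ℕ) : F) = 0 := by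
      rw [Nat.card_eq_fintype_card]
      exact FiniteField.cast_card_eq_zero F
    rw [Nat.cast_add, Nat.cast_pow, h2, zero_pow (by omega), Nat.cast_one, zero_add] at h1
    exact one_ne_zero h1
  -- the sum with a space of plus type
  let V := (Fin (2 * c) → F) × (Fin (m + 1) ⊕ Fin (m + 1) → F)
  let Q' : QuadraticForm F V := Cfsg.Agent.H377.sumQ Q1 (Cfsg.Agent.LieClassical.OrthForms.plusForm (m + 1) F)
  have hfin : finrank F V = 2 * n := by
    rw [finrank_prod, finrank_fin_fun, Cfsg.Agent.H377.finrank_sumFun, hm]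
    ring
  have hnd : Nondeg Q' := Cfsg.Agent.H377.sumQ_nondeg hQ1 (Cfsg.Agent.LieClassical.OrthForms.nondeg_plusForm (m + 1) F)
  have hs : Cfsg.Agent.H377.HasSign (⇑Q') n (-1) := by
    have h1 := hs1.prod (Cfsg.Agent.H377.hasSign_plusForm (F := F) (m + 1))
    rw [mul_one, ← hm] at h1
    exact h1
  obtain ⟨E, hE⟩ := Cfsg.Agent.H377.exists_minus (by omega) hfin Q' hnd hs hab
  let T' : Module.End F V := g1.prodMap LinearMap.id
  have hT' : ∀ v, Q' (T' v) = Q' v := fun v => by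
    change Q1 (g1 v.1) + _ = Q1 v.1 + _
    rw [hg1]
    rfl
  have hoT' : orderOf T' = l ^ d := by
    have h1 := Cfsg.Agent.H377.orderOf_prodMap (F := F) g1 (1 : Module.End F (Fin (m + 1) ⊕ Fin (m + 1) → F))
    rw [ho1, orderOf_one, Nat.lcm_one_right] at h1
    exact h1
  -- transport
  let T : Module.End F ((Fin (n - 1) ⊕ Fin (n - 1)) ⊕ Fin 2 → F) := E.symm.conj T'
  have hTv : ∀ v, T v = E.symm (T' (E v)) := fun v => rfl
  have hE' : ∀ v, quadMinus (n - 1) F a b v = Q' (E v) := fun v => by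
    rw [hE, coe_quadMinus]
  have hT : ∀ v, quadMinus (n - 1) F a b (T v) = quadMinus (n - 1) F a b v := fun v => by
    rw [hE', hE', hTv, LinearEquiv.apply_symm_apply, hT']
  have hoT : orderOf T = l ^ d := by
    rw [← hoT', orderOf_eq_orderOf_iff]
    intro k
    have h2 : T ^ k = E.symm.conj (T' ^ k) := by
      change (LinearEquiv.conjRingEquiv E.symm T') ^ k = LinearEquiv.conjRingEquiv E.symm (T' ^ k)
      rw [map_pow]
    rw [h2]
    constructor
    · intro h
      apply E.symm.conj.injective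
      rw [h]
      exact (LinearEquiv.conjRingEquiv E.symm).map_one.symm
    · intro h
      rw [h]
      exact (LinearEquiv.conjRingEquiv E.symm).map_one
  obtain ⟨X, hX, hXv⟩ := exists_iso hD.ND T hT hN hoT
  -- the singular vector
  let e' : V := (0, Pi.single (Sum.inl 0) 1)
  have he'Q : Q' e' = 0 := by
    change Q1 0 + Cfsg.Agent.LieClassical.OrthForms.plusForm (m + 1) F (Pi.single (Sum.inl 0) 1) = 0
    have h1 : Cfsg.Agent.LieClassical.OrthForms.plusForm (m + 1) F (Pi.single (Sum.inl 0) 1) =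
        Cfsg.quadFormPlus (m + 1) F (Pi.single (Sum.inl 0) 1) := by
      rw [← Cfsg.Agent.LieClassical.OrthForms.coe_plusForm]
    rw [QuadraticMap.map_zero, zero_add, h1, Cfsg.quadFormPlus]
    refine Finset.sum_eq_zero fun i _ => ?_
    rw [Pi.single_eq_of_ne (by simp : (Sum.inr i : Fin (m + 1) ⊕ Fin (m + 1)) ≠ Sum.inl 0), mul_zero]
  have he'0 : e' ≠ 0 := by
    intro h
    have h1 := congrFun (congrArg Prod.snd h) (Sum.inl 0)
    change (Pi.single (Sum.inl 0) (1 : F) : Fin (m + 1) ⊕ Fin (m + 1) → F) (Sum.inl 0) = 0 at h1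
    rw [Pi.single_eq_same] at h1
    exact one_ne_zero h1
  have hTe' : T' e' = e' := by
    change (g1 0, _) = _
    rw [map_zero]
    rfl
  have hodd : Odd (l ^ d) := (hl.odd_of_ne_two hl2).pow
  obtain ⟨A, hA⟩ := frob_iso (Q := quadMinus (n - 1) F a b) (p := p) hD.ND X hl hd hX hlF (e := E.symm e')
    (fun h => he'0 (E.symm.map_eq_zero_iff.1 h)) (by rw [hE', LinearEquiv.apply_symm_apply, he'Q]) (by
      rw [hXv, hTv, LinearEquiv.apply_symm_apply, hTe'])
  have h1 := frob_pomega hD hp hp2 hodd hA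
  rw [coe_quadMinus] at h1
  exact h1

end minus

end Cfsg.Agent.H407.MF
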