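import Cfsg.Agent.H407.OutStep
import Cfsg.Agent.H407.MTor
import Cfsg.Agent.AutOrth.Final

/-!
# A torus element of `PΩ⁻_{2n}(3)`, `n` odd, commuting with a similitude with multiplier `-1` (helper407)

* `model` : `c` even, `r ∣ 3 ^ c + 1`: a nondegenerate form of type `-` in dimension `2c` with an isometry `g` of order `r`
  and `j`, `Q (j v) = - Q v`, `g j = j g`;
* `exists_x` : `x ∈ E Q` of order `r` for `Q = minusForm (n - 1)`, trivial on a hyperbolic plane, with the hypotheses of
  `OutStep.rep`.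
-/

set_option autoImplicit false
set_option linter.unusedSectionVars false
set_option linter.style.haveILetI false

namespace Cfsg.Agent.H407.MOut

open QuadraticMap Module
open Cfsg.Agent.LieClassical.OrthCore Cfsg.Agent.LieClassical.OrthForms
open Cfsg.Agent.H377

universe v

variable {F : Type v} [Field F] [Finite F]

theorem model (hF : Nat.card F = 3) {c r : ℕ} (hc : 1 ≤ c) (hce : Even c) (hr : r ∣ 3 ^ c + 1) :
    ∃ (Q : QuadraticForm F (Fin (2 * c) → F)) (g j : Module.End F (Fin (2 * c) → F)),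
      Nondeg Q ∧ HasSign (⇑Q) c (-1) ∧ (∀ v, Q (g v) = Q v) ∧ orderOf g = r ∧ (∀ v, Q (j v) = -Q v) ∧
        (∀ v, g (j v) = j (g v)) ∧ ∀ v, j (j v) = -v := by
  obtain ⟨p, _⟩ := CharP.exists F
  haveI : Fact p.Prime := ⟨CharP.char_is_prime F p⟩
  haveI : NeZero c := ⟨by omega⟩
  have hcK : Nat.card (FiniteField.Extension F p c) = 3 ^ c := by rw [FiniteField.natCard_extension, hF]
  have hfr : finrank F (FiniteField.Extension F p c) = c := FiniteField.finrank_extension ..
  set K := FiniteField.Extension F p c with hK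
  have : Module.Finite F K := Module.Finite.of_finite
  obtain ⟨hN, Q1, g1, hQ1, hs1, hg1, ho1⟩ := elt_ell (F := K) (N := r) (by rwa [hcK])
  -- a square root of `-1`
  obtain ⟨i, hi⟩ : ∃ i : K, i * i = -1 := by
    letI := Fintype.ofFinite K
    have h1 : IsSquare (-1 : K) := by
      rw [FiniteField.isSquare_neg_one_iff, ← Nat.card_eq_fintype_card, hcK]
      obtain ⟨m, rfl⟩ := hce
      rw [← two_mul, pow_mul, Nat.pow_mod]
      norm_num
    obtain ⟨i, hi⟩ := h1
    exact ⟨i, hi.symm⟩
  let Q' : QuadraticForm F (Fin (2 * 1) → K) := (Algebra.trace F K).compQuadraticMap' Q1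
  have hQ' : ∀ v, Q' v = Algebra.trace F K (Q1 v) := fun v => rfl
  have hfin : finrank F (Fin (2 * 1) → K) = 2 * c := by
    rw [Module.finrank_pi_fintype, Finset.sum_const, Finset.card_univ, Fintype.card_fin, smul_eq_mul, hfr]
  have hnd : Nondeg Q' := by
    intro x hx
    apply hQ1
    intro y
    have h1 : ∀ c : K, Algebra.trace F K (c * polar Q1 x y) = 0 := by
      intro c
      have h2 := hx (c • y)
      simp only [polar, hQ'] at h2
      rw [← map_sub, ← map_sub] at h2
      have h3 : polar Q1 x (c • y) = c * polar Q1 x y := by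
        rw [polar_smul_right, smul_eq_mul]
      rw [← h3]
      exact h2
    by_contra hne
    obtain ⟨t, ht⟩ := Algebra.trace_surjective F K 1
    have h5 := h1 (t * (polar Q1 x y)⁻¹)
    rw [mul_assoc, inv_mul_cancel₀ hne, mul_one, ht] at h5
    exact one_ne_zero h5
  have hs : HasSign (⇑Q') c (-1) := by
    have h1 := hs1.res (F := F) (K := K)
    rw [hfr, mul_one c] at h1
    exact h1
  let g' : Module.End F (Fin (2 * 1) → K) := g1.restrictScalars F
  let j' : Module.End F (Fin (2 * 1) → K) := (i • (LinearMap.id : (Fin (2 * 1) → K) →ₗ[K] _)).restrictScalars F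
  have hj' : ∀ v, j' v = i • v := fun v => rfl
  have hg' : ∀ v, g' v = g1 v := fun v => rfl
  have hog : orderOf g' = r := by rw [orderOf_restrictScalars, ho1]
  let e : (Fin (2 * 1) → K) ≃ₗ[F] (Fin (2 * c) → F) := (Module.finBasisOfFinrankEq F _ hfin).equivFun
  refine ⟨Q'.comp (e.symm : _ →ₗ[F] _), e.conj g', e.conj j', ?_, ?_, ?_, ?_, ?_, ?_, ?_⟩
  · intro x hx
    have h1 : e.symm x = 0 := by
      apply hnd
      intro y
      have := hx (e y)
      change Q' (e.symm (x + e y)) - Q' (e.symm x) - Q' (e.symm (e y)) = 0 at this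
      rw [map_add, LinearEquiv.symm_apply_apply] at this
      exact this
    exact (LinearEquiv.map_eq_zero_iff _).1 h1
  · refine hs.congr e.toEquiv fun v => ?_
    change Q' (e.symm (e v)) = Q' v
    rw [LinearEquiv.symm_apply_apply]
  · intro v
    change Q' (e.symm (e (g' (e.symm v)))) = Q' (e.symm v)
    rw [LinearEquiv.symm_apply_apply, hg', hQ', hQ', hg1]
  · rw [← hog, orderOf_eq_orderOf_iff]
    intro k
    have h2 : (e.conj g') ^ k = e.conj (g' ^ k) := by
      change (LinearEquiv.conjRingEquiv e g') ^ k = LinearEquiv.conjRingEquiv e (g' ^ k)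
      rw [map_pow]
    rw [h2]
    constructor
    · intro h
      apply e.conj.injective
      rw [h]
      exact (LinearEquiv.conjRingEquiv e).map_one.symm
    · intro h
      rw [h]
      exact (LinearEquiv.conjRingEquiv e).map_one
  · intro v
    change Q' (e.symm (e (j' (e.symm v)))) = -Q' (e.symm v)
    rw [LinearEquiv.symm_apply_apply, hj', hQ', hQ', QuadraticMap.map_smul, hi, neg_smul, one_smul, map_neg]
  · intro v
    change e (g' (e.symm (e (j' (e.symm v))))) = e (j' (e.symm (e (g' (e.symm v)))))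
    rw [LinearEquiv.symm_apply_apply, LinearEquiv.symm_apply_apply, hj', hj', hg', hg', map_smul]
  · intro v
    change e (j' (e.symm (e (j' (e.symm v))))) = -v
    rw [LinearEquiv.symm_apply_apply, hj', hj', smul_smul, hi, neg_smul, one_smul, map_neg,
      LinearEquiv.apply_symm_apply]

/-! ### the element -/

section three

variable {F : Type v} [Field F] [Fintype F]

theorem cases_three (hF : Fintype.card F = 3) (c : F) : c = 0 ∨ c = 1 ∨ c = -1 := by
  by_cases h0 : c = 0
  · exact Or.inl h0
  · right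
    have h1 : c ^ 3 = c := by rw [← hF]; exact FiniteField.pow_card c
    have h2 : c * (c ^ 2 - 1) = 0 := by linear_combination h1
    have h3 : c ^ 2 = 1 := sub_eq_zero.1 ((mul_eq_zero.1 h2).resolve_left h0)
    exact sq_eq_one_iff_of_ne_zero_or h3
where
  sq_eq_one_iff_of_ne_zero_or {c : F} (h : c ^ 2 = 1) : c = 1 ∨ c = -1 := by
    have : (c - 1) * (c + 1) = 0 := by linear_combination h
    rcases mul_eq_zero.1 this with h | h
    · exact Or.inl (sub_eq_zero.1 h)
    · exact Or.inr (eq_neg_of_add_eq_zero_left h)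

theorem ringAut_three (hF : Fintype.card F = 3) (σ : F ≃+* F) : σ = RingEquiv.refl F := by
  ext c
  rcases cases_three hF c with rfl | rfl | rfl
  · rw [map_zero]; rfl
  · rw [map_one]; rfl
  · rw [map_neg, map_one]; rfl

end three

section elt

open Cfsg Cfsg.Agent.LieClassical.OrthTrans Cfsg.Agent.ClassicalGeometry.OrthSemi
  Cfsg.Agent.ClassicalGeometry.OrthAut1 Cfsg.Agent.LieClassical.OmegaReindex Cfsg.Agent.H407.OutStep
  Cfsg.Agent.LieClassical.OrthFinite Cfsg.Agent.ClassicalGeometry.OrthCharTwo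

variable {F : Type v} [Field F] [Fintype F] {n : ℕ} {a b : F}

theorem minusForm_eq (m : ℕ) (a b : F) : minusForm m F a b = quadMinus m F a b :=
  DFunLike.coe_injective (by rw [coe_minusForm, coe_quadMinus])

theorem exists_x (hF : Fintype.card F = 3) (hn : 5 ≤ n) (hodd : Odd n)
    (hab : ∀ z₁ z₂ : F, z₁ ^ 2 + a * z₁ * z₂ + b * z₂ ^ 2 = 0 → z₁ = 0 ∧ z₂ = 0)
    (hG : Good (minusForm (n - 1) F a b)) {r : ℕ} (hr : r.Prime) (hr2 : r ≠ 2) (hrd : r ∣ 3 ^ (n - 1) + 1) :
    ∃ x : ↥(E (minusForm (n - 1) F a b)), orderOf x = r ∧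
      (∀ w, minusForm (n - 1) F a b w ≠ 0 → ∃ (v : (Fin (n - 1) ⊕ Fin (n - 1)) ⊕ Fin 2 → F) (s : F),
        minusForm (n - 1) F a b w = s * s * minusForm (n - 1) F a b v ∧ minusForm (n - 1) F a b v ≠ 0 ∧
          (x : _ ≃ₗ[F] _) v = v) ∧
      ∃ (δ : Gam (minusForm (n - 1) F a b)) (c0 : F), IsSS (minusForm (n - 1) F a b) (RingEquiv.refl F) c0 δ.1 ∧
        δ ∈ cent x ∧ ∀ c : F, c ≠ 0 → IsSquare c ∨ IsSquare (c0⁻¹ * c) := by
  have hFc : Nat.card F = 3 := by rw [Nat.card_eq_fintype_card, hF]
  have hD : Cfsg.Agent.H390.Lift.Data (minusForm (n - 1) F a b) := by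
    rw [minusForm_eq]
    exact Cfsg.Agent.H407.MF.data_minus (F := F) (n := n) (by omega) hab
  obtain ⟨Q1, g, j, hQ1, hs1, hg, hgo, hj, hgj, hjj⟩ := model (F := F) hFc (c := n - 1) (r := r) (by omega)
    (by obtain ⟨k, hk⟩ := hodd; exact ⟨k, by omega⟩) hrd
  let V := (Fin (2 * (n - 1)) → F) × (F × F)
  let Q' : QuadraticForm F V := sumQ Q1 (hypQ F)
  have hQ'v : ∀ v : V, Q' v = Q1 v.1 + v.2.1 * v.2.2 := fun v => rfl
  have hfin : finrank F V = 2 * n := by
    rw [finrank_prod, finrank_fin_fun, finrank_prod, finrank_self]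
    omega
  have hnd : Nondeg Q' := sumQ_nondeg hQ1 hypQ_nondeg
  have hs : HasSign (⇑Q') n (-1) := by
    have h1 := hs1.prod (hasSign_mul (F := F))
    rw [mul_one, show n - 1 + 1 = n by omega] at h1
    exact h1
  obtain ⟨A, hA⟩ := exists_minus (by omega) hfin Q' hnd hs hab
  have hA' : ∀ v, minusForm (n - 1) F a b v = Q' (A v) := fun v => by rw [hA, coe_minusForm]
  let T' : Module.End F V := g.prodMap LinearMap.id
  have hT'v : ∀ v : V, T' v = (g v.1, v.2) := fun v => rfl
  have hT' : ∀ v, Q' (T' v) = Q' v := fun v => by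
    rw [hT'v, hQ'v, hQ'v, hg]
  have hoT' : orderOf T' = r := by
    have h1 := orderOf_prodMap (F := F) g (1 : Module.End F (F × F))
    rw [hgo, orderOf_one, Nat.lcm_one_right] at h1
    exact h1
  let T : Module.End F ((Fin (n - 1) ⊕ Fin (n - 1)) ⊕ Fin 2 → F) := A.symm.conj T'
  have hTv : ∀ v, T v = A.symm (T' (A v)) := fun v => rfl
  have hT : ∀ v, minusForm (n - 1) F a b (T v) = minusForm (n - 1) F a b v := fun v => by
    rw [hA', hA', hTv, LinearEquiv.apply_symm_apply, hT']
  have hoT : orderOf T = r := by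
    rw [← hoT', orderOf_eq_orderOf_iff]
    intro k
    have h2 : T ^ k = A.symm.conj (T' ^ k) := by
      change (LinearEquiv.conjRingEquiv A.symm T') ^ k = LinearEquiv.conjRingEquiv A.symm (T' ^ k)
      rw [map_pow]
    rw [h2]
    constructor
    · intro h
      apply A.symm.conj.injective
      rw [h]
      exact (LinearEquiv.conjRingEquiv A.symm).map_one.symm
    · intro h
      rw [h]
      exact (LinearEquiv.conjRingEquiv A.symm).map_one
  obtain ⟨X, hX, hXv⟩ := Cfsg.Agent.H407.MF.exists_iso hD.ND T hT hr.pos hoT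
  have hXO : X ∈ Omega F ⇑(minusForm (n - 1) F a b) :=
    Cfsg.Agent.H390.Lift.mem_of_odd _ hD.idx (hr.odd_of_ne_two hr2) (by rw [← hX, pow_orderOf_eq_one])
  let x : ↥(E (minusForm (n - 1) F a b)) :=
    ((omegaEquiv (minusForm (n - 1) F a b)).trans (MulEquiv.subgroupCongr hG.commutator_eq_E)) ⟨X, hXO⟩
  have hxv : ∀ v, (x : _ ≃ₗ[F] _) v = T v := fun v => by
    rw [← hXv]
    rfl
  refine ⟨x, ?_, ?_, ?_⟩
  · rw [MulEquiv.orderOf_eq, Subgroup.orderOf_mk, hX]
  · intro w hw
    refine ⟨A.symm (0, (1, minusForm (n - 1) F a b w)), 1, ?_, ?_, ?_⟩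
    · rw [hA' (A.symm _), LinearEquiv.apply_symm_apply, hQ'v]
      change _ = 1 * 1 * (Q1 0 + 1 * minusForm (n - 1) F a b w)
      rw [QuadraticMap.map_zero]
      ring
    · rw [hA' (A.symm _), LinearEquiv.apply_symm_apply, hQ'v]
      change Q1 0 + 1 * minusForm (n - 1) F a b w ≠ 0
      rw [QuadraticMap.map_zero, zero_add, one_mul]
      exact hw
    · rw [hxv, hTv, LinearEquiv.apply_symm_apply, hT'v]
      change A.symm (g 0, _) = _
      rw [map_zero]
  · -- the similitude
    let d' : V → V := fun v => (j v.1, (-v.2.2, v.2.1))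
    have hd'2 : ∀ v, d' (d' v) = -v := by
      intro v
      refine Prod.ext ?_ (Prod.ext ?_ ?_)
      · exact hjj v.1
      · rfl
      · rfl
    have hd'neg : ∀ v, d' (-v) = -d' v := by
      intro v
      refine Prod.ext ?_ (Prod.ext ?_ ?_)
      · exact map_neg j v.1
      · rfl
      · rfl
    let δ : Equiv.Perm ((Fin (n - 1) ⊕ Fin (n - 1)) ⊕ Fin 2 → F) :=
      { toFun := fun v => A.symm (d' (A v))
        invFun := fun v => A.symm (-d' (A v))
        left_inv := fun v => by
          change A.symm (-d' (A (A.symm (d' (A v))))) = v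
          rw [LinearEquiv.apply_symm_apply, hd'2, neg_neg, LinearEquiv.symm_apply_apply]
        right_inv := fun v => by
          change A.symm (d' (A (A.symm (-d' (A v))))) = v
          rw [LinearEquiv.apply_symm_apply, hd'neg, hd'2, neg_neg, LinearEquiv.symm_apply_apply] }
    have hδv : ∀ v, δ v = A.symm (d' (A v)) := fun v => rfl
    have hSS : IsSS (minusForm (n - 1) F a b) (RingEquiv.refl F) (-1) δ := by
      refine ⟨neg_ne_zero.2 one_ne_zero, fun u v => ?_, fun c v => ?_, fun v => ?_⟩
      · rw [hδv, hδv, hδv, ← map_add, map_add A]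
        congr 1
        refine Prod.ext ?_ (Prod.ext ?_ ?_)
        · exact map_add j _ _
        · change -((A u).2.2 + (A v).2.2) = -(A u).2.2 + -(A v).2.2
          ring
        · rfl
      · have e1 : A (c • v) = c • A v := map_smul A c v
        have e2 : c • A.symm (d' (A v)) = A.symm (c • d' (A v)) := (map_smul A.symm c _).symm
        rw [hδv, hδv, e1]
        change _ = c • A.symm (d' (A v))
        rw [e2]
        congr 1
        refine Prod.ext ?_ (Prod.ext ?_ ?_)
        · exact map_smul j _ _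
        · change -(c * (A v).2.2) = c * -(A v).2.2
          ring
        · rfl
      · rw [hA', hδv, LinearEquiv.apply_symm_apply, hQ'v]
        change Q1 (j (A v).1) + -(A v).2.2 * (A v).2.1 = -1 * minusForm (n - 1) F a b v
        rw [hj, hA', hQ'v]
        ring
    refine ⟨⟨δ, _, _, hSS⟩, -1, hSS, ?_, ?_⟩
    · intro v
      change δ ((x : _ ≃ₗ[F] _) v) = (x : _ ≃ₗ[F] _) (δ v)
      rw [hxv, hxv, hδv, hδv, hTv, hTv, LinearEquiv.apply_symm_apply, LinearEquiv.apply_symm_apply]
      congr 1
      refine Prod.ext ?_ rfl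
      exact (hgj _).symm
    · intro c hc
      rcases cases_three hF c with h | h | h
      · exact absurd h hc
      · left
        rw [h]
        exact IsSquare.one
      · right
        rw [h, inv_mul_cancel₀ (neg_ne_zero.2 one_ne_zero)]
        exact IsSquare.one

end elt

end Cfsg.Agent.H407.MOut
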