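import Cfsg.Agent.H407.MKstep
import Cfsg.Agent.H407.MOut
import Cfsg.Agent.H45.Uni.U
import Cfsg.Agent.H425.EmbOdd
import Cfsg.Agent.H425.OutK

/-!
# `K = 1` and `G = S` for `L = PΩ⁻_{2n}(3)`, `n ≥ 5` odd (helper407)

* `K_bot` : `Red G K S`, `S ≅ L`, the element orders of `G` are orders of elements of `L`: `K = 1`;
* `S_top` : `S = G / K`;
* `final` : `G ≅ L`.
-/

set_option autoImplicit false
set_option linter.unusedSectionVars false

namespace Cfsg.Agent.H407.MF

open Cfsg Subgroup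
open Cfsg.Agent.H436 Cfsg.Agent.H425.Fin Cfsg.Agent.H425.Chr Cfsg.Agent.H420.QR
open Cfsg.Agent.LieClassical.OrthForms

universe u v

variable {F : Type v} [Field F] [Fintype F] {n : ℕ} {a b : F}

section K

variable {G : Type u} [Group G] [Finite G] {K : Subgroup G} [K.Normal] {S : Subgroup (G ⧸ K)} [S.Normal]

/-- **`K = 1`.** -/
theorem K_bot (hF : Fintype.card F = 3) (hn : 5 ≤ n) (hodd : Odd n)
    (hab : ∀ z₁ z₂ : F, z₁ ^ 2 + a * z₁ * z₂ + b * z₂ ^ 2 = 0 → z₁ = 0 ∧ z₂ = 0) (R : Red G K S)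
    (e : S ≃* POmega F (quadFormMinus (n - 1) F a b))
    (hω : ∀ g : G, ∃ x : POmega F (quadFormMinus (n - 1) F a b), orderOf x = orderOf g) : K = ⊥ := by
  by_contra hK1
  have hsimp := R.simple
  have hs : IsSimpleGroup (POmega F (quadFormMinus (n - 1) F a b)) := MulEquiv.isSimpleGroup e.symm
  obtain ⟨D, hD, l, hl, hDK, hDne, hcomm, hpow⟩ := exists_top K R.solv hK1
  set V : Subgroup (G ⧸ D) := K.map (QuotientGroup.mk' D) with hV
  have hVn : V.Normal := Subgroup.Normal.map inferInstance _ (QuotientGroup.mk'_surjective D)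
  have hVc : ∀ x ∈ V, ∀ y ∈ V, x * y = y * x := by
    rintro _ ⟨x, hx, rfl⟩ _ ⟨y, hy, rfl⟩
    have h1 := (QuotientGroup.eq_one_iff (N := D) _).2 (hcomm x hx y hy)
    change (QuotientGroup.mk' D) (x * y * x⁻¹ * y⁻¹) = 1 at h1
    rw [map_mul, map_mul, map_mul, map_inv, map_inv] at h1
    exact mul_inv_eq_iff_eq_mul.1 (mul_inv_eq_one.1 h1)
  have hVl : ∀ x ∈ V, x ^ l = 1 := by
    rintro _ ⟨x, hx, rfl⟩
    rw [← map_pow]
    exact (QuotientGroup.eq_one_iff (N := D) _).2 (hpow x hx)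
  have hV1 : V ≠ ⊥ := by
    intro h
    apply hDne
    refine le_antisymm hDK fun x hx => ?_
    have h1 : QuotientGroup.mk' D x ∈ V := ⟨x, hx, rfl⟩
    rw [h, Subgroup.mem_bot] at h1
    exact (QuotientGroup.eq_one_iff x).1 h1
  let q : (G ⧸ D) ⧸ V ≃* G ⧸ K := QuotientGroup.quotientQuotientEquivQuotient D K hDK
  let φ : POmega F (quadFormMinus (n - 1) F a b) →* (G ⧸ D) ⧸ V :=
    q.symm.toMonoidHom.comp (S.subtype.comp e.symm.toMonoidHom)
  have hφ : Function.Injective φ := q.symm.injective.comp (S.subtype_injective.comp e.symm.injective)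
  have hω' : ∀ g : G ⧸ D, ∃ x : POmega F (quadFormMinus (n - 1) F a b), orderOf x = orderOf g := by
    intro g
    obtain ⟨g, rfl⟩ := QuotientGroup.mk'_surjective D g
    obtain ⟨y, hy⟩ := exists_of_dvd (G := G) (orderOf_map_dvd (QuotientGroup.mk' D) g)
    rw [← hy]
    exact hω y
  by_cases hl3 : l = 3
  · subst hl3
    obtain ⟨r, hr⟩ := exists_prim (q := 3) (e := 2 * (n - 1)) (by norm_num) (by omega) (by omega)
    have hr2 : r ≠ 2 := by have := hr.odd (by omega); omega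
    have hr3 : r ≠ 3 := fun h => hr.not_dvd (by rw [h])
    have h2 := Cfsg.Agent.H977.Minus.two_ne hF
    obtain ⟨f, hf⟩ := Cfsg.Agent.H425.Emb.exists_emb_minus (F := F) (m := n - 1) h2 (by omega) hab
    have hrd : r ∣ Nat.card (Omega F (quadFormOdd (n - 1) F)) := by
      have h3 := (odd_dvd (n := n - 1) (F := F) Nat.prime_three (by norm_num) hF (by omega) (k := 2 * (n - 1))
        (by omega) hr).2 (Or.inl ⟨by omega, by omega⟩)
      exact h3.trans (Subgroup.card_quotient_dvd_card _)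
    have := Fact.mk hr.prime
    obtain ⟨x, hx⟩ := exists_prime_orderOf_dvd_card' r hrd
    have hfix := Cfsg.Agent.H45.Uni.fixAll.{u, v} (m := n - 1) (p := 3) (Or.inl rfl) (by omega) hF x (by
      rw [hx]
      exact (Nat.coprime_primes hr.prime Nat.prime_three).2 hr3)
    obtain ⟨g, hg⟩ := Cfsg.Agent.H425.KFix.exists_adj_of_fix V Nat.prime_three hr.prime hr3.symm V hV1 hVc hVl
      hVc (φ.comp f) x (by rw [MonoidHom.comp_apply, orderOf_injective φ hφ, orderOf_injective f hf, hx]) hfix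
    obtain ⟨y, hy⟩ := hω' g
    rw [hg] at hy
    refine Cfsg.Agent.H977.Minus.ne_three_mul hF (by omega) hab hr.prime hr2 hr3 (Or.inr ?_) y hy
    rw [Nat.card_eq_fintype_card, hF]
    exact prim_orderOf (by norm_num) hr
  · exact no_top hF hn hodd hab hs V hVc hl hl3 hVl hV1 φ hφ hω'

/-- **`S = G / K`.** -/
theorem S_top (hF : Fintype.card F = 3) (hn : 5 ≤ n) (hodd : Odd n)
    (hab : ∀ z₁ z₂ : F, z₁ ^ 2 + a * z₁ * z₂ + b * z₂ ^ 2 = 0 → z₁ = 0 ∧ z₂ = 0) (R : Red G K S)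
    (e : S ≃* POmega F (quadFormMinus (n - 1) F a b))
    (hω : ∀ g : G, ∃ x : POmega F (quadFormMinus (n - 1) F a b), orderOf x = orderOf g) : S = ⊤ := by
  have hG := Cfsg.Agent.ClassicalGeometry.OrthSemiForms.good_minus (F := F) (m := n - 1) (by omega) a b hab
  obtain ⟨r, hr⟩ := exists_prim (q := 3) (e := 2 * (n - 1)) (by norm_num) (by omega) (by omega)
  have hr2 : r ≠ 2 := by have := hr.odd (by omega); omega
  have hrd : r ∣ 3 ^ (n - 1) + 1 := hr.dvd_add dvd_rfl fun h => by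
    have := Nat.le_of_dvd (by omega) h
    omega
  obtain ⟨x, hx, hfix, hδ⟩ := MOut.exists_x hF hn hodd hab hG hr.prime hr2 hrd
  have hno : ¬ ∃ g : G ⧸ K, orderOf g = 2 * r := by
    rintro ⟨g, hg⟩
    obtain ⟨g, rfl⟩ := QuotientGroup.mk'_surjective K g
    obtain ⟨y, hy⟩ := exists_of_dvd (G := G) (orderOf_map_dvd (QuotientGroup.mk' K) g)
    obtain ⟨z, hz⟩ := hω y
    exact two_nadj hF hn hodd hab hr z (by rw [hz, hy, hg])
  -- the index
  have h8 : S.index ∣ 8 := by
    refine (index_dvd_out inferInstance R.cent (red_center R)).trans ?_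
    have : Fact (Nat.Prime 3) := ⟨Nat.prime_three⟩
    have h := Cfsg.Agent.S2606.result (F := F) (p := 3) (f := 1) (m := n) le_rfl (by rw [hF, pow_one]) (by norm_num)
      (by omega) a b hab
    rw [if_pos ⟨by norm_num, hodd⟩] at h
    obtain ⟨e2⟩ := h
    rw [Cfsg.Agent.H934.OutB.card_out_congr e, Nat.card_congr e2.toEquiv, Nat.card_prod, card_mult,
      DihedralGroup.nat_card]
  have h2 : ∀ g : G ⧸ K, ∃ m, g ^ (2 ^ m) ∈ S := by
    intro g
    refine ⟨3, ?_⟩
    obtain ⟨k, hk⟩ := h8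
    rw [show 2 ^ 3 = S.index * k by omega, pow_mul]
    exact S.pow_mem (S.pow_index_mem g) k
  -- the image in `P Q`
  have hsurj := Cfsg.Agent.AutOrth.Final.surjective_minus (F := F) (m := n - 1) (by omega) hab
  have hxP : orderOf (x : Cfsg.Agent.ClassicalGeometry.OrthAut1.P (minusForm (n - 1) F a b)) = r := by
    have := Fact.mk hr.prime
    refine orderOf_eq_prime ?_ ?_
    · rw [← QuotientGroup.mk_pow, ← hx, pow_orderOf_eq_one]
      rfl
    · intro h
      obtain ⟨c, hc⟩ := Cfsg.Agent.ClassicalGeometry.OrthAut1.center_scalar hG ((QuotientGroup.eq_one_iff x).1 h)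
      obtain ⟨v, s, -, hv, hxv⟩ := hfix _ (Cfsg.Agent.H179.OutMinus.form_v0_ne hab (n - 1))
      have hv0 : v ≠ 0 := by
        rintro rfl
        exact hv (QuadraticMap.map_zero _)
      have hc1 : c = 1 := by
        rw [hc v] at hxv
        have h3 : (c - 1) • v = 0 := by rw [sub_smul, one_smul, hxv, sub_self]
        exact sub_eq_zero.1 ((smul_eq_zero.1 h3).resolve_right hv0)
      have hx1 : x = 1 := by
        apply Subtype.ext
        ext1 w
        rw [hc w, hc1, one_smul]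
        rfl
      rw [hx1, orderOf_one] at hx
      exact hr.prime.one_lt.ne hx
  rw [← coe_minusForm] at e
  exact OutStep.gstep S (e.trans (Cfsg.Agent.ClassicalGeometry.OrthSemiForms.pomegaEquiv hG)) hr.prime hr2 hxP
    (OutStep.rep hG hsurj (MOut.ringAut_three hF) x hfix (Or.inr hδ)) h2 hno

/-- **`G ≅ L`.** -/
theorem final (hF : Fintype.card F = 3) (hn : 5 ≤ n) (hodd : Odd n)
    (hab : ∀ z₁ z₂ : F, z₁ ^ 2 + a * z₁ * z₂ + b * z₂ ^ 2 = 0 → z₁ = 0 ∧ z₂ = 0) (R : Red G K S)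
    (e : Nonempty (S ≃* POmega F (quadFormMinus (n - 1) F a b)))
    (hω : ∀ g : G, ∃ x : POmega F (quadFormMinus (n - 1) F a b), orderOf x = orderOf g) :
    Nonempty (G ≃* POmega F (quadFormMinus (n - 1) F a b)) := by
  obtain ⟨e⟩ := e
  have hS := S_top hF hn hodd hab R e hω
  have hK := K_bot hF hn hodd hab R e hω
  have e1 : G ≃* G ⧸ K := by
    refine MulEquiv.ofBijective (QuotientGroup.mk' K) ⟨?_, QuotientGroup.mk'_surjective K⟩
    rw [← MonoidHom.ker_eq_bot_iff, QuotientGroup.ker_mk', hK]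
  have e2 : S ≃* G ⧸ K := (MulEquiv.subgroupCongr hS).trans Subgroup.topEquiv
  exact ⟨(e1.trans e2.symm).trans e⟩

end K

end Cfsg.Agent.H407.MF
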