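import Cfsg.Agent.H407.MTor
import Cfsg.Agent.H23.FreeAct
import Cfsg.Agent.H977.MinusL

/-!
# The top chief factor of the radical, `PΩ⁻_{2n}(3)`, `n` odd (helper407)

* `exists_dvd_of_order` : an endomorphism of order `l ^ b`: `l ^ b ∣ q ^ d - 1`, `1 ≤ d ≤ dim`;
* `exists_c` : `l ∣ 3 ^ (n-1) + 1` odd, an element of order `l ^ b`: `l ^ b ∣ 3 ^ c + 1`, `1 ≤ c ≤ n - 1`;
* `no_top` : no extension of an elementary abelian `l`-group, `l ≠ 3`, by `PΩ⁻_{2n}(3)` with the same spectrum.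
-/

set_option autoImplicit false
set_option linter.unusedSectionVars false

namespace Cfsg.Agent.H407.MF

open Cfsg QuadraticMap LinearMap Module Subgroup
open Cfsg.Agent.ClassicalGeometry.OrthCharTwo Cfsg.Agent.H425.MinusBd Cfsg.Agent.H425.Fix Cfsg.Agent.H150
open Cfsg.Agent.H436 Cfsg.Agent.H425.Fin Cfsg.Agent.H425.Chr
open Cfsg.Agent.LieClassical.OrthCore Cfsg.Agent.LieClassical.OrthCount Cfsg.Agent.LieClassical.OmegaReindex

universe u v

section free

variable {F V : Type*} [Field F] [Finite F] [AddCommGroup V] [Module F V] [FiniteDimensional F V]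

theorem exists_dvd_of_order (T : Module.End F V) {l b : ℕ} (hl : l.Prime) (hb : 0 < b) (hT : orderOf T = l ^ b)
    (hlF : (l : F) ≠ 0) : ∃ d, 1 ≤ d ∧ d ≤ finrank F V ∧ l ^ b ∣ Nat.card F ^ d - 1 := by
  classical
  have : Finite V := Module.finite_of_finite F
  set z := T ^ (l ^ (b - 1)) with hz
  have hTo : T ^ (l ^ b) = 1 := by rw [← hT, pow_orderOf_eq_one]
  have hzl : z ^ l = 1 := by
    rw [hz, ← pow_mul, ← pow_succ, show b - 1 + 1 = b by omega, hTo]
  have hz1 : z ≠ 1 := by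
    intro h
    have h1 := orderOf_dvd_of_pow_eq_one h
    rw [hT] at h1
    have h2 := (Nat.pow_dvd_pow_iff_le_right hl.one_lt).1 h1
    omega
  set U := LinearMap.range (z - 1) with hU
  have hU0 : U ≠ ⊥ := by
    intro h
    rw [LinearMap.range_eq_bot, sub_eq_zero] at h
    exact hz1 h
  have hUT : ∀ u ∈ U, T u ∈ U := by
    rintro _ ⟨v, rfl⟩
    refine ⟨T v, ?_⟩
    change z (T v) - T v = T (z v - v)
    rw [map_sub]
    congr 1
    have h1 : z * T = T * z := by rw [hz, ← pow_succ, ← pow_succ']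
    exact DFunLike.congr_fun h1 v
  have hpos : 0 < l ^ b := pow_pos hl.pos b
  have hinj : Function.Injective T := by
    intro v w hvw
    have h1 : ∀ x, (T ^ (l ^ b - 1)) (T x) = x := fun x => by
      have h2 : T ^ (l ^ b - 1) * T = 1 := by rw [← pow_succ, show l ^ b - 1 + 1 = l ^ b by omega, hTo]
      exact DFunLike.congr_fun h2 x
    rw [← h1 v, ← h1 w, hvw]
  -- the permutation of the nonzero vectors of `U`
  let α := {v : V // v ∈ U ∧ v ≠ 0}
  let f0 : α → α := fun v => ⟨T v.1, hUT v.1 v.2.1, fun h => v.2.2 (hinj (by rw [h, map_zero]))⟩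
  have hf0 : Function.Injective f0 := fun v w h => Subtype.ext (hinj (congrArg Subtype.val h))
  let f : Equiv.Perm α := Equiv.ofBijective f0 (Finite.injective_iff_bijective.1 hf0)
  have hfj : ∀ (j : ℕ) (x : α), (((f ^ j) x : α) : V) = (T ^ j) x.1 := by
    intro j
    induction j with
    | zero => intro x; rfl
    | succ j ih =>
      intro x
      rw [pow_succ', pow_succ', Equiv.Perm.mul_apply, Module.End.mul_apply, ← ih]
      rfl
  have hfl : f ^ (l ^ b) = 1 := by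
    ext x
    rw [hfj, hTo]
    rfl
  have hfree : ∀ j, 0 < j → j < l ^ b → ∀ x : α, (f ^ j) x ≠ x := by
    intro j hj hjb x hx
    obtain ⟨i, hi, hgcd⟩ := (Nat.dvd_prime_pow hl).1 (Nat.gcd_dvd_right j (l ^ b))
    have hib : i < b := by
      rcases Nat.lt_or_ge i b with h | h
      · exact h
      · exfalso
        have h1 : i = b := le_antisymm hi h
        rw [h1] at hgcd
        have h2 := Nat.le_of_dvd hj (Nat.gcd_dvd_left j (l ^ b))
        rw [hgcd] at h2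
        omega
    have h1 : f ^ (l ^ i) = (f ^ j) ^ (Nat.gcdA j (l ^ b)) := by
      have h2 := Nat.gcd_eq_gcd_ab j (l ^ b)
      rw [hgcd] at h2
      rw [← zpow_natCast f (l ^ i), h2, zpow_add, zpow_mul, zpow_mul, zpow_natCast, zpow_natCast, hfl,
        one_zpow, mul_one]
    have h2 : f ^ (l ^ (b - 1)) = (f ^ j) ^ (Nat.gcdA j (l ^ b) * ((l ^ (b - 1 - i) : ℕ) : ℤ)) := by
      rw [zpow_mul, ← h1, zpow_natCast, ← pow_mul, ← pow_add, show i + (b - 1 - i) = b - 1 by omega]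
    have h3 : (f ^ (l ^ (b - 1))) x = x := by
      rw [h2]
      have h4 : (f ^ j) ∈ MulAction.stabilizer (Equiv.Perm α) x := hx
      exact Subgroup.zpow_mem _ h4 _
    have h4 := congrArg Subtype.val h3
    rw [hfj] at h4
    exact x.2.2 (range_fix hlF hzl x.1 x.2.1 h4)
  have hne : Nonempty α := by
    obtain ⟨u, hu, hu0⟩ := (Submodule.ne_bot_iff U).1 hU0
    exact ⟨⟨u, hu, hu0⟩⟩
  have hof : orderOf f = l ^ b := by
    rw [orderOf_eq_iff hpos]
    refine ⟨hfl, fun j hj hj0 h => ?_⟩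
    obtain ⟨x⟩ := hne
    exact hfree j hj0 hj x (by rw [h]; rfl)
  have h1 : Nat.card (zpowers f) ∣ Nat.card α := by
    refine Cfsg.Agent.H23.FreeAct.card_dvd_of_free (D := zpowers f) (α := α) ?_
    rintro ⟨d, hd⟩ x hx
    obtain ⟨j, hj, rfl⟩ := (mem_zpowers_iff_mem_range_orderOf).1 hd |> fun h => by
      simpa using h
    rcases Nat.eq_zero_or_pos j with rfl | hj0
    · exact Subtype.ext (pow_zero f)
    · exact absurd hx (hfree j hj0 (by rw [← hof]; exact hj) x)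
  rw [Nat.card_zpowers, hof] at h1
  refine ⟨finrank F U, ?_, Submodule.finrank_le U, ?_⟩
  · rcases Nat.eq_zero_or_pos (finrank F U) with h | h
    · exact absurd (Submodule.finrank_eq_zero.1 h) hU0
    · exact h
  · have h2 : Nat.card α = Nat.card F ^ finrank F U - 1 := by
      have e : α ≃ {u : U // u ≠ 0} :=
        { toFun := fun v => ⟨⟨v.1, v.2.1⟩, fun h => v.2.2 (congrArg Subtype.val h)⟩
          invFun := fun v => ⟨v.1.1, v.1.2, fun h => v.2 (Subtype.ext h)⟩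
          left_inv := fun v => rfl
          right_inv := fun v => rfl }
      have := Fintype.ofFinite U
      rw [Nat.card_congr e, Nat.card_eq_fintype_card, Fintype.card_subtype_compl, Fintype.card_subtype_eq,
        ← Nat.card_eq_fintype_card, Module.natCard_eq_pow_finrank (K := F) (V := U)]
    rwa [h2] at h1

end free

/-! ### arithmetic -/

theorem pow_dvd_add {l b c : ℕ} (hl : l.Prime) (h : l ^ b ∣ 3 ^ (2 * c) - 1)
    (h1 : ¬ l ∣ 3 ^ c - 1) : l ^ b ∣ 3 ^ c + 1 := by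
  have h2 : 3 ^ (2 * c) - 1 = (3 ^ c + 1) * (3 ^ c - 1) := by
    rw [mul_comm 2 c, pow_mul]
    exact Nat.sq_sub_sq (3 ^ c) 1
  rw [h2] at h
  exact (Nat.Coprime.pow_left b ((Nat.Prime.coprime_iff_not_dvd hl).2 h1)).dvd_of_dvd_mul_right h

theorem exists_c {l b n d : ℕ} (hl : l.Prime) (hl2 : l ≠ 2) (hb : 0 < b) (hn : 2 ≤ n)
    (hln : l ∣ 3 ^ (n - 1) + 1) (hd1 : 1 ≤ d) (hd : d ≤ 2 * n) (h : l ^ b ∣ 3 ^ d - 1) :
    ∃ c, 1 ≤ c ∧ c ≤ n - 1 ∧ l ^ b ∣ 3 ^ c + 1 := by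
  have hdvd : ∀ m : ℕ, l ^ b ∣ 3 ^ m - 1 ↔ orderOf ((3 : ℕ) : ZMod (l ^ b)) ∣ m := by
    intro m
    rw [orderOf_dvd_iff_pow_eq_one, ← Nat.cast_pow, ← Nat.cast_one (R := ZMod (l ^ b)), eq_comm,
      ZMod.natCast_eq_natCast_iff, Nat.modEq_iff_dvd' (Nat.one_le_pow _ _ (by norm_num))]
  have hdvd1 : ∀ m : ℕ, l ∣ 3 ^ m - 1 ↔ orderOf ((3 : ℕ) : ZMod l) ∣ m := by
    intro m
    rw [orderOf_dvd_iff_pow_eq_one, ← Nat.cast_pow, ← Nat.cast_one (R := ZMod l), eq_comm,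
      ZMod.natCast_eq_natCast_iff, Nat.modEq_iff_dvd' (Nat.one_le_pow _ _ (by norm_num))]
  set D := orderOf ((3 : ℕ) : ZMod (l ^ b)) with hD
  set e := orderOf ((3 : ℕ) : ZMod l) with he
  have hDd : D ∣ d := (hdvd d).1 h
  have hD1 : l ^ b ∣ 3 ^ D - 1 := (hdvd D).2 dvd_rfl
  have heD : e ∣ D := (hdvd1 D).1 ((dvd_pow_self l hb.ne').trans hD1)
  have hD0 : 0 < D := Nat.pos_of_ne_zero fun h0 => by
    rw [h0, zero_dvd_iff] at hDd
    omega
  have hnot : ¬ (l ∣ 3 ^ (n - 1) - 1) := by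
    intro h1
    have h2 : l ∣ (3 ^ (n - 1) + 1) - (3 ^ (n - 1) - 1) := Nat.dvd_sub hln h1
    have h3 : 1 ≤ 3 ^ (n - 1) := Nat.one_le_pow _ _ (by norm_num)
    have h4 : (3 ^ (n - 1) + 1) - (3 ^ (n - 1) - 1) = 2 := by omega
    rw [h4] at h2
    exact hl2 ((Nat.prime_dvd_prime_iff_eq hl Nat.prime_two).1 h2)
  have he2 : e ∣ 2 * (n - 1) := by
    rw [← hdvd1]
    have h2 : 3 ^ (2 * (n - 1)) - 1 = (3 ^ (n - 1) + 1) * (3 ^ (n - 1) - 1) := by
      rw [mul_comm 2 (n - 1), pow_mul]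
      exact Nat.sq_sub_sq (3 ^ (n - 1)) 1
    rw [h2]
    exact hln.mul_right _
  have heven : 2 ∣ e := by
    by_contra hodd
    apply hnot
    rw [hdvd1]
    exact ((Nat.Prime.coprime_iff_not_dvd Nat.prime_two).2 hodd).symm.dvd_of_dvd_mul_left he2
  obtain ⟨c, hc⟩ := heven.trans heD
  have hcl : ¬ l ∣ 3 ^ c - 1 := by
    intro h1
    -- then `l ^ b ∣ 3 ^ c - 1`
    have h2 : l ^ b ∣ 3 ^ (2 * c) - 1 := by rw [← hc]; exact hD1
    have h3 : 3 ^ (2 * c) - 1 = (3 ^ c + 1) * (3 ^ c - 1) := by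
      rw [mul_comm 2 c, pow_mul]
      exact Nat.sq_sub_sq (3 ^ c) 1
    have h4 : ¬ l ∣ 3 ^ c + 1 := by
      intro h5
      have h6 : l ∣ (3 ^ c + 1) - (3 ^ c - 1) := Nat.dvd_sub h5 h1
      have h7 : 1 ≤ 3 ^ c := Nat.one_le_pow _ _ (by norm_num)
      have h8 : (3 ^ c + 1) - (3 ^ c - 1) = 2 := by omega
      rw [h8] at h6
      exact hl2 ((Nat.prime_dvd_prime_iff_eq hl Nat.prime_two).1 h6)
    rw [h3] at h2
    have h5 : l ^ b ∣ 3 ^ c - 1 :=
      (Nat.Coprime.pow_left b ((Nat.Prime.coprime_iff_not_dvd hl).2 h4)).dvd_of_dvd_mul_left h2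
    have h6 := (hdvd c).1 h5
    have h7 := Nat.le_of_dvd (by omega) h6
    omega
  have hc1 : l ^ b ∣ 3 ^ c + 1 := pow_dvd_add hl (by rw [← hc]; exact hD1) hcl
  have hDn : D ≤ 2 * n := (Nat.le_of_dvd (by omega) hDd).trans hd
  refine ⟨c, by omega, ?_, hc1⟩
  have hcn : c ≠ n := by
    rintro rfl
    have h1 : l ∣ 3 ^ c + 1 := (dvd_pow_self l hb.ne').trans hc1
    have h2 : l ∣ 3 * (3 ^ (c - 1) + 1) := hln.mul_left 3
    have h3 : 3 * (3 ^ (c - 1) + 1) = 3 ^ c + 3 := by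
      rw [mul_add, ← pow_succ', show c - 1 + 1 = c by omega]
    have h4 : l ∣ 3 * (3 ^ (c - 1) + 1) - (3 ^ c + 1) := Nat.dvd_sub h2 h1
    rw [h3, show 3 ^ c + 3 - (3 ^ c + 1) = 2 by omega] at h4
    exact hl2 ((Nat.prime_dvd_prime_iff_eq hl Nat.prime_two).1 h4)
  omega

/-! ### the spectrum of `PΩ⁻_{2n}(3)` -/

section minus

variable {F : Type v} [Field F] [Fintype F] {n : ℕ} {a b : F}

theorem prim_self {l : ℕ} (hl : l.Prime) (hl3 : l ≠ 3) : Prim 3 (orderOf ((3 : ℕ) : ZMod l)) l := by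
  refine ⟨hl, fun m => ?_, fun h => hl3 ((Nat.prime_dvd_prime_iff_eq hl Nat.prime_three).1 h)⟩
  rw [orderOf_dvd_iff_pow_eq_one, ← Nat.cast_pow, ← Nat.cast_one (R := ZMod l), eq_comm (a := ((3 ^ m : ℕ) : ZMod l)),
    ZMod.natCast_eq_natCast_iff, Nat.modEq_iff_dvd' (Nat.one_le_pow _ _ (by norm_num))]

theorem three_le_of_prim {l k : ℕ} (hl2 : l ≠ 2) (h : Prim 3 k l) : 3 ≤ k := by
  by_contra hk
  have h1 : k ∣ 2 ∨ k = 0 := by
    have : k = 0 ∨ k = 1 ∨ k = 2 := by omega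
    rcases this with rfl | rfl | rfl
    · exact Or.inr rfl
    · exact Or.inl (by norm_num)
    · exact Or.inl dvd_rfl
  rcases h1 with h1 | rfl
  · have h2 := (h.dvd_iff 2).2 h1
    norm_num at h2
    have h3 : l ∣ 2 ^ 3 := by norm_num; exact h2
    exact hl2 ((Nat.prime_dvd_prime_iff_eq h.prime Nat.prime_two).1 (h.prime.dvd_of_dvd_pow h3))
  · have : Fact l.Prime := ⟨h.prime⟩
    have h2 : l ∣ 3 ^ (l - 1) - 1 := by
      have h3 : (3 : ℕ).Coprime l := ((Nat.Prime.coprime_iff_not_dvd h.prime).2 h.not_dvd).symm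
      have h4 := Nat.ModEq.pow_totient h3
      rw [Nat.totient_prime h.prime] at h4
      exact (Nat.modEq_iff_dvd' (Nat.one_le_pow _ _ (by norm_num))).1 h4.symm
    have h3 := (h.dvd_iff _).1 h2
    rw [zero_dvd_iff] at h3
    have := h.prime.two_le
    omega

/-- neighbours of `R_{2m}`, `m = n, n - 1` -/
theorem adj_cls (hF : Fintype.card F = 3) (hn : 5 ≤ n)
    (hab : ∀ z₁ z₂ : F, z₁ ^ 2 + a * z₁ * z₂ + b * z₂ ^ 2 = 0 → z₁ = 0 ∧ z₂ = 0)
    {l s m : ℕ} (hl : l.Prime) (hl2 : l ≠ 2) (hl3 : l ≠ 3) (hm : m = n ∨ m = n - 1) (hs : Prim 3 (2 * m) s)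
    (h : ∃ x : POmega F (quadFormMinus (n - 1) F a b), orderOf x = l * s) : l ∣ 3 ^ m + 1 := by
  by_contra hno
  have hk := prim_self hl hl3
  set k := orderOf ((3 : ℕ) : ZMod l) with hkdef
  have hk3 := three_le_of_prim hl2 hk
  have hlL : l ∣ Nat.card (POmega F (quadFormMinus (n - 1) F a b)) := by
    obtain ⟨x, hx⟩ := h
    exact (Dvd.intro _ rfl : l ∣ l * s).trans (hx ▸ orderOf_dvd_natCard x)
  have hok := (minus_dvd Nat.prime_three hF (by omega) hab hk3 hk).1 hlL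
  have key : ¬ (k ∣ 2 * m ∧ ¬ k ∣ m) := fun h1 => hno (hk.dvd_add h1.1 h1.2)
  refine minus_cls Nat.prime_three (by norm_num) hF (by omega) hab hk3 (by omega : 3 ≤ 2 * m) ?_ ?_ ?_ l s hk hs h
  · rintro h1
    apply key
    rw [h1]
    refine ⟨dvd_rfl, fun h2 => ?_⟩
    have := Nat.le_of_dvd (by omega) h2
    omega
  · rcases isEta k with ⟨h1, h2⟩ | ⟨h1, h2⟩
    · rw [h2, eta_even (by omega : 2 * m % 2 = 0)]
      omega
    · rw [h2, eta_even (by omega : 2 * m % 2 = 0)]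
      omega
  · rintro ⟨t, ht, h1 | h1⟩
    · apply key
      refine ⟨⟨t, h1⟩, ?_⟩
      rintro ⟨u, hu⟩
      rw [hu] at h1
      have h2 : k * (2 * u) = k * t := by rw [← h1]; ring
      have h3 := Nat.eq_of_mul_eq_mul_left (by omega) h2
      obtain ⟨w, hw⟩ := ht
      omega
    · obtain ⟨w, hw⟩ := ht
      rcases Nat.eq_zero_or_pos w with rfl | hw0
      · apply key
        have h2 : k = 2 * m := by rw [h1, hw]; ring
        rw [h2]
        refine ⟨dvd_rfl, fun h2 => ?_⟩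
        have := Nat.le_of_dvd (by omega) h2
        omega
      · have h2 : 2 * m * 3 ≤ k := by
          rw [h1]
          exact Nat.mul_le_mul_left _ (by omega)
        omega

theorem dvd_two_of {l n : ℕ} (hn : 1 ≤ n) (h1 : l ∣ 3 ^ (n - 1) + 1) (h2 : l ∣ 3 ^ n + 1) : l ∣ 2 := by
  have h3 : l ∣ 3 * (3 ^ (n - 1) + 1) := h1.mul_left 3
  have h4 : 3 * (3 ^ (n - 1) + 1) = 3 ^ n + 3 := by
    rw [mul_add, ← pow_succ', show n - 1 + 1 = n by omega]
  have h5 : l ∣ 3 * (3 ^ (n - 1) + 1) - (3 ^ n + 1) := Nat.dvd_sub h3 h2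
  rwa [h4, show 3 ^ n + 3 - (3 ^ n + 1) = 2 by omega] at h5

theorem two_nadj (hF : Fintype.card F = 3) (hn : 5 ≤ n) (hodd : Odd n)
    (hab : ∀ z₁ z₂ : F, z₁ ^ 2 + a * z₁ * z₂ + b * z₂ ^ 2 = 0 → z₁ = 0 ∧ z₂ = 0) {r : ℕ}
    (hr : Prim 3 (2 * (n - 1)) r) (g : POmega F (quadFormMinus (n - 1) F a b)) : orderOf g ≠ 2 * r := by
  have hr2 : r ≠ 2 := by
    have := hr.odd (by omega)
    omega
  have hr3 : r ≠ 3 := fun h => hr.not_dvd (by rw [h])
  refine Cfsg.Agent.H977.Minus.ne_two_mul hF (by omega) hodd hab hr.prime hr2 hr3 (Or.inr ⟨?_, ?_⟩) g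
  · rw [Nat.card_eq_fintype_card, hF]
    exact prim_orderOf (by norm_num) hr
  · refine hr.dvd_add dvd_rfl fun h => ?_
    have := Nat.le_of_dvd (by omega) h
    omega

/-- **An element of order `l ^ d`.** -/
theorem exists_c_of_order (hF : Fintype.card F = 3) (hn : 5 ≤ n)
    (hab : ∀ z₁ z₂ : F, z₁ ^ 2 + a * z₁ * z₂ + b * z₂ ^ 2 = 0 → z₁ = 0 ∧ z₂ = 0)
    {l d : ℕ} (hl : l.Prime) (hl2 : l ≠ 2) (hl3 : l ≠ 3) (hd : 0 < d) (hln : l ∣ 3 ^ (n - 1) + 1)
    (h : ∃ x : POmega F (quadFormMinus (n - 1) F a b), orderOf x = l ^ d) :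
    ∃ c, 1 ≤ c ∧ c ≤ n - 1 ∧ l ^ d ∣ 3 ^ c + 1 := by
  have hD := data_minus (F := F) (n := n) (by omega) hab
  have hFc : Nat.card F = 3 := by rw [Nat.card_eq_fintype_card, hF]
  rw [← coe_quadMinus] at h
  obtain ⟨X, hX⟩ := Cfsg.Agent.H390.Lift.exists_isom hD (hl.odd_of_ne_two hl2).pow h
  have hlF : (l : F) ≠ 0 := Cfsg.Agent.H390.natCast_ne_zero hl (by
    rw [hFc]
    exact fun h => hl3 ((Nat.prime_dvd_prime_iff_eq hl Nat.prime_three).1 h))
  have hT : orderOf (lin X) = l ^ d := by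
    rw [← hX, orderOf_eq_orderOf_iff]
    intro k
    constructor
    · intro h1
      refine act_ext fun v => ?_
      rw [← lin_pow, h1, act_one]
      rfl
    · intro h1
      refine LinearMap.ext fun v => ?_
      rw [lin_pow, h1, act_one]
      rfl
  obtain ⟨e, he1, he2, he3⟩ := exists_dvd_of_order (lin X) hl hd hT hlF
  rw [hFc] at he3
  rw [Cfsg.Agent.H977.Minus.finrank_space (F := F) (n := n) (by omega)] at he2
  exact exists_c hl hl2 hd (by omega) hln he1 he2 he3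

end minus

/-- **The top chief factor, `l ≠ 3`.** -/
theorem no_top {F : Type v} [Field F] [Fintype F] (hF : Fintype.card F = 3) {n : ℕ} (hn : 5 ≤ n) (hodd : Odd n)
    {a b : F} (hab : ∀ z₁ z₂ : F, z₁ ^ 2 + a * z₁ * z₂ + b * z₂ ^ 2 = 0 → z₁ = 0 ∧ z₂ = 0)
    (hs : IsSimpleGroup (POmega F (quadFormMinus (n - 1) F a b))) {G : Type u} [Group G] [Finite G]
    (V : Subgroup G) [V.Normal] (hVc : ∀ x ∈ V, ∀ y ∈ V, x * y = y * x) {l : ℕ} (hl : l.Prime) (hl3 : l ≠ 3)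
    (hVl : ∀ x ∈ V, x ^ l = 1) (hV1 : V ≠ ⊥) (φ : POmega F (quadFormMinus (n - 1) F a b) →* G ⧸ V)
    (hφ : Function.Injective φ)
    (hω : ∀ g : G, ∃ x : POmega F (quadFormMinus (n - 1) F a b), orderOf x = orderOf g) : False := by
  have hp3 : CharP F 3 := Cfsg.Agent.H977.Minus.charP_three hF
  have hFc : Nat.card F = 3 := by rw [Nat.card_eq_fintype_card, hF]
  have hfin : Finite (POmega F (quadFormMinus (n - 1) F a b)) := inferInstance
  obtain ⟨r, hr⟩ := exists_prim (q := 3) (e := 2 * (n - 1)) (by norm_num) (by omega) (by omega)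
  obtain ⟨s, hsp⟩ := exists_prim (q := 3) (e := 2 * n) (by norm_num) (by omega) (by omega)
  have hrs : r ≠ s := by
    rintro rfl
    have := hr.unique hsp
    omega
  have hr2 : r ≠ 2 := by have := hr.odd (by omega); omega
  have hs2 : s ≠ 2 := by have := hsp.odd (by omega); omega
  have hr3 : r ≠ 3 := fun h => hr.not_dvd (by rw [h])
  have hs3 : s ≠ 3 := fun h => hsp.not_dvd (by rw [h])
  have hω' : ∀ m, (∃ g : G, orderOf g = m) → ∃ x : POmega F (quadFormMinus (n - 1) F a b), orderOf x = m := by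
    rintro m ⟨g, rfl⟩
    exact hω g
  -- consequences of adjacency to `r`
  have hadj : (∃ x : POmega F (quadFormMinus (n - 1) F a b), orderOf x = l * r) → l ≠ r →
      l ≠ 2 ∧ l ∣ 3 ^ (n - 1) + 1 := by
    rintro hx _
    have h2 : l ≠ 2 := by
      rintro rfl
      obtain ⟨x, hx⟩ := hx
      exact two_nadj hF hn hodd hab hr x hx
    exact ⟨h2, adj_cls hF hn hab hl h2 hl3 (Or.inr rfl) hr hx⟩
  rcases dich hVc hl hVl hV1 φ hφ with h | h
  · -- trivial action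
    have hr' : l ≠ r → ∃ x : POmega F (quadFormMinus (n - 1) F a b), orderOf x = l * r := by
      intro hlr
      have := Fact.mk hr.prime
      obtain ⟨x, hx⟩ := exists_prime_orderOf_dvd_card' r
        ((minus_dvd (n := n) Nat.prime_three hF (by omega) hab (k := 2 * (n - 1)) (by omega) hr).2 (Or.inl ⟨by omega, by omega⟩))
      have h1 := h x (by rw [hx]; exact hr.prime) (by rw [hx]; exact hlr)
      rw [hx] at h1
      exact hω' _ h1
    have hs' : l ≠ s → ∃ x : POmega F (quadFormMinus (n - 1) F a b), orderOf x = l * s := by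
      intro hls
      have := Fact.mk hsp.prime
      obtain ⟨x, hx⟩ := exists_prime_orderOf_dvd_card' s
        ((minus_dvd (n := n) Nat.prime_three hF (by omega) hab (k := 2 * n) (by omega) hsp).2 (Or.inl ⟨by omega, by omega⟩))
      have h1 := h x (by rw [hx]; exact hsp.prime) (by rw [hx]; exact hls)
      rw [hx] at h1
      exact hω' _ h1
    have hrd : r ∣ 3 ^ (n - 1) + 1 := by
      refine hr.dvd_add dvd_rfl fun h => ?_
      have := Nat.le_of_dvd (by omega) h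
      omega
    have hsd : s ∣ 3 ^ n + 1 := by
      refine hsp.dvd_add dvd_rfl fun h => ?_
      have := Nat.le_of_dvd (by omega) h
      omega
    have fin : ∀ t : ℕ, t.Prime → t ≠ 2 → t ∣ 3 ^ (n - 1) + 1 → t ∣ 3 ^ n + 1 → False := fun t ht ht2 h1 h2 =>
      ht2 ((Nat.prime_dvd_prime_iff_eq ht Nat.prime_two).1 (dvd_two_of (by omega) h1 h2))
    by_cases hlr : l = r
    · subst hlr
      exact fin l hl hr2 hrd (adj_cls hF hn hab hl hr2 hr3 (Or.inl rfl) hsp (hs' hrs))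
    · by_cases hls : l = s
      · subst hls
        exact fin l hl hs2 (adj_cls hF hn hab hl hs2 hs3 (Or.inr rfl) hr (hr' hlr)) hsd
      · obtain ⟨h2, h3⟩ := hadj (hr' hlr) hlr
        exact fin l hl h2 h3 (adj_cls hF hn hab hl h2 hl3 (Or.inl rfl) hsp (hs' hls))
  · -- faithful action
    have hne : ∀ {N : ℕ} {A : Subgroup (POmega F (quadFormMinus (n - 1) F a b))}
        {y : POmega F (quadFormMinus (n - 1) F a b)}, FrobAt 3 N A y → ∃ c ∈ A, cact V hVc (φ c) ≠ 1 := by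
      intro N A y hA
      obtain ⟨c, hc⟩ := (Subgroup.ne_bot_iff_exists_ne_one.1 hA.ne : ∃ c : A, c ≠ 1)
      exact ⟨c, c.2, h _ fun h1 => hc (Subtype.ext h1)⟩
    have hcross : l ≠ 2 ∧ l ∣ 3 ^ (n - 1) + 1 := by
      by_cases hlr : l = r
      · subst hlr
        refine ⟨hr2, hr.dvd_add dvd_rfl fun h => ?_⟩
        have := Nat.le_of_dvd (by omega) h
        omega
      · refine hadj ?_ hlr
        obtain ⟨A, y, hA⟩ := frob_minus (F := F) (p := 3) Nat.prime_three (by norm_num) (by omega : 3 ≤ n) hab hr.prime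
          hr2 (c := n - 1) (d := 1) (by omega) le_rfl one_pos (by
            rw [hFc, pow_one]
            refine hr.dvd_add dvd_rfl fun h => ?_
            have := Nat.le_of_dvd (by omega) h
            omega)
        rw [pow_one] at hA
        exact hω' _ ((exists_order hVc hl hVl φ hφ Nat.prime_three hl3 hA (hne hA)).1 hr.prime hlr)
    obtain ⟨hl2, hln⟩ := hcross
    -- the maximal exponent
    let P : ℕ → Prop := fun d => ∃ c, 1 ≤ c ∧ c ≤ n - 1 ∧ l ^ d ∣ 3 ^ c + 1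
    have hP1 : P 1 := ⟨n - 1, by omega, le_rfl, by rwa [pow_one]⟩
    have hbd : ∀ d, P d → d ≤ 3 ^ (n - 1) + 1 := by
      rintro d ⟨c, -, hc, hcd⟩
      have h1 := Nat.le_of_dvd (by positivity) hcd
      have h2 : d < l ^ d := Nat.lt_pow_self hl.one_lt
      have h3 : 3 ^ c ≤ 3 ^ (n - 1) := Nat.pow_le_pow_right (by norm_num) hc
      omega
    classical
    set d := Nat.findGreatest P (3 ^ (n - 1) + 1) with hd
    have hPd : P d := Nat.findGreatest_spec (hbd 1 hP1) hP1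
    have hd1 : 1 ≤ d := Nat.le_findGreatest (hbd 1 hP1) hP1
    obtain ⟨c, hc1, hc2, hc3⟩ := hPd
    obtain ⟨A, y, hA⟩ := frob_minus (F := F) (p := 3) Nat.prime_three (by norm_num) (by omega : 3 ≤ n) hab hl
      hl2 hc1 hc2 hd1 (by rw [hFc]; exact hc3)
    have h1 := hω' _ ((exists_order hVc hl hVl φ hφ Nat.prime_three hl3 hA (hne hA)).2 d rfl)
    have h2 : P (d + 1) := exists_c_of_order hF hn hab hl hl2 hl3 (Nat.succ_pos d) hln h1
    have h3 := Nat.le_findGreatest (hbd _ h2) h2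
    omega

end Cfsg.Agent.H407.MF
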