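import Cfsg.Agent.H407.Arith
import Cfsg.Agent.H407.Three
import Cfsg.Agent.H407.Kernel
import Cfsg.Agent.H407.Aut
import Cfsg.Agent.H407.Elems
import Cfsg.Agent.LieClassical.FieldTransfer

/-!
# Groups with the element orders of `PSL(6, 3)`, from the classification (helper407)
-/

set_option autoImplicit false
set_option linter.unusedSectionVars false
set_option maxRecDepth 100000

namespace Cfsg.Agent.H407.Main

open Subgroup Cfsg Cfsg.Agent.OrdDiv
open Cfsg.Agent.H363.Frat (NonAdj)
open Cfsg.Agent.H407.Elems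

universe u

/-- a field with 3 elements -/
noncomputable def fieldEquiv {F : Type*} [Field F] [Fintype F] (hF : Fintype.card F = 3) : ZMod 3 ≃+* F :=
  haveI : Fact (Nat.Prime 3) := ⟨Nat.prime_three⟩
  ZMod.ringEquivOfPrime F Nat.prime_three hF

/-- the projective special linear groups over a field with 3 elements -/
noncomputable def pslEquiv {F : Type*} [Field F] [Fintype F] (hF : Fintype.card F = 3) (n : ℕ) :
    Matrix.ProjectiveSpecialLinearGroup (Fin n) F ≃* Matrix.ProjectiveSpecialLinearGroup (Fin n) (ZMod 3) :=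
  Cfsg.Agent.LieClassical.FieldTransfer.pslCongr (fieldEquiv hF).symm

section

variable {G : Type u} [Group G] [Finite G] (hG : Spec G) (K : Subgroup G) [K.Normal]

include hG

/-- case `PSL(5, 3)` -/
theorem five_false (hKs : Group.IsSolvable K) (h11 : ¬ 11 ∣ Nat.card K) (S : Subgroup (G ⧸ K)) [S.Normal]
    (e : S ≃* L5) : False := by
  have hSc : Nat.card S = 2 ^ 9 * 3 ^ 10 * 5 * 11 ^ 2 * 13 := by
    rw [← card_L5]; exact Nat.card_congr e.toEquiv
  have h7 : ¬ 7 ∣ Nat.card (G ⧸ K) := by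
    refine Kernel.seven_not_dvd hG K h11 S ?_ ?_ ?_
    · rw [hSc]; norm_num
    · rw [hSc]; norm_num
    · rw [hSc]; norm_num
  have h7G : 7 ∣ Nat.card G := (hG.prime 7 (by norm_num)).2 (by decide)
  have h7K : 7 ∣ Nat.card K := by
    rw [Subgroup.card_eq_card_quotient_mul_card_subgroup K] at h7G
    exact ((Nat.Prime.dvd_mul (by norm_num)).1 h7G).resolve_left h7
  set f : L5 →* G ⧸ K := S.subtype.comp e.symm.toMonoidHom with hf
  have hfi : Function.Injective f := S.subtype_injective.comp e.symm.injective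
  refine Kernel.frob_false hG K hKs h7K (x := f (pr5 x5)) (e := f (pr5 e5)) ?_ ?_ ?_
  · rw [orderOf_injective f hfi, orderOf_x5]
  · rw [orderOf_injective f hfi, orderOf_e5]
  · rw [← map_inv, ← map_inv, ← map_mul, ← map_mul, ← map_mul, ← map_mul, conj_x5, map_pow, map_pow]
    exact npow_mem_zpowers _ 3

/-- case `PSL(6, 3)` -/
theorem six (h11 : ¬ 11 ∣ Nat.card K) (S : Subgroup (G ⧸ K)) [S.Normal] [IsSimpleGroup S]
    (hC : centralizer (S : Set (G ⧸ K)) = ⊥) (e : S ≃* L6) :
    ∃ N : Subgroup G, N.Normal ∧ Nonempty (N ≃* L6) ∧ centralizer (N : Set G) = ⊥ ∧ N.index ≤ 2 := by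
  set τ : L6 →* G ⧸ K := S.subtype.comp e.symm.toMonoidHom with hτ
  have hτi : Function.Injective τ := S.subtype_injective.comp e.symm.injective
  set σ : SL6 →* G ⧸ K := τ.comp pr with hσ
  have hσ1 : ∀ s, σ s = 1 ↔ s = 1 ∨ s = Mats.m1 := by
    intro s
    rw [hσ, MonoidHom.comp_apply, map_eq_one_iff _ hτi, pr_eq_one]
  have hSc : Nat.card S = 2^11*3^15*5*7*11^2*13^2 := by
    rw [← card_L]; exact Nat.card_congr e.toEquiv
  have h11S : 11 ∣ Nat.card S := by rw [hSc]; norm_num
  have hσS : ∀ s, σ s ∈ S := fun s => (e.symm (pr s)).2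
  have h3 : IsPGroup 3 K := by
    refine Kernel.kernel_three hG K h11 S h11S (WW.map σ) ?_ ?_ ?_ (y := σ w11) ?_ ?_
    · rintro _ ⟨s, -, rfl⟩
      exact hσS s
    · intro h
      have h1 : σ (T 0) ∈ WW.map σ := mem_map_of_mem σ (subset_closure ⟨0, rfl⟩)
      rw [h, Subgroup.mem_bot, hσ1] at h1
      rcases h1 with h1 | h1
      · exact T_ne.1 h1
      · exact T_ne.2 h1
    · exact WW_three.map σ
    · rw [hσ, MonoidHom.comp_apply, orderOf_injective τ hτi, Aut.orderOf_pr_w11]
    · rintro _ ⟨s, hs, rfl⟩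
      rw [← map_inv, ← map_mul, ← map_mul]
      exact mem_map_of_mem σ (WW_conj hs)
  have hK : K = ⊥ := Three.eq_bot K hG h3 σ hσ1
  have hidx : S.index ≤ 2 := by
    refine Aut.index_le_two ?_ S hC e
    intro r hr h
    exact (Kernel.hna hG K h11 r hr h).quotient K
  set q : G ≃* G ⧸ K := MulEquiv.ofBijective (QuotientGroup.mk' K) ⟨by
    rw [← MonoidHom.ker_eq_bot_iff, QuotientGroup.ker_mk', hK], QuotientGroup.mk'_surjective K⟩ with hq
  have hqa : ∀ g, q g = QuotientGroup.mk' K g := fun g => rfl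
  refine ⟨S.comap (QuotientGroup.mk' K), inferInstance, ⟨?_⟩, ?_, ?_⟩
  · have e1 : S.comap (QuotientGroup.mk' K) ≃* S := by
      refine (q.subgroupMap (S.comap (QuotientGroup.mk' K))).trans (MulEquiv.subgroupCongr ?_)
      exact Subgroup.map_comap_eq_self_of_surjective (QuotientGroup.mk'_surjective K) S
    exact e1.trans e
  · rw [eq_bot_iff]
    intro g hg
    rw [mem_centralizer_iff] at hg
    have h1 : q g ∈ centralizer (S : Set (G ⧸ K)) := by
      rw [mem_centralizer_iff]
      intro s hs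
      obtain ⟨t, rfl⟩ := q.surjective s
      rw [← map_mul, ← map_mul, hg t hs]
    rw [hC, Subgroup.mem_bot] at h1
    rw [Subgroup.mem_bot]
    exact (map_eq_one_iff q q.injective).1 h1
  · rwa [Subgroup.index_comap_of_surjective _ (QuotientGroup.mk'_surjective K)]

/-- **The theorem, given the simple group `S`.** -/
theorem main (hKs : Group.IsSolvable K) (S : Subgroup (G ⧸ K)) [S.Normal] [IsSimpleGroup S]
    (hSna : ¬ IsMulCommutative S) (hC : centralizer (S : Set (G ⧸ K)) = ⊥) (h2 : 2 ∣ Nat.card S)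
    (hKS : IsKnownSimple' S) (T : OrderTable.{u}) (hD : Radical.DihFor S) :
    ∃ N : Subgroup G, N.Normal ∧ Nonempty (N ≃* L6) ∧ centralizer (N : Set G) = ⊥ ∧ N.index ≤ 2 := by
  have h11 : ¬ 11 ∣ Nat.card K := Radical.not_eleven_dvd hG K hKs S hSna h2 hD
  have hnaQ : ∀ r : ℕ, r.Prime → r ≠ 11 → NonAdj (G ⧸ K) 11 r := fun r hr h =>
    (Kernel.hna hG K h11 r hr h).quotient K
  have hx : ∃ g : G ⧸ K, orderOf g = 121 := by
    obtain ⟨g, hg⟩ := hG.has121
    refine ⟨QuotientGroup.mk' K g, ?_⟩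
    set m := orderOf (QuotientGroup.mk' K g) with hm
    have h1 : m ∣ 11 ^ 2 := by
      have := orderOf_map_dvd (QuotientGroup.mk' K) g
      rw [hg] at this
      exact this
    have h2 : g ^ m ∈ K := by
      rw [← QuotientGroup.eq_one_iff]
      have := pow_orderOf_eq_one (QuotientGroup.mk' K g)
      rw [← map_pow] at this
      exact this
    obtain ⟨k, hk, hmk⟩ := (Nat.dvd_prime_pow (by norm_num)).1 h1
    have h3 : orderOf (g ^ m) = 11 ^ (2 - k) := by
      rw [orderOf_pow' g (by rw [hmk]; positivity), hg, hmk]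
      interval_cases k <;> norm_num
    have h4 : orderOf (g ^ m) ∣ Nat.card K := by
      have : orderOf (⟨g ^ m, h2⟩ : K) ∣ Nat.card K := orderOf_dvd_natCard _
      rwa [Subgroup.orderOf_mk] at this
    have hk2 : k = 2 := by
      by_contra hk2
      apply h11
      refine dvd_trans ?_ (h3 ▸ h4)
      exact dvd_pow_self 11 (by omega)
    rw [hmk, hk2]
    norm_num
  have h121 : 121 ∣ Nat.card S := Eleven.sq_dvd hnaQ S hSna hx
  have hsm : Arith.Sm (Nat.card S) := by
    intro r hr hrS
    have h1 : r ∣ Nat.card G := by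
      refine (hrS.trans (Subgroup.card_subgroup_dvd_card S)).trans ?_
      exact Subgroup.card_quotient_dvd_card K
    have h2 := (hG.prime r hr).1 h1
    simp only [Finset.mem_insert, Finset.mem_singleton] at h2
    omega
  have hna : ¬ ∀ a b : S, a * b = b * a := fun h => hSna (isMulCommutative_iff.2 h)
  obtain ⟨F, _, _, hF, h5 | h6⟩ := Arith.main T hKS hna hsm h121
  · obtain ⟨e⟩ := h5
    exact (five_false hG K hKs h11 S (e.trans (pslEquiv hF 5))).elim
  · obtain ⟨e⟩ := h6
    exact six hG K h11 S hC (e.trans (pslEquiv hF 6))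

end

end Cfsg.Agent.H407.Main
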