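import Cfsg.Agent.H989.OutOrth.Basic

/-!
# A class of elements which every automorphism preserves forces elements of order `2 r` outside `S` (helper407)

* `gstep` : `S ⊲ Γ` with trivial centralizer, `Γ / S` a 2-group, `x ∈ S` of odd prime order `r`, every automorphism of `S`
  maps some conjugate of `x` to `x`; no elements of order `2 r`: `S = Γ`;
* `rep` : the hypothesis on `x` for `P Q = E Q / Z`, `F` a prime field, when the fixed space of `x` represents all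
  nonzero values of `Q` modulo squares and `x` commutes with a similitude with nonsquare multiplier.
-/

set_option autoImplicit false

namespace Cfsg.Agent.H407.OutStep

open Subgroup

section group

theorem even_of_not_mem {Γ : Type*} [Group Γ] [Finite Γ] (S : Subgroup Γ) {g : Γ} (hg : g ∉ S)
    (h : ∃ m, g ^ (2 ^ m) ∈ S) : 2 ∣ orderOf g := by
  obtain ⟨m, hm⟩ := h
  by_contra hodd
  apply hg
  have hco : Nat.Coprime (2 ^ m) (orderOf g) := Nat.Coprime.pow_left m ((Nat.Prime.coprime_iff_not_dvd Nat.prime_two).2 hodd)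
  have h1 : g = (g ^ (2 ^ m)) ^ (Nat.gcdA (2 ^ m) (orderOf g)) := by
    have h2 := Nat.gcd_eq_gcd_ab (2 ^ m) (orderOf g)
    rw [hco] at h2
    rw [← zpow_natCast g (2 ^ m), ← zpow_mul]
    have h3 : g ^ (((1 : ℕ) : ℤ)) = g ^ (((2 ^ m : ℕ) : ℤ) * Nat.gcdA (2 ^ m) (orderOf g) +
        ((orderOf g : ℕ) : ℤ) * Nat.gcdB (2 ^ m) (orderOf g)) := by rw [h2]
    rw [zpow_add, zpow_mul g ((orderOf g : ℕ) : ℤ), zpow_natCast g (orderOf g), pow_orderOf_eq_one, one_zpow,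
      mul_one, Nat.cast_one, zpow_one] at h3
    exact h3
  rw [h1]
  exact S.zpow_mem hm _

theorem exists_two_mul {Γ : Type*} [Group Γ] [Finite Γ] {g t : Γ} {r : ℕ} (hr : r.Prime) (hr2 : r ≠ 2)
    (ht : orderOf t = r) (hg : 2 ∣ orderOf g) (hc : Commute g t) : ∃ z : Γ, orderOf z = 2 * r := by
  obtain ⟨k, hk⟩ := hg
  have hk0 : k ≠ 0 := by
    rintro rfl
    rw [mul_zero] at hk
    exact (orderOf_pos g).ne' hk
  have hgk : orderOf (g ^ k) = 2 := by
    rw [orderOf_pow_of_dvd hk0 (Dvd.intro_left _ hk.symm), hk]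
    exact Nat.mul_div_cancel _ (Nat.pos_of_ne_zero hk0)
  refine ⟨g ^ k * t, ?_⟩
  rw [(hc.pow_left k).orderOf_mul_eq_mul_orderOf_of_coprime (by
    rw [hgk, ht]
    exact (Nat.coprime_primes Nat.prime_two hr).2 hr2.symm), hgk, ht]

/-- **The group step.** -/
theorem gstep {Γ : Type*} [Group Γ] [Finite Γ] (S : Subgroup Γ) [S.Normal] {P : Type*} [Group P]
    (e : S ≃* P) {x : P} {r : ℕ} (hr : r.Prime) (hr2 : r ≠ 2) (hx : orderOf x = r)
    (hrep : ∀ α : MulAut P, ∃ p : P, α (p * x * p⁻¹) = x) (h2 : ∀ g : Γ, ∃ m, g ^ (2 ^ m) ∈ S)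
    (hno : ¬ ∃ g : Γ, orderOf g = 2 * r) : S = ⊤ := by
  rw [eq_top_iff]
  intro g _
  by_contra hg
  let α : MulAut P := (e.symm.trans (MulAut.conjNormal g : MulAut S)).trans e
  obtain ⟨p, hp⟩ := hrep α
  set s : S := e.symm p with hs
  set t : S := e.symm x with ht
  have h1 : (MulAut.conjNormal g : MulAut S) (s * t * s⁻¹) = t := by
    have h2 : e ((MulAut.conjNormal g : MulAut S) (e.symm (p * x * p⁻¹))) = x := hp
    have h3 : e.symm (p * x * p⁻¹) = s * t * s⁻¹ := by rw [map_mul, map_mul, map_inv]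
    rw [h3] at h2
    exact e.injective (h2.trans (e.apply_symm_apply x).symm)
  have h3 : g * ((s : Γ) * t * (s : Γ)⁻¹) * g⁻¹ = t := by
    have := congrArg Subtype.val h1
    rwa [MulAut.conjNormal_apply] at this
  have hgs : g * (s : Γ) ∉ S := fun h => hg ((S.mul_mem_cancel_right s.2).1 h)
  have hc : Commute (g * (s : Γ)) t := by
    have h4 : (g * (s : Γ)) * t * (g * (s : Γ))⁻¹ = t := by
      have h5 : (g * (s : Γ)) * t * (g * (s : Γ))⁻¹ = g * ((s : Γ) * t * (s : Γ)⁻¹) * g⁻¹ := by group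
      rw [h5, h3]
    exact mul_inv_eq_iff_eq_mul.1 h4
  have hto : orderOf (t : Γ) = r := by rw [Subgroup.orderOf_coe, ht, MulEquiv.orderOf_eq, hx]
  exact hno (exists_two_mul hr hr2 hto (even_of_not_mem S hgs (h2 _)) hc)

end group

/-! ### orthogonal groups -/

section orth

open QuadraticMap Cfsg.Agent.LieClassical.OrthCore Cfsg.Agent.LieClassical.OrthTrans
  Cfsg.Agent.LieClassical.OrthSimple Cfsg.Agent.ClassicalGeometry.OrthSemi
  Cfsg.Agent.ClassicalGeometry.OrthSemiCount Cfsg.Agent.ClassicalGeometry.OrthAut1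
  Cfsg.Agent.H989.OutOrth.Abstract Cfsg.Agent.H989.OutOrth.Basic

variable {F V : Type*} [Field F] [AddCommGroup V] [Module F V] [FiniteDimensional F V] {Q : QuadraticForm F V}

/-- the semisimilitudes commuting with `x` -/
def cent (x : ↥(E Q)) : Subgroup (Gam Q) where
  carrier := {M | ∀ v, M.1 ((x : V ≃ₗ[F] V) v) = (x : V ≃ₗ[F] V) (M.1 v)}
  one_mem' := fun _ => rfl
  mul_mem' := by
    intro M N hM hN v
    change M.1 (N.1 _) = _
    rw [hN v, hM]
    rfl
  inv_mem' := by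
    intro M hM v
    change M.1⁻¹ _ = _
    apply M.1.injective
    rw [apply_inv]
    have h1 := hM (M.1⁻¹ v)
    rw [apply_inv] at h1
    exact h1.symm

omit [FiniteDimensional F V] in
theorem Psi_cent {x : ↥(E Q)} {M : Gam Q} (hM : M ∈ cent x) : Psi Q M (x : P Q) = (x : P Q) := by
  rw [Psi_mk]
  congr 1
  apply Subtype.ext
  rw [coe_conjE]
  ext v
  rw [conjLin_apply]
  rw [hM, apply_inv]

omit [FiniteDimensional F V] in
theorem rf_mem_cent {x : ↥(E Q)} {v : V} (hv : Q v ≠ 0) (hx : (x : V ≃ₗ[F] V) v = v) : rf v hv ∈ cent x := by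
  intro u
  have hxO : ∀ w, Q ((x : V ≃ₗ[F] V) w) = Q w := fun w => E_le_O x.2 w
  have hpol : polar Q ((x : V ≃ₗ[F] V) u) v = polar Q u v := by
    conv_lhs => rw [← hx]
    simp only [polar]
    rw [← map_add, hxO, hxO, hxO]
  change refl Q v hv _ = (x : V ≃ₗ[F] V) (refl Q v hv u)
  rw [refl_apply, refl_apply, map_sub, map_smul, hx]
  have h1 : polar Q v ((x : V ≃ₗ[F] V) u) = polar Q v u := by
    rw [polar_comm, hpol, polar_comm]
  rw [h1]

/-- **Every automorphism maps a conjugate of `x` to `x`.** -/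
theorem rep (hG : Good Q) (hsurj : Function.Surjective (Psi Q)) (hσ : ∀ σ : F ≃+* F, σ = RingEquiv.refl F)
    (x : ↥(E Q)) (hfix : ∀ w, Q w ≠ 0 → ∃ (v : V) (s : F), Q w = s * s * Q v ∧ Q v ≠ 0 ∧ (x : V ≃ₗ[F] V) v = v)
    (hδ : (∀ c : F, c ≠ 0 → IsSquare c) ∨ ∃ (δ : Gam Q) (c0 : F), IsSS Q (RingEquiv.refl F) c0 δ.1 ∧ δ ∈ cent x ∧
      ∀ c : F, c ≠ 0 → IsSquare c ∨ IsSquare (c0⁻¹ * c)) (α : MulAut (P Q)) :
    ∃ p : P Q, α (p * (x : P Q) * p⁻¹) = (x : P Q) := by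
  set R : Subgroup (Cfsg.Out (P Q)) := (cent x).map (out Q) with hR
  have hiso : ∀ g : O Q, out Q (ofO Q g) ∈ R := by
    refine out_ofO_mem hG fun w hw => ?_
    obtain ⟨v, s, hs, hv, hxv⟩ := hfix w hw
    rw [← out_rf_of_square hG hv hw hs]
    exact ⟨_, rf_mem_cent hv hxv, rfl⟩
  obtain ⟨M, rfl⟩ := hsurj α
  obtain ⟨σ, c, hMc⟩ := M.2
  obtain rfl := hσ σ
  have hMR : out Q M ∈ R := by
    have hcase : IsSquare c ∨ ∃ (δ : Gam Q) (c0 : F), IsSS Q (RingEquiv.refl F) c0 δ.1 ∧ δ ∈ cent x ∧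
        IsSquare (c0⁻¹ * c) := by
      rcases hδ with h | ⟨δ, c0, h1, h2, h3⟩
      · exact Or.inl (h c hMc.ne)
      · rcases h3 c hMc.ne with h | h
        · exact Or.inl h
        · exact Or.inr ⟨δ, c0, h1, h2, h⟩
    rcases hcase with h | ⟨δ, c0, h1, h2, h3⟩
    · obtain ⟨g, a, rfl⟩ := exists_ofO_mul_scal hMc h
      rw [map_mul, out_scal hG, mul_one]
      exact hiso g
    · have h4 := h1.inv.mul hMc
      have e1 : (RingEquiv.refl F).trans (RingEquiv.refl F).symm = RingEquiv.refl F := rfl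
      have e2 : (RingEquiv.refl F).symm c0⁻¹ * (RingEquiv.refl F).symm c = c0⁻¹ * c := rfl
      rw [e1, e2] at h4
      obtain ⟨g, a, hg⟩ := exists_ofO_mul_scal (M := δ⁻¹ * M) h4 h3
      have h5 : M = δ * (ofO Q g * scal Q a) := by rw [← hg, mul_inv_cancel_left]
      rw [h5, map_mul, map_mul, out_scal hG, mul_one]
      exact R.mul_mem ⟨δ, h2, rfl⟩ (hiso g)
  obtain ⟨M0, hM0, hM0'⟩ := hMR
  have h1 : out Q (M0⁻¹ * M) = 1 := by rw [map_mul, map_inv, hM0', inv_mul_cancel]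
  have h2 : Psi Q (M0⁻¹ * M) ∈ Cfsg.Inn (P Q) := (QuotientGroup.eq_one_iff _).1 h1
  obtain ⟨p, hp⟩ := h2
  have h3 : Psi Q M = Psi Q M0 * MulAut.conj p := by
    rw [hp, ← map_mul, mul_inv_cancel_left]
  refine ⟨p⁻¹, ?_⟩
  rw [h3, MulAut.mul_apply, MulAut.conj_apply]
  have h4 : p * (p⁻¹ * (x : P Q) * p⁻¹⁻¹) * p⁻¹ = (x : P Q) := by group
  rw [h4]
  exact Psi_cent hM0

end orth

end Cfsg.Agent.H407.OutStep
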