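import Cfsg.Agent.H407.Mats

/-!
# Modules of `PSL(6, 3)` in characteristic 3 (helper407)

`Cfsg.Agent.H407.R3.main`: let `V` be a finite `F₃`-module of `SL(6, 3)` on which `-1` is trivial. If the element `y`
of order 7 has no nonzero fixed vector, and `1 + b + b² = 0` on the fixed space of the element `f` of order 5 for the
element `b` of order 3 commuting with `f`, then `V = 0`.
-/

set_option autoImplicit false
set_option maxRecDepth 100000
set_option linter.unusedSimpArgs false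

namespace Cfsg.Agent.H407.R3

open Matrix Mats

section

variable {V : Type*} [AddCommGroup V] [Module (ZMod 3) V] (ρ : SL6 →* Module.End (ZMod 3) V)

/-! ### arithmetic in characteristic 3 -/

theorem three (v : V) : v + v + v = 0 := by
  have h : ((1 : ZMod 3) + 1 + 1) • v = 0 := by
    rw [show (1 : ZMod 3) + 1 + 1 = 0 by decide, zero_smul]
  rw [add_smul, add_smul, one_smul] at h
  exact h

theorem eq_zero_of_neg {v : V} (h : v = -v) : v = 0 := by
  have h1 := three v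
  have h2 : v + v = 0 := by
    nth_rw 1 [h]
    exact neg_add_cancel v
  rw [h2, zero_add] at h1
  exact h1

theorem eq_of_add_self {v w : V} (h : v + v = w + w) : v = w := by
  have h1 := three v
  have h2 := three w
  have h3 : v = -(v + v) := by
    rw [eq_neg_iff_add_eq_zero, ← add_assoc]; exact h1
  have h4 : w = -(w + w) := by
    rw [eq_neg_iff_add_eq_zero, ← add_assoc]; exact h2
  rw [h3, h4, h]

theorem act {g h k l : SL6} (e : g * h = k * l) (v : V) : ρ g (ρ h v) = ρ k (ρ l v) := by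
  rw [← Module.End.mul_apply, ← map_mul, e, map_mul, Module.End.mul_apply]

theorem act1 {g h k : SL6} (e : g * h = k) (v : V) : ρ g (ρ h v) = ρ k v := by
  rw [← Module.End.mul_apply, ← map_mul, e]

theorem mul_act (g h : SL6) (v : V) : ρ (g * h) v = ρ g (ρ h v) := by
  rw [map_mul, Module.End.mul_apply]

theorem one_act (v : V) : ρ 1 v = v := by
  rw [map_one]; rfl

theorem inj (g : SL6) {v w : V} (h : ρ g v = ρ g w) : v = w := by
  have h1 := congrArg (ρ g⁻¹) h
  rw [act1 ρ (inv_mul_cancel g), act1 ρ (inv_mul_cancel g), map_one] at h1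
  exact h1

theorem inv_act (g : SL6) (v : V) : ρ g (ρ g⁻¹ v) = v := by
  rw [act1 ρ (mul_inv_cancel g), map_one]; rfl

end

/-! ### relations -/

/-- `-1` on the blocks 1 and 2 -/
def z4 : SL6 := t1 * t2

/-- five pairwise anticommuting involutions of the blocks 1 and 2 -/
def D : Fin 5 → SL6 := ![d0, d1, d2, d3, d4]

theorem hh0 : h0 * h0 = t0 := by decide +kernel
theorem kk0 : k0 * k0 = t0 := by decide +kernel
theorem hk0 : h0 * k0 = t0 * (k0 * h0) := by decide +kernel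
theorem b0h : b0 * h0 = k0 * b0 := by decide +kernel
theorem b0k : b0 * k0 = h0 * (k0 * b0) := by decide +kernel
theorem bbb : b0 * b0 * b0 = 1 := by decide +kernel
theorem zt : z4 * t0 = m1 := by decide +kernel
theorem DD : ∀ i, D i * D i = 1 := by decide +kernel
theorem DDc : ∀ i j, D i * D j = D j * D i ∨ D i * D j = z4 * (D j * D i) := by decide +kernel
theorem fD : ∀ i, f * D i = D (i + 1) * f := by decide +kernel
theorem D4 : D 4 = D 3 * (D 2 * (D 1 * D 0)) := by decide +kernel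
theorem f5 : f * (f * (f * (f * f))) = 1 := by decide +kernel
theorem Dh : ∀ i, D i * h0 = h0 * D i := by decide +kernel
theorem Dk : ∀ i, D i * k0 = k0 * D i := by decide +kernel
theorem fh : f * h0 = h0 * f := by decide +kernel
theorem fk : f * k0 = k0 * f := by decide +kernel
theorem fb : f * b0 = b0 * f := by decide +kernel
theorem fi : f = i1 * i2 := by decide +kernel
theorem ig1 : i1 * g1 = g1 * D 0 := by decide +kernel
theorem ig2 : i2 * g2 = g2 * D 0 := by decide +kernel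
theorem g1h : h0 * g1 = g1 * h0 := by decide +kernel
theorem g1k : k0 * g1 = g1 * k0 := by decide +kernel
theorem g2h : h0 * g2 = g2 * h0 := by decide +kernel
theorem g2k : k0 * g2 = g2 * k0 := by decide +kernel

section

variable {V : Type*} [AddCommGroup V] [Module (ZMod 3) V] (ρ : SL6 →* Module.End (ZMod 3) V)
  (hz : ρ m1 = 1) (ha : ∀ v, ρ y v = v → v = 0) (hb : ∀ v, ρ f v = v → v + ρ b0 v + ρ b0 (ρ b0 v) = 0)

/-- the weight space -/
def InN (v : V) : Prop := ρ h0 v = v ∧ ρ k0 v = -v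

variable {ρ}

theorem nT {v : V} (h : InN ρ v) : ρ t0 v = v := by
  rw [← act1 ρ hh0, h.1, h.1]

include hz in
theorem nZ {v : V} (h : InN ρ v) : ρ z4 v = v := by
  have h1 := act1 ρ zt v
  rw [nT h, hz] at h1
  exact h1

theorem nAdd {v w : V} (h : InN ρ v) (h' : InN ρ w) : InN ρ (v + w) :=
  ⟨by rw [map_add, h.1, h'.1], by rw [map_add, h.2, h'.2, neg_add]⟩

theorem nNeg {v : V} (h : InN ρ v) : InN ρ (-v) :=
  ⟨by rw [map_neg, h.1], by rw [map_neg, h.2]⟩

theorem nSub {v w : V} (h : InN ρ v) (h' : InN ρ w) : InN ρ (v - w) := by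
  rw [sub_eq_add_neg]; exact nAdd h (nNeg h')

theorem nAct {v : V} (h : InN ρ v) {g : SL6} (h1 : g * h0 = h0 * g) (h2 : g * k0 = k0 * g) : InN ρ (ρ g v) :=
  ⟨by rw [act ρ h1.symm, h.1], by rw [act ρ h2.symm, h.2, map_neg]⟩

theorem nInv {v : V} (h : InN ρ v) {g : SL6} (h1 : h0 * g = g * h0) (h2 : k0 * g = g * k0) :
    InN ρ (ρ g⁻¹ v) := by
  refine nAct h ?_ ?_
  · rw [inv_mul_eq_iff_eq_mul, ← mul_assoc, ← h1, mul_inv_cancel_right]
  · rw [inv_mul_eq_iff_eq_mul, ← mul_assoc, ← h2, mul_inv_cancel_right]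

theorem nD {v : V} (h : InN ρ v) (i : Fin 5) : InN ρ (ρ (D i) v) := nAct h (Dh i) (Dk i)

theorem nF {v : V} (h : InN ρ v) : InN ρ (ρ f v) := nAct h fh fk

include hz in
theorem nComm {v : V} (h : InN ρ v) (i j : Fin 5) : ρ (D i) (ρ (D j) v) = ρ (D j) (ρ (D i) v) := by
  rcases DDc i j with e | e
  · exact act ρ e v
  · rw [act ρ e, mul_act]
    exact nZ hz (nD (nD h i) j)

theorem nB {v : V} (h : InN ρ v) : ρ h0 (ρ b0 v) = -ρ b0 v ∧ ρ k0 (ρ b0 v) = ρ b0 v := by
  have h1 : ρ k0 (ρ b0 v) = ρ b0 v := by rw [← act ρ b0h, h.1]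
  refine ⟨?_, h1⟩
  have h2 := act ρ b0k v
  rw [h.2, mul_act, h1, map_neg] at h2
  exact h2.symm

theorem nB2 {w : V} (h : ρ h0 w = -w) (hk : ρ k0 w = w) : ρ h0 (ρ b0 w) = -ρ b0 w ∧ ρ k0 (ρ b0 w) = -ρ b0 w := by
  have h1 : ρ k0 (ρ b0 w) = -ρ b0 w := by rw [← act ρ b0h, h, map_neg]
  refine ⟨?_, h1⟩
  have h2 := act ρ b0k w
  rw [hk, mul_act, h1, map_neg, eq_comm, neg_eq_iff_eq_neg] at h2
  exact h2

include hb in
theorem n_eq_zero_of_f {v : V} (h : InN ρ v) (hf : ρ f v = v) : v = 0 := by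
  have h1 := hb v hf
  have h2 := congrArg (ρ h0) h1
  rw [map_add, map_add, map_zero, h.1, (nB h).1, (nB2 (nB h).1 (nB h).2).1] at h2
  have h3 : v + v = 0 := by
    have : v + v = (v + ρ b0 v + ρ b0 (ρ b0 v)) + (v + -ρ b0 v + -ρ b0 (ρ b0 v)) := by abel
    rw [this, h1, h2, add_zero]
  exact eq_of_add_self (by rw [h3, add_zero])

/-! ### the five involutions are trivial on the weight space -/

/-- the operator `x ↦ x + s • D j x` -/
def aop (ρ : SL6 →* Module.End (ZMod 3) V) (s : ZMod 3) (j : Fin 5) : V →ₗ[ZMod 3] V := LinearMap.id + s • ρ (D j)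

theorem aop_eig (s r : ZMod 3) {j : Fin 5} {x : V} (hx : ρ (D j) x = r • x) : aop ρ s j x = (1 + s * r) • x := by
  simp only [aop, LinearMap.add_apply, LinearMap.smul_apply, LinearMap.id_apply, hx, smul_smul, add_smul, one_smul]

/-- the operator `x ↦ x + s • D j x` applied for all `j` -/
def kop (ρ : SL6 →* Module.End (ZMod 3) V) (s : Fin 5 → ZMod 3) : V →ₗ[ZMod 3] V :=
  aop ρ (s 4) 4 ∘ₗ aop ρ (s 3) 3 ∘ₗ aop ρ (s 2) 2 ∘ₗ aop ρ (s 1) 1 ∘ₗ aop ρ (s 0) 0

/-- the eigenvalue -/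
def ev (s r : Fin 5 → ZMod 3) : ZMod 3 :=
  (1 + s 0 * r 0) * ((1 + s 1 * r 1) * ((1 + s 2 * r 2) * ((1 + s 3 * r 3) * (1 + s 4 * r 4))))

theorem kop_eig (s r : Fin 5 → ZMod 3) {x : V} (hx : ∀ j, ρ (D j) x = r j • x) :
    kop ρ s x = ev s r • x := by
  simp only [kop, LinearMap.comp_apply, aop_eig _ _ (hx _), map_smul, smul_smul, ev, mul_assoc]

/-- the cyclic sum -/
def cyc (ρ : SL6 →* Module.End (ZMod 3) V) (w : V) : V :=
  w + ρ f w + ρ f (ρ f w) + ρ f (ρ f (ρ f w)) + ρ f (ρ f (ρ f (ρ f w)))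

theorem f5_act (w : V) : ρ f (ρ f (ρ f (ρ f (ρ f w)))) = w := by
  rw [← mul_act, ← mul_act, ← mul_act, ← mul_act]
  simp only [mul_assoc, f5, one_act]

include hb in
theorem cyc_eq_zero {w : V} (h : InN ρ w) : cyc ρ w = 0 := by
  refine n_eq_zero_of_f hb ?_ ?_
  · exact nAdd (nAdd (nAdd (nAdd h (nF h)) (nF (nF h))) (nF (nF (nF h)))) (nF (nF (nF (nF h))))
  · unfold cyc
    rw [map_add, map_add, map_add, map_add, f5_act]
    abel

theorem f_eig {s : Fin 5 → ZMod 3} {w : V} (hw : ∀ j, ρ (D j) w = s j • w) (j : Fin 5) :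
    ρ (D j) (ρ f w) = s (j - 1) • ρ f w := by
  have h := act ρ (fD (j - 1)) w
  rw [sub_add_cancel] at h
  rw [← h, hw, map_smul]

include hb in
theorem pat (s : Fin 5 → ZMod 3) (h0 : ev s s = 2) (h1 : ev s (fun j => s (j - 1)) = 0)
    (h2 : ev s (fun j => s (j - 1 - 1)) = 0) (h3 : ev s (fun j => s (j - 1 - 1 - 1)) = 0)
    (h4 : ev s (fun j => s (j - 1 - 1 - 1 - 1)) = 0) {w : V} (hN : InN ρ w) (hw : ∀ j, ρ (D j) w = s j • w) :
    w = 0 := by
  have e0 := cyc_eq_zero hb hN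
  have w1 := f_eig hw
  have w2 := f_eig w1
  have w3 := f_eig w2
  have w4 := f_eig w3
  have e1 := congrArg (kop ρ s) e0
  unfold cyc at e1
  rw [map_add, map_add, map_add, map_add, map_zero, kop_eig s s hw, kop_eig s _ w1, kop_eig s _ w2, kop_eig s _ w3,
    kop_eig s _ w4, h0, h1, h2, h3, h4] at e1
  simp only [zero_smul, add_zero] at e1
  have e2 : (2 : ZMod 3) • ((2 : ZMod 3) • w) = 0 := by rw [e1, smul_zero]
  rw [smul_smul, show (2 : ZMod 3) * 2 = 1 by decide, one_smul] at e2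
  exact e2

theorem ev_key : ∀ s1 s2 s3 : ZMod 3, (s1 = 1 ∨ s1 = 2) → (s2 = 1 ∨ s2 = 2) → (s3 = 1 ∨ s3 = 2) →
    let s : Fin 5 → ZMod 3 := ![2, s1, s2, s3, s3 * (s2 * (s1 * 2))]
    ev s s = 2 ∧ ev s (fun j => s (j - 1)) = 0 ∧ ev s (fun j => s (j - 1 - 1)) = 0 ∧
      ev s (fun j => s (j - 1 - 1 - 1)) = 0 ∧ ev s (fun j => s (j - 1 - 1 - 1 - 1)) = 0 := by
  decide +kernel

/-- eigenvectors of the involutions `D j`, `j ∈ J` -/
def Eig (ρ : SL6 →* Module.End (ZMod 3) V) (J : Finset (Fin 5)) (v : V) : Prop :=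
  ∀ j ∈ J, ∃ s : ZMod 3, (s = 1 ∨ s = 2) ∧ ρ (D j) v = s • v

include hb in
theorem step_last {v : V} (h : InN ρ v) (hE : Eig ρ {0, 1, 2, 3} v) : ρ (D 0) v = v := by
  obtain ⟨s0, hs0, e0⟩ := hE 0 (by decide)
  obtain ⟨s1, hs1, e1⟩ := hE 1 (by decide)
  obtain ⟨s2, hs2, e2⟩ := hE 2 (by decide)
  obtain ⟨s3, hs3, e3⟩ := hE 3 (by decide)
  rcases hs0 with rfl | rfl
  · rw [e0, one_smul]
  · have e4 : ρ (D 4) v = (s3 * (s2 * (s1 * 2))) • v := by
      rw [D4, mul_act, mul_act, mul_act]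
      simp only [e0, e1, e2, e3, map_smul, smul_smul]
      congr 1
      ring
    obtain ⟨k0, k1, k2, k3, k4⟩ := ev_key s1 s2 s3 hs1 hs2 hs3
    have : v = 0 := by
      refine pat hb ![2, s1, s2, s3, s3 * (s2 * (s1 * 2))] k0 k1 k2 k3 k4 h fun j => ?_
      fin_cases j
      · exact e0
      · exact e1
      · exact e2
      · exact e3
      · exact e4
    rw [this, map_zero]

include hz in
theorem step {J : Finset (Fin 5)} (j : Fin 5) (H : ∀ v, InN ρ v → Eig ρ (insert j J) v → ρ (D 0) v = v) :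
    ∀ v, InN ρ v → Eig ρ J v → ρ (D 0) v = v := by
  intro v hv hE
  have hjj : ρ (D j) (ρ (D j) v) = v := by rw [act1 ρ (DD j), one_act]
  have h1 : ρ (D 0) (v + ρ (D j) v) = v + ρ (D j) v := by
    refine H _ (nAdd hv (nD hv j)) fun i hi => ?_
    rcases Finset.mem_insert.1 hi with rfl | hi
    · exact ⟨1, Or.inl rfl, by rw [map_add, hjj, one_smul, add_comm]⟩
    · obtain ⟨s, hs, e⟩ := hE i hi
      exact ⟨s, hs, by rw [map_add, nComm hz hv, e, map_smul, smul_add]⟩
  have h2 : ρ (D 0) (v - ρ (D j) v) = v - ρ (D j) v := by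
    refine H _ (nSub hv (nD hv j)) fun i hi => ?_
    rcases Finset.mem_insert.1 hi with rfl | hi
    · refine ⟨2, Or.inr rfl, ?_⟩
      rw [map_sub, hjj, show (2 : ZMod 3) = -1 by decide, neg_smul, one_smul, neg_sub]
    · obtain ⟨s, hs, e⟩ := hE i hi
      exact ⟨s, hs, by rw [map_sub, nComm hz hv, e, map_smul, smul_sub]⟩
  apply eq_of_add_self
  have h3 : ρ (D 0) v + ρ (D 0) v = ρ (D 0) (v + ρ (D j) v) + ρ (D 0) (v - ρ (D j) v) := by
    rw [← map_add, ← map_add]; congr 1; abel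
  rw [h3, h1, h2]
  abel

include hz hb in
theorem d_trivial {v : V} (h : InN ρ v) : ρ (D 0) v = v := by
  refine step hz (J := ∅) 0 (step hz 1 (step hz 2 (step hz 3 fun v hv hE => step_last hb hv ?_))) v h ?_
  · intro j hj
    refine hE j ?_
    fin_cases j <;> simp_all
  · intro j hj
    simp at hj

include hz hb in
/-- **The weight space is zero.** -/
theorem n_zero {v : V} (h : InN ρ v) : v = 0 := by
  refine n_eq_zero_of_f hb h ?_
  have h1 : ∀ {w : V}, InN ρ w → ρ i1 w = w := by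
    intro w hw
    have h2 : InN ρ (ρ g1⁻¹ w) := nInv hw g1h g1k
    have h3 := act ρ ig1 (ρ g1⁻¹ w)
    rw [d_trivial hz hb h2, inv_act] at h3
    exact h3
  have h1' : ∀ {w : V}, InN ρ w → ρ i2 w = w := by
    intro w hw
    have h2 : InN ρ (ρ g2⁻¹ w) := nInv hw g2h g2k
    have h3 := act ρ ig2 (ρ g2⁻¹ w)
    rw [d_trivial hz hb h2, inv_act] at h3
    exact h3
  rw [fi, mul_act, h1' h, h1 h]


/-! ### the quaternion group of a block is trivial on the fixed space of its involution -/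

include hz hb in
theorem n2_zero {v : V} (h1 : ρ h0 v = -v) (h2 : ρ k0 v = v) : v = 0 := by
  have hb1 : ρ b0 (ρ b0⁻¹ v) = v := inv_act ρ b0 v
  have hN : InN ρ (ρ b0⁻¹ v) := by
    constructor
    · apply inj ρ b0
      rw [act ρ b0h, hb1, h2]
    · apply inj ρ b0
      rw [act ρ b0k, mul_act, map_neg, hb1, h2, h1]
  rw [← hb1, n_zero hz hb hN, map_zero]

include hz hb in
theorem n3_zero {v : V} (h1 : ρ h0 v = -v) (h2 : ρ k0 v = -v) : v = 0 := by
  have hb1 : ρ b0 (ρ b0⁻¹ v) = v := inv_act ρ b0 v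
  have h3 : ρ b0⁻¹ v = 0 := by
    refine n2_zero hz hb ?_ ?_
    · apply inj ρ b0
      rw [act ρ b0h, map_neg, hb1, h2]
    · apply inj ρ b0
      rw [act ρ b0k, mul_act, hb1, h2, map_neg, h1, neg_neg]
  rw [← hb1, h3, map_zero]

include hz hb in
/-- **Step 1**: `h0` and `k0` are trivial on the fixed space of `t0`. -/
theorem s1 {v : V} (ht : ρ t0 v = v) : ρ h0 v = v ∧ ρ k0 v = v := by
  have hh : ρ h0 (ρ h0 v) = v := by rw [act1 ρ hh0, ht]
  have kk : ρ k0 (ρ k0 v) = v := by rw [act1 ρ kk0, ht]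
  have ht' : ρ t0 (ρ k0 (ρ h0 v)) = ρ k0 (ρ h0 v) := by
    have e1 : t0 * k0 = k0 * t0 := by decide +kernel
    have e2 : t0 * h0 = h0 * t0 := by decide +kernel
    rw [act ρ e1, act ρ e2, ht]
  have hk : ρ h0 (ρ k0 v) = ρ k0 (ρ h0 v) := by
    rw [act ρ hk0, mul_act, ht']
  have hhk : ρ h0 (ρ k0 (ρ h0 v)) = ρ k0 v := by
    have e1 : h0 * k0 * h0 = k0 := by decide +kernel
    rw [← mul_act, ← mul_act, e1]
  have kkh : ρ k0 (ρ k0 (ρ h0 v)) = ρ h0 v := by
    have e2 : t0 * h0 = h0 * t0 := by decide +kernel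
    rw [act1 ρ kk0 (ρ h0 v), act ρ e2, ht]
  have w1 : v + ρ h0 v - ρ k0 (v + ρ h0 v) = 0 := by
    refine n_zero hz hb ⟨?_, ?_⟩
    · simp only [map_add, map_sub, hh, hk, hhk, kk, kkh]; abel
    · simp only [map_add, map_sub, hh, hk, hhk, kk, kkh]; abel
  have w2 : v - ρ h0 v + ρ k0 (v - ρ h0 v) = 0 := by
    refine n2_zero hz hb ?_ ?_
    · simp only [map_add, map_sub, hh, hk, hhk, kk, kkh]; abel
    · simp only [map_add, map_sub, hh, hk, hhk, kk, kkh]; abel
  have w3 : v - ρ h0 v - ρ k0 (v - ρ h0 v) = 0 := by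
    refine n3_zero hz hb ?_ ?_
    · simp only [map_add, map_sub, hh, hk, hhk, kk, kkh]; abel
    · simp only [map_add, map_sub, hh, hk, hhk, kk, kkh]; abel
  have h5 : ρ h0 v = v := by
    have h6 : (v - ρ h0 v) + (v - ρ h0 v) = 0 + 0 := by
      have h7 : (v - ρ h0 v) + (v - ρ h0 v) =
          (v - ρ h0 v + ρ k0 (v - ρ h0 v)) + (v - ρ h0 v - ρ k0 (v - ρ h0 v)) := by abel
      rw [h7, w2, w3]
    exact (sub_eq_zero.1 (eq_of_add_self h6)).symm
  refine ⟨h5, ?_⟩
  rw [h5, map_add, sub_eq_zero] at w1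
  exact (eq_of_add_self w1).symm

/-! ### conjugates -/

include hz hb in
/-- conjugates of step 1 -/
theorem s1_conj (g : SL6) {t h : SL6} (e1 : g * t0 = t * g) (e2 : g * h0 = h * g) {v : V} (ht : ρ t v = v) :
    ρ h v = v := by
  have h1 : ρ t0 (ρ g⁻¹ v) = ρ g⁻¹ v := by
    apply inj ρ g
    rw [act ρ e1, inv_act, ht]
  have h2 := (s1 hz hb h1).1
  have h3 := act ρ e2 (ρ g⁻¹ v)
  rw [h2, inv_act] at h3
  exact h3.symm

theorem p01t : p01 * t0 = t1 * p01 := by decide +kernel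
theorem p01h : p01 * h0 = h1 * p01 := by decide +kernel
theorem p02t : p02 * t0 = t2 * p02 := by decide +kernel
theorem p02h : p02 * h0 = h2 * p02 := by decide +kernel

/-- the element of order 4 with square `-1` -/
def j : SL6 := h0 * (h1 * h2)

theorem jj : j * j = m1 := by decide +kernel
theorem jyj : j * y * j = j * j * (y * (y * (y * (y * (y * y))))) := by decide +kernel
theorem y7 : y * (y * (y * (y * (y * (y * y))))) = 1 := by decide +kernel
theorem jy : j * y = y * (y * (y * (y * (y * y)))) * j := by decide +kernel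
theorem y3j : y * (y * y) * j = j * y * (y * (y * y)) := by decide +kernel
theorem jt0 : j * t0 = t0 * j := by decide +kernel
theorem jt1 : j * t1 = t1 * j := by decide +kernel
theorem t01 : t0 * t1 = t1 * t0 := by decide +kernel
theorem t012 : t2 * (t0 * t1) = m1 := by decide +kernel
theorem t00 : t0 * t0 = 1 := by decide +kernel
theorem t11 : t1 * t1 = 1 := by decide +kernel
theorem k1t0 : k1 * t0 = t0 * k1 := by decide +kernel
theorem k1t1 : k1 * t1 = t1 * k1 := by decide +kernel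
theorem k0t0 : k0 * t0 = t0 * k0 := by decide +kernel
theorem k0t1 : k0 * t1 = t1 * k0 := by decide +kernel
theorem k11 : k1 * k1 = t1 := by decide +kernel
theorem jk0 : j * k0 = t0 * (k0 * j) := by decide +kernel
theorem jk1 : j * k1 = t1 * (k1 * j) := by decide +kernel

/-! ### Step 2: the fixed space of two blocks -/

/-- the map interchanging the eigenspaces of `j` -/
def kap (ρ : SL6 →* Module.End (ZMod 3) V) : V →ₗ[ZMod 3] V :=
  ρ k1 ∘ₗ (LinearMap.id + ρ t0) ∘ₗ (LinearMap.id - ρ t1) + ρ k0 ∘ₗ (ρ t0 - LinearMap.id)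

theorem kap_apply (v : V) : kap ρ v = ρ k1 (v - ρ t1 v + ρ t0 (v - ρ t1 v)) + ρ k0 (ρ t0 v - v) := rfl

theorem kap_fix {v : V} (h0 : ρ t0 v = v) (h1 : ρ t1 v = v) : kap ρ v = 0 := by
  rw [kap_apply, h0, h1, sub_self, map_zero, map_zero, add_zero, add_zero, map_zero]

include hz hb in
theorem j_fix {v : V} (h0 : ρ t0 v = v) (h1 : ρ t1 v = v) : ρ j v = v := by
  have h2 : ρ t2 v = v := by
    have := act1 ρ t012 v
    rw [mul_act, h1, h0, hz] at this
    exact this
  have e0 : ρ Mats.h0 v = v := (s1 hz hb h0).1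
  have e1 : ρ Mats.h1 v = v := s1_conj hz hb p01 p01t p01h h1
  have e2 : ρ Mats.h2 v = v := s1_conj hz hb p02 p02t p02h h2
  rw [j, mul_act, mul_act, e2, e1, e0]


theorem tt0 (v : V) : ρ t0 (ρ t0 v) = v := by rw [act1 ρ t00, one_act]
theorem tt1 (v : V) : ρ t1 (ρ t1 v) = v := by rw [act1 ρ t11, one_act]

theorem kap_x {x : V} (h0 : ρ t0 x = x) (h1 : ρ t1 x = -x) : kap ρ x = ρ k1 x := by
  have h2 : ρ t0 (x + x) = x + x := by rw [map_add, h0]
  rw [kap_apply, h0, h1, sub_self, map_zero, add_zero, sub_neg_eq_add, h2]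
  congr 1
  have := three x
  calc x + x + (x + x) = (x + x + x) + x := by abel
    _ = x := by rw [this, zero_add]

theorem kap_z {z : V} (h0 : ρ t0 z = -z) : kap ρ z = ρ k0 z := by
  rw [kap_apply, map_sub, act ρ t01, h0, map_neg]
  have h1 : z - ρ t1 z + (-z - -ρ t1 z) = 0 := by abel
  have h2 : -z - z = z := by
    have := three z
    calc -z - z = z - (z + z + z) := by abel
      _ = z := by rw [this, sub_zero]
  rw [h1, h2, map_zero, zero_add]

include hz hb in
/-- the decomposition of a vector with `j v = - v` -/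
theorem decomp {w : V} (hw : ρ j w = -w) : ∃ x z : V, w = x + z ∧ ρ t0 x = x ∧ ρ t1 x = -x ∧ ρ j x = -x ∧
    ρ t0 z = -z ∧ ρ j z = -z := by
  have e : w + ρ t1 w + ρ t0 (w + ρ t1 w) = 0 := by
    have h1 : ρ j (w + ρ t1 w + ρ t0 (w + ρ t1 w)) = w + ρ t1 w + ρ t0 (w + ρ t1 w) := by
      refine j_fix hz hb ?_ ?_
      · rw [map_add, tt0]; abel
      · simp only [map_add, tt1, ← act ρ t01]; abel
    have h2 : ρ j (w + ρ t1 w + ρ t0 (w + ρ t1 w)) = -(w + ρ t1 w + ρ t0 (w + ρ t1 w)) := by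
      simp only [map_add, act ρ jt0, act ρ jt1, hw, map_neg]
      abel
    exact eq_zero_of_neg (h1.symm.trans h2)
  refine ⟨w - ρ t1 w + ρ t0 (w - ρ t1 w), ρ t0 w - w, ?_, ?_, ?_, ?_, ?_, ?_⟩
  · have h3 := three (ρ t0 w)
    have h4 : w = w - ρ t1 w + ρ t0 (w - ρ t1 w) + (ρ t0 w - w) + (w + ρ t1 w + ρ t0 (w + ρ t1 w)) -
        (ρ t0 w + ρ t0 w + ρ t0 w) := by
      rw [map_add, map_sub]; abel
    nth_rw 1 [h4]
    rw [e, h3, add_zero, sub_zero]
  · rw [map_add, tt0]; abel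
  · simp only [map_add, map_sub, tt1, ← act ρ t01]; abel
  · simp only [map_add, map_sub, act ρ jt0, act ρ jt1, hw, map_neg]; abel
  · rw [map_sub, tt0]; abel
  · simp only [map_sub, act ρ jt0, hw, map_neg]; abel

include hz hb in
theorem kap_fix_j {w : V} (hw : ρ j w = -w) : ρ j (kap ρ w) = kap ρ w := by
  obtain ⟨x, z, rfl, x0, x1, xj, z0, zj⟩ := decomp hz hb hw
  rw [map_add, kap_x x0 x1, kap_z z0, map_add, act ρ jk1, act ρ jk0, mul_act, mul_act, xj, zj, map_neg, map_neg,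
    map_neg, map_neg, ← act ρ k1t1, ← act ρ k0t0, x1, z0, map_neg, map_neg, neg_neg, neg_neg]

include hz hb in
theorem kap_kap {w : V} (hw : ρ j w = -w) : kap ρ (kap ρ w) = -w := by
  obtain ⟨x, z, rfl, x0, x1, xj, z0, zj⟩ := decomp hz hb hw
  have h1 : kap ρ (ρ k1 x) = ρ k1 (ρ k1 x) := by
    refine kap_x ?_ ?_
    · rw [← act ρ k1t0, x0]
    · rw [← act ρ k1t1, x1, map_neg]
  have h2 : kap ρ (ρ k0 z) = ρ k0 (ρ k0 z) := by
    refine kap_z ?_
    rw [← act ρ k0t0, z0, map_neg]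
  rw [map_add, kap_x x0 x1, kap_z z0, map_add, h1, h2, act1 ρ k11, act1 ρ kk0, x1, z0, neg_add]

theorem y7_act (v : V) : ρ y (ρ y (ρ y (ρ y (ρ y (ρ y (ρ y v)))))) = v := by
  simp only [← mul_act, mul_assoc, y7, one_act]

include hz ha hb in
/-- **Step 2**: `t0` and `t1` have no common nonzero fixed vector. -/
theorem s2 [Finite V] {v : V} (h0 : ρ t0 v = v) (h1 : ρ t1 v = v) : v = 0 := by
  let A : Type _ := {v : V // ρ t0 v = v ∧ ρ t1 v = v}
  let P : Type _ := {v : V // ρ j v = v}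
  let M : Type _ := {v : V // ρ j v = -v}
  have jj' : ∀ v : V, ρ j (ρ j v) = v := fun v => by rw [act1 ρ jj, hz]; rfl
  -- `|A| |M| ≤ |P|`
  have c1 : Nat.card A * Nat.card M ≤ Nat.card P := by
    rw [← Nat.card_prod]
    refine Nat.card_le_card_of_injective (fun x : A × M => (⟨x.1.1 + kap ρ x.2.1, ?_⟩ : P)) ?_
    · rw [map_add, j_fix hz hb x.1.2.1 x.1.2.2, kap_fix_j hz hb x.2.2]
    · rintro ⟨⟨a, ha⟩, ⟨m, hm⟩⟩ ⟨⟨a', ha'⟩, ⟨m', hm'⟩⟩ h
      have h2 : a + kap ρ m = a' + kap ρ m' := congrArg Subtype.val h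
      have h3 := congrArg (kap ρ) h2
      rw [map_add, map_add, kap_fix ha.1 ha.2, kap_fix ha'.1 ha'.2, kap_kap hz hb hm, kap_kap hz hb hm', zero_add,
        zero_add, neg_inj] at h3
      subst h3
      have h4 := add_right_cancel h2
      subst h4
      rfl
  -- `|V| ≤ |P| |M|`
  have c2 : Nat.card V ≤ Nat.card P * Nat.card M := by
    rw [← Nat.card_prod]
    refine Nat.card_le_card_of_injective (fun v : V => ((⟨v + ρ j v, by rw [map_add, jj']; abel⟩ : P),
      (⟨v - ρ j v, by rw [map_sub, jj']; abel⟩ : M))) ?_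
    intro v w h
    rw [Prod.mk.injEq] at h
    have h2 : v + ρ j v = w + ρ j w := congrArg Subtype.val h.1
    have h3 : v - ρ j v = w - ρ j w := congrArg Subtype.val h.2
    apply eq_of_add_self
    calc v + v = (v + ρ j v) + (v - ρ j v) := by abel
      _ = (w + ρ j w) + (w - ρ j w) := by rw [h2, h3]
      _ = w + w := by abel
  -- `|P| ^ 2 ≤ |V|`
  have c3 : Nat.card P * Nat.card P ≤ Nat.card V := by
    rw [← Nat.card_prod]
    refine Nat.card_le_card_of_injective (fun x : P × P => x.1.1 + ρ y (ρ y (ρ y x.2.1))) ?_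
    rintro ⟨⟨u, hu⟩, ⟨w, hw⟩⟩ ⟨⟨u', hu'⟩, ⟨w', hw'⟩⟩ h
    have h2 : u + ρ y (ρ y (ρ y w)) = u' + ρ y (ρ y (ρ y w')) := h
    have h3 : u - u' = ρ y (ρ y (ρ y (w' - w))) := by
      rw [map_sub, map_sub, map_sub, sub_eq_sub_iff_add_eq_add]
      exact h2.trans (add_comm _ _)
    have h4 : ρ j (u - u') = u - u' := by rw [map_sub, hu, hu']
    have h5 : ρ j (w' - w) = w' - w := by rw [map_sub, hw, hw']
    have h6 : ρ j (ρ y (u - u')) = u - u' := by
      have h60 := act ρ y3j (w' - w)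
      rw [h5, mul_act, mul_act, mul_act, ← h3] at h60
      exact h60.symm
    have h7 : ρ y (u - u') = u - u' := inj ρ j (h6.trans h4.symm)
    have h8 := ha _ h7
    rw [h8] at h3
    have h9 : w' - w = 0 := by
      apply inj ρ y; apply inj ρ y; apply inj ρ y
      rw [← h3]; simp
    rw [sub_eq_zero] at h8 h9
    subst h8
    subst h9
    rfl
  have hM : 0 < Nat.card M := Nat.card_pos_iff.2 ⟨⟨⟨0, by simp⟩⟩, inferInstance⟩
  have hP : 0 < Nat.card P := Nat.card_pos_iff.2 ⟨⟨⟨0, by simp⟩⟩, inferInstance⟩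
  have c4 : Nat.card P ≤ Nat.card M := Nat.le_of_mul_le_mul_left (c3.trans c2) hP
  have c5 : Nat.card A ≤ 1 := by
    refine Nat.le_of_mul_le_mul_right (c := Nat.card M) ?_ hM
    rw [one_mul]
    exact c1.trans c4
  have h2 : Subsingleton A := (Finite.card_le_one_iff_subsingleton).1 c5
  exact congrArg Subtype.val (Subsingleton.elim (⟨v, h0, h1⟩ : A) ⟨0, by simp⟩)

theorem p23a : p23 * t0 = t13 * p23 := by decide +kernel
theorem p23b : p23 * t1 = t24 * p23 := by decide +kernel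
theorem p24a : p24 * t0 = t14 * p24 := by decide +kernel
theorem p24b : p24 * t1 = t23 * p24 := by decide +kernel

include hz ha hb in
theorem s2_conj [Finite V] (g : SL6) {t u : SL6} (e1 : g * t0 = t * g) (e2 : g * t1 = u * g) {v : V}
    (h0 : ρ t v = v) (h1 : ρ u v = v) : v = 0 := by
  have h2 : ρ g⁻¹ v = 0 := by
    refine s2 hz ha hb ?_ ?_
    · apply inj ρ g; rw [act ρ e1, inv_act, h0]
    · apply inj ρ g; rw [act ρ e2, inv_act, h1]
  rw [← inv_act ρ g v, h2, map_zero]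

include hz ha hb in
/-- **Step 3**: `t2` has no nonzero fixed vector. -/
theorem s3 [Finite V] {v : V} (h2 : ρ t2 v = v) : v = 0 := by
  -- if `t` and `u` commute, are involutions, with product `t2` up to sign, `t v = - v`
  have key : ∀ (g t u : SL6), g * t0 = t * g → g * t1 = u * g → t2 * (t * u) = m1 → t * t = 1 → t * u = u * t →
      ρ t v = -v ∧ ρ u v = -v := by
    intro g t u e1 e2 e3 e4 e5
    have h3 : ρ t (ρ u v) = v := by
      have := act1 ρ e3 v
      rw [hz, mul_act] at this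
      have h4 : ρ t2 (ρ t (ρ u v)) = ρ t2 v := this.trans h2.symm
      exact inj ρ t2 h4
    have h4 : ρ u v = ρ t v := by
      have h5 := congrArg (ρ t) h3
      rwa [act1 ρ e4, one_act] at h5
    have h5 : v + ρ t v = 0 := by
      refine s2_conj hz ha hb g e1 e2 ?_ ?_
      · rw [map_add, act1 ρ e4, one_act, add_comm]
      · rw [map_add, h4, ← act ρ e5, h4, act1 ρ e4, one_act, add_comm]
    have h6 : ρ t v = -v := (neg_eq_of_add_eq_zero_right h5).symm
    exact ⟨h6, h4.trans h6⟩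
  have a1 := (key 1 t0 t1 (by simp) (by simp) (by decide +kernel) (by decide +kernel) (by decide +kernel)).1
  have a2 := (key p23 t13 t24 p23a p23b (by decide +kernel) (by decide +kernel) (by decide +kernel)).1
  have a3 := (key p24 t14 t23 p24a p24b (by decide +kernel) (by decide +kernel) (by decide +kernel)).2
  have e : t0 * t13 = t23 := by decide +kernel
  have h3 := act1 ρ e v
  rw [a2, a3, map_neg, a1, neg_neg] at h3
  exact eq_zero_of_neg h3

include hz ha hb in
/-- **Main result.** -/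
theorem main [Finite V] (v : V) : v = 0 := by
  have h2 : ∀ v : V, ρ t2 v = -v := by
    intro v
    have e : t2 * t2 = 1 := by decide +kernel
    have h : v + ρ t2 v = 0 := s3 hz ha hb (by rw [map_add, act1 ρ e, one_act, add_comm])
    exact (neg_eq_of_add_eq_zero_right h).symm
  have hc : ∀ (g t : SL6), g * t2 = t * g → ρ t v = -v := by
    intro g t e
    have := act ρ e (ρ g⁻¹ v)
    rw [inv_act, h2, map_neg, inv_act] at this
    exact this.symm
  have h0 := hc p02 t0 (by decide +kernel)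
  have h1 := hc (p01 * p02) t1 (by decide +kernel)
  have h3 := act1 ρ t012 v
  rw [mul_act, h1, map_neg, h0, neg_neg, h2, hz] at h3
  exact eq_zero_of_neg h3.symm

end

end Cfsg.Agent.H407.R3
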